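import Mathlib

/-!
Powers of 2x2 matrices over a finite field of odd order, and the two kinds of torus elements.
-/

set_option autoImplicit false

namespace Cfsg.Agent.H67

open Matrix

section Field

variable {F : Type*} [Field F] [Fintype F]

theorem two_ne_zero_of_odd (h : Odd (Fintype.card F)) : (2 : F) ≠ 0 := by
  intro h2
  have hc : ringChar F = 2 :=
    CharP.ringChar_of_prime_eq_zero Nat.prime_two (by exact_mod_cast h2)
  have := FiniteField.even_card_iff_char_two.1 hc
  obtain ⟨k, hk⟩ := h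
  omega

theorem sq_disc (M : Matrix (Fin 2) (Fin 2) F) :
    ((2 : F) • M - M.trace • 1) * ((2 : F) • M - M.trace • 1) = (M.trace ^ 2 - 4 * M.det) • 1 := by
  ext i j
  fin_cases i <;> fin_cases j <;>
    simp [Matrix.mul_apply, Fin.sum_univ_two, Matrix.det_fin_two, Matrix.trace_fin_two] <;> ring

/-- The three possibilities for the `q`-th power of a 2x2 matrix. -/
theorem pow_card_cases (h : Odd (Fintype.card F)) (M : Matrix (Fin 2) (Fin 2) F) :
    M ^ Fintype.card F = M ∨ M ^ Fintype.card F = M.trace • 1 - M ∨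
      M ^ ringChar F = (M.trace / 2) ^ ringChar F • 1 := by
  classical
  set q := Fintype.card F with hq
  have h2 : (2 : F) ≠ 0 := two_ne_zero_of_odd h
  set p := ringChar F with hpdef
  obtain ⟨n, hp, hn⟩ := FiniteField.card F p
  haveI := Fact.mk hp
  haveI : CharP (Matrix (Fin 2) (Fin 2) F) p := inferInstance
  set J := (2 : F) • M - M.trace • (1 : Matrix (Fin 2) (Fin 2) F) with hJ
  set D := M.trace ^ 2 - 4 * M.det
  have hcomm : Commute ((2 : F) • M) (M.trace • (1 : Matrix (Fin 2) (Fin 2) F)) :=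
    (Commute.one_right _).smul_right _
  by_cases hD : D = 0
  · right; right
    have hJ2 : J * J = 0 := by rw [hJ, sq_disc]; simp [show M.trace ^ 2 - 4 * M.det = 0 from hD]
    have hJp : J ^ p = 0 := by
      obtain ⟨k, hk⟩ := Nat.exists_eq_add_of_le hp.two_le
      rw [hk, pow_add, sq, hJ2, zero_mul]
    have h3 := sub_pow_char_pow_of_commute p 1 hcomm
    rw [pow_one, ← hJ, hJp, smul_pow, smul_pow, one_pow] at h3
    have h4 : (2 : F) ^ p • M ^ p = M.trace ^ p • (1 : Matrix (Fin 2) (Fin 2) F) :=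
      sub_eq_zero.1 h3.symm
    calc M ^ p = ((2 : F) ^ p)⁻¹ • ((2 : F) ^ p • M ^ p) := by
          rw [inv_smul_smul₀ (pow_ne_zero _ h2)]
      _ = (M.trace / 2) ^ p • 1 := by rw [h4, smul_smul, div_pow, div_eq_mul_inv, mul_comm]
  · have hJq : J ^ q = D ^ (q / 2) • J := by
      obtain ⟨k, hk⟩ := h
      rw [hk, show (2 * k + 1) / 2 = k by omega, pow_succ, pow_mul, sq, hJ, sq_disc, smul_pow,
        one_pow, smul_one_mul]
    have h3 : J ^ q = (2 : F) • M ^ q - M.trace • 1 := by
      have h4 := sub_pow_char_pow_of_commute p n hcomm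
      rw [← hn, ← hJ, smul_pow, smul_pow, one_pow, FiniteField.pow_card, FiniteField.pow_card] at h4
      exact h4
    have hrc : ringChar F ≠ 2 := fun hc => h2 (by
      have := ringChar.charP F
      rw [hc] at this
      exact_mod_cast CharP.cast_eq_zero F 2)
    rcases FiniteField.pow_dichotomy hrc hD with h5 | h5
    · left
      rw [h5, one_smul] at hJq
      rw [hJq, hJ, sub_left_inj] at h3
      exact (smul_right_injective _ h2 h3).symm
    · right; left
      rw [h5, neg_one_smul] at hJq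
      rw [hJq, hJ] at h3
      apply smul_right_injective _ h2
      show (2 : F) • M ^ q = (2 : F) • (M.trace • 1 - M)
      rw [← sub_eq_zero] at h3 ⊢
      rw [← neg_eq_zero, ← h3]
      module

theorem mul_trace_sub (M : Matrix (Fin 2) (Fin 2) F) :
    M * (M.trace • 1 - M) = M.det • 1 := by
  ext i j
  fin_cases i <;> fin_cases j <;>
    simp [Matrix.mul_apply, Fin.sum_univ_two, Matrix.det_fin_two, Matrix.trace_fin_two] <;> ring

/-- Some small power of an invertible 2x2 matrix is scalar. -/
theorem exists_pow_scalar (h : Odd (Fintype.card F)) (g : GL (Fin 2) F) :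
    (g ^ (Fintype.card F - 1) : GL (Fin 2) F).val = 1 ∨
      (g ^ (Fintype.card F + 1) : GL (Fin 2) F).val = g.val.det • 1 ∨
        ∃ c : F, (g ^ ringChar F : GL (Fin 2) F).val = c • 1 := by
  rcases pow_card_cases h g.val with h1 | h1 | h1
  · left
    have hpos : 1 ≤ Fintype.card F := Fintype.card_pos
    have h3 : g ^ Fintype.card F = g := Units.ext (by rw [Units.val_pow_eq_pow_val]; exact h1)
    rw [← Nat.sub_add_cancel hpos, pow_succ] at h3
    rw [mul_eq_right.1 h3]
    rfl
  · right; left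
    rw [Units.val_pow_eq_pow_val, pow_succ', h1, mul_trace_sub]
  · right; right
    exact ⟨_, by rw [Units.val_pow_eq_pow_val]; exact h1⟩

theorem sl_eq_one_or_neg_one_of_sq (h : Odd (Fintype.card F)) (z : Matrix (Fin 2) (Fin 2) F)
    (hdet : z.det = 1) (hz : z * z = 1) : z = 1 ∨ z = -1 := by
  have h2 : (2 : F) ≠ 0 := two_ne_zero_of_odd h
  have h1 := mul_trace_sub z
  rw [hdet, one_smul, mul_sub, hz, mul_smul_comm, mul_one] at h1
  -- `t z = 2`
  have h3 : z.trace • z = (2 : F) • 1 := by
    rw [two_smul]; exact sub_eq_iff_eq_add.1 h1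
  have ht : z.trace ≠ 0 := by
    intro ht
    rw [ht, zero_smul] at h3
    exact h2 (by simpa using (congrFun (congrFun h3 0) 0).symm)
  have hzs : z = (z.trace⁻¹ * 2) • 1 := by
    rw [← smul_smul, ← h3, inv_smul_smul₀ ht]
  set c := z.trace⁻¹ * 2
  rw [hzs] at hz
  have hc : c * c = 1 := by
    have := congrFun (congrFun hz 0) 0
    simpa using this
  rcases mul_self_eq_one_iff.1 hc with hc1 | hc1 <;> rw [hzs, hc1]
  · left; simp
  · right; simp

theorem mem_center_GL_two {g : GL (Fin 2) F} :
    g ∈ Subgroup.center (GL (Fin 2) F) ↔ ∃ c : F, g.val = c • 1 := by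
  rw [Matrix.GeneralLinearGroup.center_eq_range_scalar, MonoidHom.mem_range]
  constructor
  · rintro ⟨u, rfl⟩
    refine ⟨u, ?_⟩
    show Matrix.scalar (Fin 2) (u : F) = _
    rw [Matrix.scalar_apply, ← Matrix.smul_one_eq_diagonal]
  · rintro ⟨c, hc⟩
    have hc0 : c ≠ 0 := by
      rintro rfl
      have h1 := congrArg (fun m => m * ((g⁻¹ : GL (Fin 2) F)).val) hc
      simp [← Units.val_mul] at h1
    refine ⟨Units.mk0 c hc0, Units.ext ?_⟩
    rw [hc]
    show Matrix.scalar (Fin 2) c = _
    rw [Matrix.scalar_apply, ← Matrix.smul_one_eq_diagonal]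

theorem mem_center_SL_two {g : SpecialLinearGroup (Fin 2) F} :
    g ∈ Subgroup.center (SpecialLinearGroup (Fin 2) F) ↔ g.val = 1 ∨ g.val = -1 := by
  rw [Matrix.SpecialLinearGroup.mem_center_iff]
  constructor
  · rintro ⟨r, hr, hg⟩
    rw [Fintype.card_fin, sq, mul_self_eq_one_iff] at hr
    have hs : g.val = r • 1 := by
      rw [← hg, Matrix.scalar_apply, ← Matrix.smul_one_eq_diagonal]
    rcases hr with rfl | rfl
    · left; rw [hs, one_smul]
    · right; rw [hs, neg_one_smul]
  · rintro (h | h)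
    · exact ⟨1, by simp, by rw [h, map_one]⟩
    · exact ⟨-1, by simp, by rw [h, map_neg, map_one]⟩

/-- Orders of elements of `PGL₂`. -/
theorem orderOf_PGL_dvd (h : Odd (Fintype.card F))
    (x : GL (Fin 2) F ⧸ Subgroup.center (GL (Fin 2) F)) :
    orderOf x ∣ ringChar F ∨ orderOf x ∣ Fintype.card F - 1 ∨ orderOf x ∣ Fintype.card F + 1 := by
  obtain ⟨g, rfl⟩ := QuotientGroup.mk_surjective x
  have key : ∀ k : ℕ, (∃ c : F, (g ^ k : GL (Fin 2) F).val = c • 1) →
      orderOf (QuotientGroup.mk g : GL (Fin 2) F ⧸ Subgroup.center (GL (Fin 2) F)) ∣ k := by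
    intro k hk
    apply orderOf_dvd_of_pow_eq_one
    rw [← QuotientGroup.mk_pow, QuotientGroup.eq_one_iff]
    exact mem_center_GL_two.2 hk
  rcases exists_pow_scalar h g with h1 | h1 | ⟨c, h1⟩
  · exact Or.inr (Or.inl (key _ ⟨1, by rw [h1, one_smul]⟩))
  · exact Or.inr (Or.inr (key _ ⟨_, h1⟩))
  · exact Or.inl (key _ ⟨c, h1⟩)

/-- Orders of elements of `PSL₂`. -/
theorem orderOf_PSL_dvd (h : Odd (Fintype.card F))
    (x : SpecialLinearGroup (Fin 2) F ⧸ Subgroup.center (SpecialLinearGroup (Fin 2) F)) :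
    orderOf x ∣ ringChar F ∨ 2 * orderOf x ∣ Fintype.card F - 1 ∨ 2 * orderOf x ∣ Fintype.card F + 1 := by
  obtain ⟨g, rfl⟩ := QuotientGroup.mk_surjective x
  set G' : GL (Fin 2) F := SpecialLinearGroup.toGL g with hG'
  have hv : ∀ k : ℕ, (G' ^ k : GL (Fin 2) F).val = (g ^ k).val := fun k => by
    rw [hG', ← map_pow]; rfl
  have half : ∀ k : ℕ, (g ^ (2 * k)).val = 1 →
      2 * orderOf (QuotientGroup.mk g :
        SpecialLinearGroup (Fin 2) F ⧸ Subgroup.center (SpecialLinearGroup (Fin 2) F)) ∣ 2 * k := by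
    intro k hk
    apply Nat.mul_dvd_mul_left
    apply orderOf_dvd_of_pow_eq_one
    rw [← QuotientGroup.mk_pow, QuotientGroup.eq_one_iff, mem_center_SL_two]
    refine sl_eq_one_or_neg_one_of_sq h _ (g ^ k).2 ?_
    have h3 : g ^ (2 * k) = g ^ k * g ^ k := by rw [two_mul, pow_add]
    rw [h3] at hk
    exact hk
  obtain ⟨m, hm⟩ := h
  rcases exists_pow_scalar ⟨m, hm⟩ G' with h1 | h1 | ⟨c, h1⟩
  · refine Or.inr (Or.inl ?_)
    rw [hv, show Fintype.card F - 1 = 2 * m by omega] at h1
    rw [show Fintype.card F - 1 = 2 * m by omega]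
    exact half m h1
  · refine Or.inr (Or.inr ?_)
    rw [hv, show G'.val.det = 1 from g.2, one_smul, show Fintype.card F + 1 = 2 * (m + 1) by omega] at h1
    rw [show Fintype.card F + 1 = 2 * (m + 1) by omega]
    exact half _ h1
  · refine Or.inl ?_
    rw [hv] at h1
    apply orderOf_dvd_of_pow_eq_one
    rw [← QuotientGroup.mk_pow, QuotientGroup.eq_one_iff, mem_center_SL_two]
    have hc : c * c = 1 := by
      have h3 := (g ^ ringChar F).2
      rw [h1, Matrix.det_smul, Matrix.det_one, mul_one, Fintype.card_fin, sq] at h3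
      exact h3
    rcases mul_self_eq_one_iff.1 hc with rfl | rfl
    · left; rw [h1, one_smul]
    · right; rw [h1, neg_one_smul]

/-- A nonsquare and the resulting Singer-type matrix `[[a, b D], [b, a]]` of order `q² - 1`. -/
theorem exists_singer (h : Odd (Fintype.card F)) :
    ∃ (D a b : F) (g : GL (Fin 2) F), g.val = !![a, b * D; b, a] ∧ (∀ r : F, r ^ 2 ≠ D) ∧
      orderOf g = Fintype.card F ^ 2 - 1 := by
  classical
  have h2 := two_ne_zero_of_odd h
  have hrc : ringChar F ≠ 2 := fun hc => h2 (by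
    have := ringChar.charP F
    rw [hc] at this
    exact_mod_cast CharP.cast_eq_zero F 2)
  obtain ⟨D, hD⟩ := FiniteField.exists_nonsquare hrc
  have hD' : ∀ r : F, r ^ 2 ≠ D := fun r hr => hD ⟨r, by rw [← hr]; ring⟩
  haveI : Fact (∀ r : F, r ^ 2 ≠ D + 0 * r) := ⟨fun r => by simpa using hD' r⟩
  let e : QuadraticAlgebra F D 0 ≃ (Fin 2 → F) := (QuadraticAlgebra.linearEquivTuple D 0).toEquiv
  letI : Fintype (QuadraticAlgebra F D 0) := Fintype.ofEquiv _ e.symm
  have hcard : Fintype.card (QuadraticAlgebra F D 0) = Fintype.card F ^ 2 := by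
    rw [Fintype.card_congr e, Fintype.card_fun, Fintype.card_fin]
  obtain ⟨y, hy⟩ := IsCyclic.exists_ofOrder_eq_natCard (α := (QuadraticAlgebra F D 0)ˣ)
  rw [Nat.card_units, Nat.card_eq_fintype_card, hcard] at hy
  let L : QuadraticAlgebra F D 0 →* Matrix (Fin 2) (Fin 2) F :=
    { toFun := fun z => !![z.re, z.im * D; z.im, z.re]
      map_one' := by
        ext i j; fin_cases i <;> fin_cases j <;> simp [QuadraticAlgebra.re_one, QuadraticAlgebra.im_one]
      map_mul' := fun z w => by
        ext i j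
        fin_cases i <;> fin_cases j <;>
          simp [Matrix.mul_apply, Fin.sum_univ_two, QuadraticAlgebra.re_mul, QuadraticAlgebra.im_mul] <;>
          first | ring1 | (left; ring1) }
  have hL : Function.Injective L := fun z w hzw => by
    have h00 := congrFun (congrFun hzw 0) 0
    have h10 := congrFun (congrFun hzw 1) 0
    exact QuadraticAlgebra.ext (by simpa [L] using h00) (by simpa [L] using h10)
  refine ⟨D, (y : QuadraticAlgebra F D 0).re, (y : QuadraticAlgebra F D 0).im, Units.map L y, rfl, hD', ?_⟩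
  rw [orderOf_injective _ (Units.map_injective hL), hy]

/-- The matrices `[[a, b D], [b, a]]` are closed under powers. -/
theorem singer_pow (D a b : F) (k : ℕ) :
    ∃ a' b' : F, (!![a, b * D; b, a] : Matrix (Fin 2) (Fin 2) F) ^ k = !![a', b' * D; b', a'] := by
  induction k with
  | zero => exact ⟨1, 0, by ext i j; fin_cases i <;> fin_cases j <;> simp⟩
  | succ k ih =>
    obtain ⟨a', b', hk⟩ := ih
    refine ⟨a' * a + b' * D * b, b' * a + a' * b, ?_⟩
    rw [pow_succ, hk]
    ext i j
    fin_cases i <;> fin_cases j <;> simp [Matrix.mul_apply, Fin.sum_univ_two] <;> ring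

theorem orderOf_eq_of_iff {G : Type*} [Monoid G] {x : G} {n : ℕ}
    (h : ∀ k : ℕ, x ^ k = 1 ↔ n ∣ k) : orderOf x = n :=
  Nat.dvd_antisymm (orderOf_dvd_of_pow_eq_one ((h n).2 dvd_rfl)) ((h _).1 (pow_orderOf_eq_one x))

/-- `PGL₂(q)` has elements of orders `q + 1`, `q - 1` and `p`. -/
theorem exists_orderOf_PGL (h : Odd (Fintype.card F)) :
    (∃ x : GL (Fin 2) F ⧸ Subgroup.center (GL (Fin 2) F), orderOf x = Fintype.card F + 1) ∧
    (∃ x : GL (Fin 2) F ⧸ Subgroup.center (GL (Fin 2) F), orderOf x = Fintype.card F - 1) ∧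
    (∃ x : GL (Fin 2) F ⧸ Subgroup.center (GL (Fin 2) F), orderOf x = ringChar F) := by
  classical
  set q := Fintype.card F
  have hq : 1 < q := Fintype.one_lt_card
  refine ⟨?_, ?_, ?_⟩
  · obtain ⟨D, a, b, g, hg, hD, hord⟩ := exists_singer h
    refine ⟨QuotientGroup.mk g, orderOf_eq_of_iff fun k => ?_⟩
    rw [← QuotientGroup.mk_pow, QuotientGroup.eq_one_iff, mem_center_GL_two]
    constructor
    · rintro ⟨c, hc⟩
      have hc0 : c ≠ 0 := by
        rintro rfl
        have h1 := congrArg (fun m => m * ((g ^ k)⁻¹ : GL (Fin 2) F).val) hc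
        simp [← Units.val_mul] at h1
      have h1 : (g ^ k) ^ (q - 1) = 1 := Units.ext (by
        rw [Units.val_pow_eq_pow_val, hc, smul_pow, one_pow, FiniteField.pow_card_sub_one_eq_one c hc0,
          one_smul]
        rfl)
      rw [← pow_mul] at h1
      have h3 := orderOf_dvd_of_pow_eq_one h1
      rw [hord, show q ^ 2 - 1 = (q + 1) * (q - 1) by rw [← Nat.sq_sub_sq, one_pow]] at h3
      exact Nat.dvd_of_mul_dvd_mul_right (by omega) h3
    · rintro ⟨m, rfl⟩
      obtain ⟨a', b', hab⟩ := singer_pow D a b ((q + 1) * m)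
      refine ⟨a', ?_⟩
      have hcase : (g ^ (q + 1)).val = g.val.det • 1 := by
        rcases pow_card_cases h g.val with h1 | h1 | h1
        · exfalso
          have h3 : g ^ (q - 1) = 1 := by
            have h4 : g ^ q = g := Units.ext (by rw [Units.val_pow_eq_pow_val]; exact h1)
            rw [← Nat.sub_add_cancel hq.le, pow_succ] at h4
            exact mul_eq_right.1 h4
          have h5 := Nat.le_of_dvd (by omega) (orderOf_dvd_of_pow_eq_one h3)
          rw [hord] at h5
          have h6 : q * 2 ≤ q ^ 2 := by rw [sq]; exact Nat.mul_le_mul_left q hq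
          change q ^ 2 - 1 ≤ q - 1 at h5
          omega
        · rw [Units.val_pow_eq_pow_val, pow_succ', h1, mul_trace_sub]
        · exfalso
          have hd : g.val.trace ^ 2 - 4 * g.val.det = 4 * b ^ 2 * D := by
            rw [hg]; simp [Matrix.trace_fin_two, Matrix.det_fin_two]; ring
          obtain ⟨n, hp, hn⟩ := FiniteField.card F (ringChar F)
          have h3 : (g ^ (ringChar F * (q - 1))).val = 1 := by
            rw [Units.val_pow_eq_pow_val, pow_mul, h1, smul_pow, one_pow]
            have hne : g.val.trace / 2 ≠ 0 := by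
              intro h0
              have h4 : g.val ^ ringChar F = 0 := by
                rw [h1, h0, zero_pow hp.ne_zero, zero_smul]
              have h5 := (g ^ ringChar F).isUnit
              rw [Units.val_pow_eq_pow_val, h4] at h5
              exact not_isUnit_zero h5
            rw [FiniteField.pow_card_sub_one_eq_one _ (pow_ne_zero _ hne), one_smul]
          have h5 := Nat.le_of_dvd (Nat.mul_pos hp.pos (by omega))
            (orderOf_dvd_of_pow_eq_one (Units.ext h3 : g ^ (ringChar F * (q - 1)) = 1))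
          rw [hord, show q ^ 2 - 1 = (q + 1) * (q - 1) by rw [← Nat.sq_sub_sq, one_pow]] at h5
          have h6 : q + 1 ≤ ringChar F := Nat.le_of_mul_le_mul_right h5 (by omega)
          have h7 : ringChar F ∣ q := (dvd_pow_self _ n.ne_zero).trans (dvd_of_eq hn.symm)
          have := Nat.le_of_dvd (by omega) h7
          omega
      have h1 : (g ^ ((q + 1) * m)).val = g.val.det ^ m • 1 := by
        rw [pow_mul, Units.val_pow_eq_pow_val, hcase, smul_pow, one_pow]
      rw [h1]
      have h8 : (g ^ ((q + 1) * m)).val = !![a', b' * D; b', a'] := by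
        rw [Units.val_pow_eq_pow_val, hg, hab]
      have h9 := congrFun (congrFun (h1.symm.trans h8) 0) 0
      simp at h9
      rw [h9]
  · obtain ⟨u, hu⟩ := IsCyclic.exists_ofOrder_eq_natCard (α := Fˣ)
    rw [Nat.card_units, Nat.card_eq_fintype_card] at hu
    let d : Fˣ →* GL (Fin 2) F :=
      { toFun := fun x => Matrix.GeneralLinearGroup.mkOfDetNeZero !![(x : F), 0; 0, 1] (by simp [Matrix.det_fin_two])
        map_one' := Units.ext (by ext i j; fin_cases i <;> fin_cases j <;> simp)
        map_mul' := fun x y => Units.ext (by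
          ext i j; fin_cases i <;> fin_cases j <;> simp [Matrix.mul_apply, Fin.sum_univ_two]) }
    refine ⟨QuotientGroup.mk (d u), orderOf_eq_of_iff fun k => ?_⟩
    rw [← QuotientGroup.mk_pow, QuotientGroup.eq_one_iff, mem_center_GL_two, ← hu,
      orderOf_dvd_iff_pow_eq_one, ← map_pow]
    constructor
    · rintro ⟨c, hc⟩
      have h00 := congrFun (congrFun hc 0) 0
      have h11 := congrFun (congrFun hc 1) 1
      simp [d] at h00 h11
      rw [← h11] at h00
      exact Units.ext (by simpa using h00)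
    · intro h1
      exact ⟨1, by rw [h1, map_one, one_smul]; rfl⟩
  · obtain ⟨n, hp, hn⟩ := FiniteField.card F (ringChar F)
    haveI := Fact.mk hp
    let g : GL (Fin 2) F := Matrix.GeneralLinearGroup.mkOfDetNeZero !![1, 1; 0, 1] (by simp [Matrix.det_fin_two])
    refine ⟨QuotientGroup.mk g, orderOf_eq_of_iff fun k => ?_⟩
    rw [← QuotientGroup.mk_pow, QuotientGroup.eq_one_iff, mem_center_GL_two]
    have hk : ∀ k : ℕ, (g ^ k).val = !![1, (k : F); 0, 1] := by
      intro k
      rw [Units.val_pow_eq_pow_val]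
      induction k with
      | zero => ext i j; fin_cases i <;> fin_cases j <;> simp
      | succ k ih =>
        rw [pow_succ, ih]
        ext i j; fin_cases i <;> fin_cases j <;> simp [g, Matrix.mul_apply, Fin.sum_univ_two, add_comm]
    rw [hk, ← CharP.cast_eq_zero_iff F (ringChar F)]
    constructor
    · rintro ⟨c, hc⟩
      simpa using congrFun (congrFun hc 0) 1
    · intro h1
      exact ⟨1, by rw [h1]; ext i j; fin_cases i <;> fin_cases j <;> simp⟩

/-- The spectrum of `PGL₂(q)`, `q` odd. -/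
theorem range_orderOf_PGL (h : Odd (Fintype.card F)) :
    Set.range (orderOf : GL (Fin 2) F ⧸ Subgroup.center (GL (Fin 2) F) → ℕ) =
      {n | n ∣ ringChar F ∨ n ∣ Fintype.card F - 1 ∨ n ∣ Fintype.card F + 1} := by
  classical
  ext n
  constructor
  · rintro ⟨x, rfl⟩
    exact orderOf_PGL_dvd h x
  · intro hn
    obtain ⟨⟨x, hx⟩, ⟨y, hy⟩, ⟨z, hz⟩⟩ := exists_orderOf_PGL h
    rcases hn with hn | hn | hn
    · exact ⟨z ^ (orderOf z / n), orderOf_pow_orderOf_div (orderOf_pos z).ne' (hz ▸ hn)⟩
    · exact ⟨y ^ (orderOf y / n), orderOf_pow_orderOf_div (orderOf_pos y).ne' (hy ▸ hn)⟩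
    · exact ⟨x ^ (orderOf x / n), orderOf_pow_orderOf_div (orderOf_pos x).ne' (hx ▸ hn)⟩

end Field

end Cfsg.Agent.H67
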