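import Cfsg.Agent.Unitary.Center
import Mathlib.Algebra.QuadraticAlgebra.Basic

/-!
The element orders of `PSU₃(3)`.
-/

set_option autoImplicit false
set_option maxRecDepth 10000

namespace Cfsg.Agent.H67.U33

open Matrix Cfsg Cfsg.Agent.Unitary

/-- The field with nine elements. -/
abbrev K9 : Type := QuadraticAlgebra (ZMod 3) 2 0

local instance : Fintype K9 := Fintype.ofEquiv _ (QuadraticAlgebra.equivProd (2 : ZMod 3) 0).symm

/-- One step of the recursion for powers of a matrix with `A³ = a A² - a³ A + 1`. -/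
def step (a : K9) (c : K9 × K9 × K9) : K9 × K9 × K9 :=
  (c.2.2, c.1 - a ^ 3 * c.2.2, c.2.1 + a * c.2.2)

/-- Iterated step. -/
def iter (a : K9) : ℕ → K9 × K9 × K9
  | 0 => (1, 0, 0)
  | k + 1 => step a (iter a k)

theorem iter_table : ∀ a : K9,
    iter a 12 = (1, 0, 0) ∨ iter a 8 = (1, 0, 0) ∨ iter a 7 = (1, 0, 0) := by decide +kernel

theorem pow_eight : ∀ x : K9, x ≠ 0 → x ^ 8 = 1 := by decide +kernel

theorem pow_frob : ∀ x : K9, x ^ 9 = x := by decide +kernel

/-- order 8 -/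
def w8 : Matrix (Fin 3) (Fin 3) K9 := !![0, 0, ⟨0, 1⟩; 0, ⟨0, 1⟩, 0; 1, 0, 0]
/-- order 7 -/
def w7 : Matrix (Fin 3) (Fin 3) K9 := !![0, 0, ⟨0, 1⟩; ⟨1, 1⟩, ⟨1, 1⟩, 0; ⟨1, 1⟩, ⟨2, 2⟩, 0]
/-- order 12 -/
def w12 : Matrix (Fin 3) (Fin 3) K9 := !![0, 0, ⟨0, 1⟩; ⟨1, 1⟩, ⟨2, 1⟩, 0; ⟨1, 2⟩, ⟨2, 2⟩, 0]

/-- Membership of a matrix in `SU₃(3)`. -/
def Good (M : Matrix (Fin 3) (Fin 3) K9) : Prop :=
  Mᵀ * M.map (fun x => x ^ 3) = 1 ∧ M.det = 1

instance (M : Matrix (Fin 3) (Fin 3) K9) : Decidable (Good M) := inferInstanceAs (Decidable (_ ∧ _))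

theorem w_facts : w8 ^ 8 = 1 ∧ ¬ w8 ^ 4 = 1 ∧ w7 ^ 7 = 1 ∧ ¬ w7 = 1 ∧
    w12 ^ 12 = 1 ∧ ¬ w12 ^ 6 = 1 ∧ ¬ w12 ^ 4 = 1 ∧ Good w8 ∧ Good w7 ∧ Good w12 := by
  decide +kernel

variable {F : Type*} [Field F] [Fintype F]

theorem exists_equiv (hF : Fintype.card F = 9) :
    ∃ φ : K9 →+* F, Function.Bijective φ := by
  classical
  have h3 : (3 : F) = 0 := by
    have h := FiniteField.cast_card_eq_zero F
    rw [hF, show (9 : ℕ) = 3 * 3 from rfl, Nat.cast_mul, mul_self_eq_zero] at h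
    exact_mod_cast h
  haveI : CharP F 3 := (CharP.charP_iff_prime_eq_zero Nat.prime_three).2 (by exact_mod_cast h3)
  letI : Algebra (ZMod 3) F := ZMod.algebra F 3
  obtain ⟨u, hu⟩ : ∃ u : F, u * u = 2 := by
    have hsq : IsSquare (2 : F) := by
      rw [FiniteField.isSquare_iff (by rw [ringChar.eq F 3]; norm_num)
        (by intro h; apply (one_ne_zero (α := F)); linear_combination h3 - h)]
      rw [hF, show (9 : ℕ) / 2 = 4 from rfl]
      linear_combination (5 : F) * h3
    obtain ⟨u, hu⟩ := hsq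
    exact ⟨u, hu.symm⟩
  let φ : K9 →ₐ[ZMod 3] F := QuadraticAlgebra.lift ⟨u, by
    rw [zero_smul, add_zero, hu, Algebra.smul_def, mul_one]
    exact (map_ofNat (algebraMap (ZMod 3) F) 2).symm⟩
  have hinj : Function.Injective φ.toRingHom := by
    refine (injective_iff_map_eq_zero φ).2 fun x hx => ?_
    by_contra h
    have := congrArg φ (pow_eight x h)
    rw [map_pow, hx, zero_pow (by norm_num), map_one] at this
    exact zero_ne_one this
  refine ⟨φ.toRingHom, (Fintype.bijective_iff_injective_and_card _).2 ⟨hinj, ?_⟩⟩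
  rw [hF]
  rfl

theorem cayley (A : Matrix (Fin 3) (Fin 3) F) :
    A * A * A = A.trace • (A * A) - A.adjugate.trace • A + A.det • 1 := by
  ext i j
  fin_cases i <;> fin_cases j <;>
    simp [Matrix.mul_apply, Fin.sum_univ_three, Matrix.det_fin_three, Matrix.trace_fin_three,
      Matrix.adjugate_fin_three] <;> ring

theorem trace_adjugate (hF : Fintype.card F = 3 ^ 2) {A : Matrix (Fin 3) (Fin 3) F}
    (hA : Preserves 3 A) (hd : A.det = 1) : A.adjugate.trace = A.trace ^ 3 := by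
  have h := (preserves_iff_transpose_mul hF).1 hA
  have h1 : (Aᵀ).adjugate * Aᵀ = 1 := by
    rw [Matrix.adjugate_mul, Matrix.det_transpose, hd, one_smul]
  have h2 : A.map (fun x => x ^ 3) = (Aᵀ).adjugate := by
    calc A.map (fun x => x ^ 3) = ((Aᵀ).adjugate * Aᵀ) * A.map (fun x => x ^ 3) := by rw [h1, one_mul]
      _ = (Aᵀ).adjugate := by rw [mul_assoc, h, mul_one]
  have h4 : (A.trace) ^ 3 = (A.map fun x => x ^ 3).trace := by
    haveI : Fact (Nat.Prime 3) := ⟨Nat.prime_three⟩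
    haveI : CharP F 3 := charP_of_card_eq_prime_pow hF
    simp only [Matrix.trace_fin_three, Matrix.map_apply, add_pow_char]
  rw [h4, h2, ← Matrix.adjugate_transpose, Matrix.trace_transpose]

theorem range_orderOf_PSU (hF : Fintype.card F = 9) :
    Set.range (orderOf : Cfsg.PSU 3 F 3 → ℕ) = {n | n ∣ 12 ∨ n ∣ 8 ∨ n ∣ 7} := by
  obtain ⟨φ, hφ⟩ := exists_equiv hF
  have hF' : Fintype.card F = 3 ^ 2 := hF
  haveI hfin : Finite (SU 3 F 3) := inferInstance
  have hcen : Subgroup.center (SU 3 F 3) = ⊥ := by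
    have h := card_center_SU (n := 3) (q := 3) hF' (by norm_num)
    exact Subgroup.card_eq_one.1 (h.trans rfl)
  let π : SU 3 F 3 →* Cfsg.PSU 3 F 3 := QuotientGroup.mk' _
  have hπ : Function.Injective π := by
    rw [← MonoidHom.ker_eq_bot_iff]
    exact (QuotientGroup.ker_mk' _).trans hcen
  let v : SU 3 F 3 →* Matrix (Fin 3) (Fin 3) F :=
    (slToMat 3 F).comp (SU 3 F 3).subtype
  have hv : Function.Injective v := fun a b h => Subtype.ext (Subtype.ext h)
  ext n
  constructor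
  · rintro ⟨x, rfl⟩
    obtain ⟨g, rfl⟩ : ∃ g, π g = x := QuotientGroup.mk_surjective x
    rw [orderOf_injective π hπ, ← orderOf_injective v hv]
    set A := v g
    have hA : Preserves 3 A := g.2
    have hd : A.det = 1 := g.1.2
    obtain ⟨a, ha⟩ := hφ.2 A.trace
    have hc := cayley A
    rw [trace_adjugate hF' hA hd, hd, one_smul, ← ha, ← map_pow] at hc
    have key : ∀ k, A ^ k = φ (iter a k).1 • (1 : Matrix (Fin 3) (Fin 3) F) +
        φ (iter a k).2.1 • A + φ (iter a k).2.2 • (A * A) := by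
      intro k
      induction k with
      | zero => simp [iter]
      | succ k ih =>
        rw [pow_succ, ih, add_mul, add_mul, smul_mul_assoc, smul_mul_assoc, smul_mul_assoc, one_mul, hc]
        simp only [iter, step, map_add, map_sub, map_mul]
        module
    have fin : ∀ k, iter a k = (1, 0, 0) → A ^ k = 1 := by
      intro k hk
      rw [key, hk]
      simp
    exact (iter_table a).imp (fun h => orderOf_dvd_of_pow_eq_one (fin _ h))
      (Or.imp (fun h => orderOf_dvd_of_pow_eq_one (fin _ h))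
        (fun h => orderOf_dvd_of_pow_eq_one (fin _ h)))
  · intro hn
    have hm : Function.Injective (φ.mapMatrix (m := Fin 3)) := Matrix.map_injective hφ.1
    have mk : ∀ (w : Matrix (Fin 3) (Fin 3) K9) (k : ℕ), Good w → orderOf w = k →
        ∃ x : Cfsg.PSU 3 F 3, orderOf x = k := by
      intro w k hw ho
      have hp : Preserves 3 (φ.mapMatrix w) := by
        rw [preserves_iff_transpose_mul hF', ← map_one φ.mapMatrix, ← hw.1, map_mul]
        congr 1
        ext i j
        simp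
      have hd' : (φ.mapMatrix w).det = 1 := by rw [← RingHom.map_det, hw.2, map_one]
      refine ⟨π (toSU hp hd'), ?_⟩
      rw [orderOf_injective π hπ, ← orderOf_injective v hv]
      show orderOf (φ.mapMatrix w) = k
      exact (orderOf_injective (φ.mapMatrix (m := Fin 3)).toMonoidHom hm w).trans ho
    obtain ⟨h1, h2, h3, h4, h5, h6, h7, g8, g7, g12⟩ := w_facts
    have o8 : orderOf w8 = 8 := by
      haveI : Fact (Nat.Prime 2) := ⟨Nat.prime_two⟩
      show orderOf w8 = 2 ^ (2 + 1)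
      exact orderOf_eq_prime_pow h2 h1
    have o7 : orderOf w7 = 7 := by
      haveI : Fact (Nat.Prime 7) := ⟨by norm_num⟩
      exact orderOf_eq_prime h3 h4
    have o12 : orderOf w12 = 12 := by
      refine orderOf_eq_of_pow_and_pow_div_prime (by norm_num) h5 fun p hp hd => ?_
      rcases (show ∀ p ≤ 12, p.Prime → p ∣ 12 → p = 2 ∨ p = 3 by decide) p
        (Nat.le_of_dvd (by norm_num) hd) hp hd with rfl | rfl
      · exact h6
      · exact h7
    have key : ∀ k, (∃ x : Cfsg.PSU 3 F 3, orderOf x = k) → n ∣ k →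
        n ∈ Set.range (orderOf : Cfsg.PSU 3 F 3 → ℕ) := by
      rintro k ⟨x, rfl⟩ hd
      exact ⟨_, orderOf_pow_orderOf_div (orderOf_pos x).ne' hd⟩
    rcases hn with hn | hn | hn
    · exact key _ (mk w12 _ g12 o12) hn
    · exact key _ (mk w8 _ g8 o8) hn
    · exact key _ (mk w7 _ g7 o7) hn

end Cfsg.Agent.H67.U33
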