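import Cfsg.Agent.H67.U34Group
import Cfsg.Agent.H53.SUInvol
import Cfsg.Agent.Unitary.Center

/-!
Arbitrarily large groups with the prime graph of `PSU₃(4)`.
-/

set_option autoImplicit false
set_option maxRecDepth 100000

namespace Cfsg.Agent.H67.U34

open Matrix Cfsg Cfsg.Agent.Unitary

/-- The special unitary group over the model field. -/
def G16 : Subgroup (Matrix.SpecialLinearGroup (Fin 3) K16) where
  carrier := {g | Good (g : M16)}
  one_mem' := good_one
  mul_mem' := fun ha hb => good_mul ha hb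
  inv_mem' := fun {a} ha => by
    haveI : Finite (Matrix.SpecialLinearGroup (Fin 3) K16) := Subtype.finite
    have h : a⁻¹ = a ^ (orderOf a - 1) := by
      rw [inv_eq_iff_mul_eq_one, ← pow_succ', Nat.sub_add_cancel (orderOf_pos a), pow_orderOf_eq_one]
    show Good ((a⁻¹ : Matrix.SpecialLinearGroup (Fin 3) K16) : M16)
    rw [h, Matrix.SpecialLinearGroup.coe_pow]
    exact good_pow ha _

instance : Finite G16 :=
  haveI : Finite (Matrix.SpecialLinearGroup (Fin 3) K16) := Subtype.finite
  Subtype.finite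

/-- An element of the group. -/
def mk16 (M : M16) (h : Good M) : G16 := ⟨⟨M, h.2⟩, h⟩

/-- The matrix of an element. -/
def mat16 : G16 →* M16 where
  toFun g := ((g : Matrix.SpecialLinearGroup (Fin 3) K16) : M16)
  map_one' := rfl
  map_mul' _ _ := rfl

theorem mat16_injective : Function.Injective mat16 := fun a b h => Subtype.ext (Subtype.ext h)

theorem mat16_good (g : G16) : Good (mat16 g) := g.2

section Iso

variable {F : Type*} [Field F] [Fintype F]

theorem nonempty_ringEquiv (hF : Fintype.card F = 16) : Nonempty (K16 ≃+* F) := by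
  letI := fintypeK4
  letI := fintypeK16
  haveI : Nontrivial K16 := ⟨⟨0, 1, fun h => by
    have := congrArg ecode h
    rw [code_facts.2.2.2.2.2.1, code_facts.2.2.2.2.2.2] at this
    exact zero_ne_one this⟩⟩
  haveI : NoZeroDivisors K16 := ⟨fun {x y} h => field_facts.2 x y h⟩
  haveI : IsDomain K16 := NoZeroDivisors.to_isDomain K16
  letI : Field K16 := (Finite.isField_of_domain K16).toField
  refine ⟨FiniteField.ringEquivOfCardEq ?_⟩
  rw [hF]
  show Fintype.card K16 = 16
  decide +kernel

theorem nonempty_SU_equiv (hF : Fintype.card F = 16) : Nonempty (G16 ≃* SU 3 F 4) := by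
  have hF' : Fintype.card F = 4 ^ 2 := hF
  obtain ⟨e⟩ := nonempty_ringEquiv hF
  have hpres : ∀ g : G16, Preserves 4 (e.toRingHom.mapMatrix (mat16 g)) := by
    intro g
    rw [preserves_iff_transpose_mul hF', ← map_one e.toRingHom.mapMatrix, ← (mat16_good g).1, map_mul]
    congr 1
    refine Matrix.ext fun i j => ?_
    simp
  have hdet : ∀ g : G16, (e.toRingHom.mapMatrix (mat16 g)).det = 1 := fun g => by
    rw [← RingHom.map_det, (mat16_good g).2, map_one]
  let f : G16 →* SU 3 F 4 :=
    { toFun := fun g => toSU (hpres g) (hdet g)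
      map_one' := Subtype.ext (Subtype.ext ((congrArg e.toRingHom.mapMatrix (map_one mat16)).trans (map_one _)))
      map_mul' := fun a b => Subtype.ext (Subtype.ext
        ((congrArg e.toRingHom.mapMatrix (map_mul mat16 a b)).trans (map_mul _ _ _))) }
  refine ⟨MulEquiv.ofBijective f ⟨fun a b h => mat16_injective ?_, fun g => ?_⟩⟩
  · have h1 : e.toRingHom.mapMatrix (mat16 a) = e.toRingHom.mapMatrix (mat16 b) :=
      congrArg (fun x : SU 3 F 4 => ((x : Matrix.SpecialLinearGroup (Fin 3) F) : Matrix (Fin 3) (Fin 3) F)) h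
    exact Matrix.map_injective e.injective h1
  · let v : Matrix (Fin 3) (Fin 3) F := ((g : Matrix.SpecialLinearGroup (Fin 3) F) : Matrix (Fin 3) (Fin 3) F)
    have hgood : Good (e.symm.toRingHom.mapMatrix v) := by
      refine ⟨?_, ?_⟩
      · have h := congrArg e.symm.toRingHom.mapMatrix
          ((preserves_iff_transpose_mul hF').1 (mem_SU_iff.1 g.2))
        rw [map_mul, map_one] at h
        rw [← h]
        congr 1
        refine Matrix.ext fun i j => ?_
        simp [v]
      · rw [← RingHom.map_det, show v.det = 1 from (g : Matrix.SpecialLinearGroup (Fin 3) F).2, map_one]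
    refine ⟨mk16 _ hgood, Subtype.ext (Subtype.ext ?_)⟩
    refine Matrix.ext fun i j => ?_
    show e (e.symm (v i j)) = v i j
    exact e.apply_symm_apply _

theorem nonempty_PSU_equiv (hF : Fintype.card F = 16) :
    Nonempty (G16 ≃* Cfsg.PSU 3 F 4) ∧ Nat.card G16 = 62400 := by
  have hF' : Fintype.card F = 4 ^ 2 := hF
  obtain ⟨f⟩ := nonempty_SU_equiv hF
  have hcen : Subgroup.center (SU 3 F 4) = ⊥ := by
    have h := Unitary.card_center_SU (n := 3) (q := 4) hF' (by norm_num)
    exact Subgroup.card_eq_one.1 (h.trans rfl)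
  let π : SU 3 F 4 →* Cfsg.PSU 3 F 4 := QuotientGroup.mk' _
  have hπ : Function.Bijective π := by
    refine ⟨?_, QuotientGroup.mk_surjective⟩
    rw [← MonoidHom.ker_eq_bot_iff]
    exact (QuotientGroup.ker_mk' _).trans hcen
  refine ⟨⟨f.trans (MulEquiv.ofBijective π hπ)⟩, ?_⟩
  rw [Nat.card_congr f.toEquiv, H53.card_SU_three hF']
  norm_num

end Iso

/-- The element of order 13. -/
def s16 : G16 := mk16 S special_good.1

/-- Coded powers. -/
def powN (m : List ℕ) : ℕ → List ℕ
  | 0 => [1, 0, 0, 0, 1, 0, 0, 0, 1]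
  | i + 1 => mulN (powN m i) m

theorem mcode_one : mcode 1 = [1, 0, 0, 0, 1, 0, 0, 0, 1] := by
  simp [mcode, code_facts.2.2.2.2.2.1, code_facts.2.2.2.2.2.2]

theorem mcode_mul (a b : M16) : mcode (a * b) = mulN (mcode a) (mcode b) := by
  simp only [mcode, mulN, entN, Matrix.mul_apply, Fin.sum_univ_three, code_facts.2.1, code_facts.2.2.1]
  rfl

theorem mcode_pow (M : M16) : ∀ i, mcode (M ^ i) = powN (mcode M) i
  | 0 => by rw [pow_zero]; exact mcode_one
  | i + 1 => by rw [pow_succ, mcode_mul, mcode_pow M i]; rfl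

theorem orderOf_of_code (M : M16) (h : Good M) (n : ℕ) (hn : 0 < n)
    (hc : (powN (mcode M) n == [1, 0, 0, 0, 1, 0, 0, 0, 1] &&
      (List.range n).all fun d => d == 0 || powN (mcode M) d != [1, 0, 0, 0, 1, 0, 0, 0, 1]) = true) :
    orderOf (mk16 M h) = n := by
  simp only [Bool.and_eq_true, beq_iff_eq, List.all_eq_true, List.mem_range, bne_iff_ne,
    Bool.or_eq_true] at hc
  rw [← orderOf_injective mat16 mat16_injective, orderOf_eq_iff hn]
  refine ⟨?_, fun d hd hd0 heq => ?_⟩
  · show M ^ n = 1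
    rw [← mdec_mcode (M ^ n), mcode_pow, hc.1, ← mcode_one, mdec_mcode]
  · refine (hc.2 d hd).resolve_left (by omega) ?_
    rw [← mcode_pow, show M ^ d = 1 from heq, mcode_one]

theorem orders : orderOf s16 = 13 ∧ (∃ g : G16, orderOf g = 10) ∧ ∃ g : G16, orderOf g = 15 :=
  ⟨orderOf_of_code S special_good.1 13 (by norm_num) (by decide +kernel),
    ⟨_, orderOf_of_code T10 special_good.2.1 10 (by norm_num) (by decide +kernel)⟩,
    ⟨_, orderOf_of_code T15 special_good.2.2 15 (by norm_num) (by decide +kernel)⟩⟩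

/-- The space of functions spanned by the translates of the kernel. -/
def mod16 : AddSubgroup (G16 → ZMod 5) :=
  AddSubgroup.closure (Set.range fun a g => psi (mat16 a) (mat16 g))

/-- Translation. -/
def shift (h : G16) : (G16 → ZMod 5) ≃+ (G16 → ZMod 5) where
  toFun f g := f (h⁻¹ * g)
  invFun f g := f (h * g)
  left_inv f := funext fun g => by simp
  right_inv f := funext fun g => by simp
  map_add' _ _ := rfl

theorem shift_mem (h : G16) {f : G16 → ZMod 5} (hf : f ∈ mod16) : shift h f ∈ mod16 := by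
  induction hf using AddSubgroup.closure_induction with
  | mem f hf =>
    obtain ⟨a, rfl⟩ := hf
    refine AddSubgroup.subset_closure ⟨h * a, funext fun g => ?_⟩
    show psi (mat16 (h * a)) (mat16 g) = psi (mat16 a) (mat16 (h⁻¹ * g))
    rw [← psi_invariant (mat16_good h) (mat16 a), ← map_mul, ← map_mul, mul_inv_cancel_left]
  | zero => rw [map_zero]; exact zero_mem _
  | add x y _ _ hx hy => rw [map_add]; exact add_mem hx hy
  | neg x _ hx => rw [map_neg]; exact neg_mem hx

theorem sum_shift {f : G16 → ZMod 5} (hf : f ∈ mod16) : ∑ l ∈ Finset.range 13, shift (s16 ^ l)⁻¹ f = 0 := by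
  induction hf using AddSubgroup.closure_induction with
  | mem f hf =>
    obtain ⟨a, rfl⟩ := hf
    funext g
    rw [Finset.sum_apply]
    refine Eq.trans (Finset.sum_congr rfl fun l _ => ?_) (sum_orbit_eq_zero (mat16_good a) (mat16_good g))
    show psi (mat16 a) (mat16 ((s16 ^ l)⁻¹⁻¹ * g)) = psi (mat16 a) (S ^ l * mat16 g)
    rw [inv_inv, map_mul, map_pow]
    rfl
  | zero => simp
  | add x y _ _ hx hy => simp only [map_add, Finset.sum_add_distrib, hx, hy, add_zero]
  | neg x _ hx => simp only [map_neg, Finset.sum_neg_distrib, hx, neg_zero]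

theorem thirteen_ne : (13 : ZMod 5) ≠ 0 := by decide

theorem fixed_eq_zero {f : G16 → ZMod 5} (hf : f ∈ mod16) (h : shift s16 f = f) : f = 0 := by
  have hl : ∀ l : ℕ, shift (s16 ^ l)⁻¹ f = f := by
    intro l
    induction l with
    | zero => funext g; simp [shift]
    | succ l ih =>
      conv_lhs => rw [← h]
      funext g
      show f (s16⁻¹ * ((s16 ^ (l + 1))⁻¹⁻¹ * g)) = f g
      have := congrFun ih g
      rw [← this]
      show _ = f ((s16 ^ l)⁻¹⁻¹ * g)
      rw [inv_inv, inv_inv, pow_succ', mul_assoc, inv_mul_cancel_left]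
  have h13 := sum_shift hf
  simp only [hl, Finset.sum_const, Finset.card_range] at h13
  funext g
  haveI : Fact (Nat.Prime 5) := ⟨Nat.prime_five⟩
  have h1 : (13 : ZMod 5) * f g = 0 := by simpa using congrFun h13 g
  exact (mul_eq_zero.1 h1).resolve_left thirteen_ne

/-- The module: powers of the space of translates. -/
abbrev W16 (m : ℕ) : Type := Multiplicative (Fin m → mod16)

/-- The action of one element. -/
def actW (m : ℕ) (h : G16) : MulAut (W16 m) :=
  AddEquiv.toMultiplicative
    { toFun := fun f i => ⟨shift h (f i).1, shift_mem h (f i).2⟩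
      invFun := fun f i => ⟨shift h⁻¹ (f i).1, shift_mem h⁻¹ (f i).2⟩
      left_inv := fun f => funext fun i => Subtype.ext (funext fun g => by simp [shift])
      right_inv := fun f => funext fun i => Subtype.ext (funext fun g => by simp [shift])
      map_add' := fun f f' => funext fun i => Subtype.ext (map_add (shift h) _ _) }

/-- The action. -/
def act16 (m : ℕ) : G16 →* MulAut (W16 m) where
  toFun := actW m
  map_one' := MulEquiv.ext fun f => Multiplicative.toAdd.injective (funext fun i => Subtype.ext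
    (funext fun g => by
      show ((Multiplicative.toAdd f) i).1 ((1 : G16)⁻¹ * g) = _
      rw [inv_one, one_mul]; rfl))
  map_mul' a b := MulEquiv.ext fun f => Multiplicative.toAdd.injective (funext fun i => Subtype.ext
    (funext fun g => by
      show ((Multiplicative.toAdd f) i).1 ((a * b)⁻¹ * g) = ((Multiplicative.toAdd f) i).1 (b⁻¹ * (a⁻¹ * g))
      rw [_root_.mul_inv_rev, mul_assoc]))

theorem act16_apply (m : ℕ) (h : G16) (x : W16 m) (i : Fin m) :
    (((Multiplicative.toAdd (act16 m h x)) i : mod16) : G16 → ZMod 5) =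
      shift h (((Multiplicative.toAdd x) i : mod16) : G16 → ZMod 5) := rfl

theorem toAdd_eq_zero {m : ℕ} (x : W16 m)
    (h : ∀ i, (((Multiplicative.toAdd x) i : mod16) : G16 → ZMod 5) = 0) : x = 1 :=
  Multiplicative.toAdd.injective (funext fun i => Subtype.ext (h i))

/-- The stabiliser of a point of the module. -/
def stab16 {m : ℕ} (y : W16 m) : Subgroup G16 where
  carrier := {h | act16 m h y = y}
  one_mem' := by
    show act16 m 1 y = y
    rw [map_one]; rfl
  mul_mem' := by
    intro a b ha hb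
    show act16 m (a * b) y = y
    rw [map_mul, MulAut.mul_apply]
    exact (congrArg (act16 m a) hb).trans ha
  inv_mem' := by
    intro a ha
    show act16 m a⁻¹ y = y
    rw [map_inv]
    exact (MulEquiv.symm_apply_eq _).2 (Eq.symm ha)

theorem mem_stab16 {m : ℕ} (y : W16 m) (h : G16) : h ∈ stab16 y ↔ act16 m h y = y := Iff.rfl

/-- The witness. -/
abbrev H16 (m : ℕ) : Type := SemidirectProduct (W16 m) G16 (act16 m)

theorem W16_pow_five {m : ℕ} (x : W16 m) : x ^ 5 = 1 := by
  refine Multiplicative.toAdd.injective (funext fun i => Subtype.ext (funext fun g => ?_))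
  show (((5 : ℕ) • Multiplicative.toAdd x) i).1 g = 0
  simp [show (5 : ZMod 5) = 0 from by decide]

theorem fixed_trivial {m : ℕ} (hcard : Nat.card G16 = 62400) {g : G16} (hg : orderOf g = 13) (x : W16 m) (hx : act16 m g x = x) : x = 1 := by
  haveI : Fact (Nat.Prime 13) := ⟨by norm_num⟩
  let P : Sylow 13 G16 := Sylow.ofCard (Subgroup.zpowers s16) (by
    rw [Nat.card_zpowers, orders.1, hcard]
    rw [show Nat.factorization 62400 13 = 1 by
      rw [show (62400 : ℕ) = 13 * 4800 from rfl, Nat.factorization_mul (by norm_num) (by norm_num)]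
      simp [Nat.Prime.factorization_self (by norm_num : Nat.Prime 13),
        Nat.factorization_eq_zero_of_not_dvd (by norm_num : ¬ 13 ∣ 4800)]]
    rfl)
  have hpg : IsPGroup 13 (Subgroup.zpowers g) := IsPGroup.of_card (n := 1) (by rw [Nat.card_zpowers, hg, pow_one])
  obtain ⟨Q, hQ⟩ := hpg.exists_le_sylow
  obtain ⟨c, hc⟩ := MulAction.exists_smul_eq G16 P Q
  have hmem : g ∈ (Q : Subgroup G16) := hQ (Subgroup.mem_zpowers g)
  rw [← hc, Sylow.coe_subgroup_smul, Subgroup.mem_pointwise_smul_iff_inv_smul_mem,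
    show (P : Subgroup G16) = Subgroup.zpowers s16 from rfl] at hmem
  have hmem' : c⁻¹ * g * c ∈ Subgroup.zpowers s16 := by
    simpa [MulAut.smul_def, MulAut.conj_apply] using hmem
  set g' := c⁻¹ * g * c with hg'
  have hord : orderOf g' = 13 := by
    rw [← hg, hg', ← (MulAut.conj c⁻¹).orderOf_eq g, MulAut.conj_apply, inv_inv]
  have hz : Subgroup.zpowers g' = Subgroup.zpowers s16 := by
    refine Subgroup.eq_of_le_of_card_ge (Subgroup.zpowers_le.2 hmem') ?_
    rw [Nat.card_zpowers, Nat.card_zpowers, hord, orders.1]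
  set y : W16 m := act16 m c⁻¹ x with hy
  have hfix : act16 m g' y = y := by
    rw [hy, hg', ← MulAut.mul_apply, ← map_mul, mul_assoc, mul_inv_cancel, mul_one, map_mul, MulAut.mul_apply, hx]
  have hs : act16 m s16 y = y := by
    have hK : Subgroup.zpowers g' ≤ stab16 y := Subgroup.zpowers_le.2 ((mem_stab16 y g').2 hfix)
    rw [hz] at hK
    exact (mem_stab16 y s16).1 (hK (Subgroup.mem_zpowers s16))
  have hy1 : y = 1 := by
    refine toAdd_eq_zero y fun i => fixed_eq_zero ((Multiplicative.toAdd y) i).2 ?_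
    rw [← act16_apply, hs]
  rw [hy] at hy1
  exact (map_eq_one_iff _ (act16 m c⁻¹).injective).1 hy1

theorem mod16_nontrivial : Nontrivial mod16 := by
  have hF : ∃ a b : G16, psi (mat16 a) (mat16 b) ≠ 0 := by
    rcases psi_nonzero with h | ⟨r, hr, h⟩
    · exact ⟨mk16 _ (frame_facts (r := 0) (i := 0) (by norm_num) (by norm_num)).1,
        mk16 _ (frame_facts (r := 0) (i := 0) (by norm_num) (by norm_num)).1, h⟩
    · exact ⟨mk16 _ (frame_facts (r := 0) (i := 0) (by norm_num) (by norm_num)).1,
        mk16 _ (frame_facts hr (i := 0) (by norm_num)).1, h⟩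
  obtain ⟨a, b, hab⟩ := hF
  refine ⟨⟨⟨_, AddSubgroup.subset_closure ⟨a, rfl⟩⟩, 0, fun h => hab ?_⟩⟩
  exact congrFun (congrArg Subtype.val h) b

theorem dvd_62400 {p : ℕ} (hp : p.Prime) (h : p ∣ 62400) : p = 2 ∨ p = 3 ∨ p = 5 ∨ p = 13 := by
  rw [show 62400 = 2 ^ 6 * (3 * (5 ^ 2 * 13)) by norm_num] at h
  rcases (Nat.Prime.dvd_mul hp).1 h with h | h
  · exact Or.inl ((Nat.prime_dvd_prime_iff_eq hp Nat.prime_two).1 (hp.dvd_of_dvd_pow h))
  rcases (Nat.Prime.dvd_mul hp).1 h with h | h
  · exact Or.inr (Or.inl ((Nat.prime_dvd_prime_iff_eq hp Nat.prime_three).1 h))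
  rcases (Nat.Prime.dvd_mul hp).1 h with h | h
  · exact Or.inr (Or.inr (Or.inl ((Nat.prime_dvd_prime_iff_eq hp Nat.prime_five).1 (hp.dvd_of_dvd_pow h))))
  · exact Or.inr (Or.inr (Or.inr ((Nat.prime_dvd_prime_iff_eq hp (by norm_num)).1 h)))

theorem edge_iff {m : ℕ} (hcard : Nat.card G16 = 62400) {p q : ℕ} (hp : p.Prime) (hq : q.Prime) (hpq : p ≠ q) :
    (∃ g : G16, orderOf g = p * q) ↔ ∃ x : H16 m, orderOf x = p * q := by
  constructor
  · rintro ⟨g, hg⟩
    exact ⟨SemidirectProduct.inr g, (orderOf_injective _ SemidirectProduct.inr_injective g).trans hg⟩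
  rintro ⟨x, hx⟩
  have hdvd : orderOf x.right ∣ p * q := hx ▸ orderOf_map_dvd SemidirectProduct.rightHom x
  set d := orderOf x.right with hd
  have hker : (x ^ d).right = 1 := by
    have : SemidirectProduct.rightHom (x ^ d) = x.right ^ d := map_pow _ _ _
    simpa [hd, pow_orderOf_eq_one] using this
  have hxd : x ^ d = SemidirectProduct.inl (x ^ d).left := by
    refine SemidirectProduct.ext ?_ ?_
    · simp
    · simpa using hker
  have h5 : p * q ∣ d * 5 := by
    rw [← hx]
    refine orderOf_dvd_of_pow_eq_one ?_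
    rw [pow_mul, hxd, ← map_pow, W16_pow_five, map_one]
  rcases (show d = p * q ∨ d ≠ p * q from em _) with he | hne
  · exact ⟨x.right, he⟩
  have main : ∀ a b : ℕ, a.Prime → b.Prime → a ≠ b → d ∣ a → a * b = p * q →
      ∃ g : G16, orderOf g = p * q := by
    intro a b ha hb hab hda hpq'
    have hb5 : b = 5 := by
      have h1 : b ∣ d * 5 := (hpq' ▸ dvd_mul_left b a).trans h5
      rcases (Nat.Prime.dvd_mul hb).1 h1 with h | h
      · exact absurd ((Nat.prime_dvd_prime_iff_eq hb ha).1 (h.trans hda)) (Ne.symm hab)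
      · exact (Nat.prime_dvd_prime_iff_eq hb Nat.prime_five).1 h
    subst hb5
    have had : d = a := by
      rcases (Nat.dvd_prime ha).1 hda with h | h
      · rw [h, one_mul, ← hpq'] at h5
        exact absurd ((Nat.prime_dvd_prime_iff_eq ha Nat.prime_five).1 ((dvd_mul_right a 5).trans h5)) hab
      · exact h
    have hne1 : (x ^ d).left ≠ 1 := by
      intro h1
      have : x ^ d = 1 := by rw [hxd, h1, map_one]
      have h2 : p * q ∣ d := hx ▸ orderOf_dvd_of_pow_eq_one this
      rw [← hpq', had] at h2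
      have := Nat.le_of_dvd ha.pos h2
      nlinarith [ha.two_le]
    have hfix : act16 m x.right (x ^ d).left = (x ^ d).left := by
      have hc : x * x ^ d = x ^ d * x := (Commute.self_pow x d).eq
      have h2 := congrArg SemidirectProduct.left hc
      rw [SemidirectProduct.mul_left, SemidirectProduct.mul_left, hker, map_one, MulAut.one_apply,
        mul_comm (x ^ d).left] at h2
      exact mul_left_cancel h2
    have h13 : a ≠ 13 := fun h => hne1 (fixed_trivial hcard (by rw [← hd, had, h]) _ hfix)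
    have hdiv : a ∣ 62400 := hcard ▸ (had ▸ hd ▸ orderOf_dvd_natCard x.right)
    obtain ⟨-, ⟨g10, h10⟩, g15, h15⟩ := orders
    rcases dvd_62400 ha hdiv with rfl | rfl | rfl | rfl
    · exact ⟨g10, by rw [h10, ← hpq']⟩
    · exact ⟨g15, by rw [h15, ← hpq']⟩
    · exact absurd rfl hab
    · exact absurd rfl h13
  rcases (Nat.dvd_mul.1 hdvd) with ⟨u, v, hu, hv, huv⟩
  rcases (Nat.dvd_prime hp).1 hu with rfl | rfl
  · exact main q p hq hp (Ne.symm hpq) (by rw [← huv, one_mul]; exact hv) (mul_comm q p)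
  · rcases (Nat.dvd_prime hq).1 hv with rfl | rfl
    · exact main _ q hp hq hpq (by rw [← huv, mul_one]) rfl
    · exact absurd huv.symm hne

theorem exists_witness {F : Type*} [Field F] [Fintype F] (hF : Fintype.card F = 16) (N : ℕ) :
    ∃ (H : Type) (_ : Group H) (_ : Finite H), N < Nat.card H ∧
      ((∀ p : ℕ, p.Prime → (p ∣ Nat.card (Cfsg.PSU 3 F 4) ↔ p ∣ Nat.card H)) ∧
      (∀ p q : ℕ, p.Prime → q.Prime → p ≠ q →
        ((∃ g : (Cfsg.PSU 3 F 4), orderOf g = p * q) ↔ (∃ g : H, orderOf g = p * q)))) := by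
  obtain ⟨⟨e⟩, hcard⟩ := nonempty_PSU_equiv hF
  haveI : Finite (W16 N) := inferInstance
  haveI hfin : Finite (H16 N) := Finite.of_equiv _ SemidirectProduct.equivProd.symm
  haveI := mod16_nontrivial
  have hW : Nat.card (W16 N) = Nat.card mod16 ^ N := by
    rw [Nat.card_congr Multiplicative.toAdd, Nat.card_fun, Nat.card_fin]
  have h2 : 2 ≤ Nat.card mod16 := Finite.one_lt_card
  refine ⟨H16 N, inferInstance, hfin, ?_, fun p hp => ?_, fun p q hp hq hpq => ?_⟩
  · rw [SemidirectProduct.card, hW, hcard]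
    calc N < 2 ^ N := Nat.lt_two_pow_self
      _ ≤ Nat.card mod16 ^ N := Nat.pow_le_pow_left h2 N
      _ ≤ _ := Nat.le_mul_of_pos_right _ (by norm_num)
  · rw [SemidirectProduct.card, hcard, ← Nat.card_congr e.toEquiv, hcard]
    refine ⟨fun h => dvd_mul_of_dvd_right h _, fun h => ?_⟩
    rcases (Nat.Prime.dvd_mul hp).1 h with h | h
    · haveI : Fact (Nat.Prime 5) := ⟨Nat.prime_five⟩
      obtain ⟨k, hk⟩ := IsPGroup.iff_card.1 (fun x : W16 N => ⟨1, by rw [pow_one]; exact W16_pow_five x⟩ : IsPGroup 5 (W16 N))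
      rw [hk] at h
      rw [(Nat.prime_dvd_prime_iff_eq hp Nat.prime_five).1 (hp.dvd_of_dvd_pow h)]
      norm_num
    · exact h
  · rw [← edge_iff hcard hp hq hpq]
    exact ⟨fun ⟨g, hg⟩ => ⟨e.symm g, (e.symm.orderOf_eq g).trans hg⟩, fun ⟨g, hg⟩ => ⟨e g, (e.orderOf_eq g).trans hg⟩⟩

end Cfsg.Agent.H67.U34
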