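import Cfsg.Agent.S0205
import Cfsg.Agent.H24.FPF
import Cfsg.Agent.Cores.PCore
import Cfsg.Agent.Cores.Fitting

/-!
A prime `p` such that all elements of order divisible by `p` have order `p`: the Sylow `p`-subgroups
are trivial intersection subgroups, and centralisers of their elements are `p`-groups.
-/

set_option autoImplicit false
set_option linter.unusedSectionVars false
set_option linter.style.haveILetI false

namespace Cfsg.Agent.H67.IsolatedPrime

universe u

variable {G : Type u} [Group G] [Finite G] {p : ℕ} [hp : Fact p.Prime]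

/-- Every element of order divisible by `p` has order `p`. -/
def Isolated (p : ℕ) (G : Type u) [Group G] : Prop := ∀ g : G, p ∣ orderOf g → orderOf g = p

theorem Isolated.subgroup {hG : Isolated p G} (H : Subgroup G) : Isolated p H := fun g hg => by
  rw [← Subgroup.orderOf_coe] at hg ⊢
  exact hG _ hg

variable (hE : Isolated p G)
include hE

/-- A `p'`-element commuting with an element of order `p` is trivial. -/
theorem eq_one_of_commute {x y : G} (hx : orderOf x = p) (h : Commute x y)
    (hy : ¬ p ∣ orderOf y) : y = 1 := by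
  have hc : (orderOf x).Coprime (orderOf y) := by
    rw [hx]; exact hp.out.coprime_iff_not_dvd.2 hy
  have h1 : orderOf (x * y) = p * orderOf y := by
    rw [h.orderOf_mul_eq_mul_orderOf_of_coprime hc, hx]
  have h2 := hE (x * y) (h1 ▸ dvd_mul_right _ _)
  rw [h1] at h2
  exact orderOf_eq_one_iff.1 ((Nat.mul_eq_left hp.out.ne_zero).1 h2)

theorem pow_eq_one_of_mem {H : Subgroup G} (hH : IsPGroup p H) {x : G} (hx : x ∈ H) : x ^ p = 1 := by
  obtain ⟨k, hk⟩ := IsPGroup.iff_orderOf.1 hH ⟨x, hx⟩
  rw [Subgroup.orderOf_mk] at hk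
  rcases k with _ | k
  · rw [orderOf_eq_one_iff.1 (show orderOf x = 1 by simpa using hk), one_pow]
  · have := hE x (hk ▸ dvd_pow_self p k.succ_ne_zero)
    rw [← this, pow_orderOf_eq_one]

theorem orderOf_of_mem {H : Subgroup G} (hH : IsPGroup p H) {x : G} (hx : x ∈ H) (h1 : x ≠ 1) :
    orderOf x = p :=
  orderOf_eq_prime (pow_eq_one_of_mem hE hH hx) h1

theorem centralizer_isPGroup {x : G} (hx : orderOf x = p) :
    IsPGroup p (Subgroup.centralizer ({x} : Set G)) := fun y => ⟨1, Subtype.ext (by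
  rw [pow_one, Subgroup.coe_pow, Subgroup.coe_one]
  by_cases hd : p ∣ orderOf (y : G)
  · have := hE _ hd
    rw [← this, pow_orderOf_eq_one]
  · rw [eq_one_of_commute hE hx (Subgroup.mem_centralizer_singleton_iff.1 y.2).symm hd, one_pow])⟩

open scoped IsMulCommutative in
/-- A `p'`-subgroup normalised by an element of order `p` in the presence of a normal `p`-subgroup
is trivial. -/
theorem eq_bot_of_normalised {V : Subgroup G} [hV : V.Normal] [IsMulCommutative V]
    (hVp : IsPGroup p V) (hVne : V ≠ ⊥) {x : G} (hx : orderOf x = p) {R : Subgroup G}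
    (hR : ¬ p ∣ Nat.card R) (hxR : x ∈ Subgroup.normalizer (R : Set G)) : R = ⊥ := by
  classical
  by_contra hne
  have := Fintype.ofFinite R
  obtain ⟨⟨v0, hv0⟩, hv1⟩ := Subgroup.ne_bot_iff_exists_ne_one.1 hVne
  let c : G →* MulAut V := MulAut.conjNormal
  have hfree : ∀ a : R, a ≠ 1 → ∀ v : V, (c.comp R.subtype) a v = v → v = 1 := by
    intro a ha v hv
    by_contra hv'
    have hcomm : Commute (v : G) (a : G) := by
      have h1 := congrArg Subtype.val hv
      simp only [MonoidHom.coe_comp, Subgroup.coe_subtype, Function.comp_apply, c,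
        MulAut.conjNormal_apply] at h1
      exact (eq_mul_inv_iff_mul_eq.1 h1.symm)
    refine ha (Subtype.ext (eq_one_of_commute hE
      (orderOf_of_mem hE hVp v.2 fun e => hv' (Subtype.ext e)) hcomm fun hd => hR ?_))
    rw [Subgroup.orderOf_coe] at hd
    exact hd.trans (orderOf_dvd_natCard a)
  -- the norm of a conjugate of `x` kills `V`
  have hnorm : ∀ u : R, ∀ v : V,
      ∏ i ∈ Finset.range p, c (((u : G) * x * (u : G)⁻¹) ^ i) v = 1 := by
    intro u v
    set y := (u : G) * x * (u : G)⁻¹ with hy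
    have hyo : orderOf y = p := by
      rw [hy, show (u : G) * x * (u : G)⁻¹ = MulAut.conj (u : G) x from rfl,
        (MulAut.conj (u : G)).orderOf_eq, hx]
    have key : ∀ n : ℕ, ((v : G) * y) ^ n =
        ((∏ i ∈ Finset.range n, c (y ^ i) v : V) : G) * y ^ n := by
      intro n
      induction n with
      | zero => simp
      | succ n ih =>
        rw [pow_succ, ih, Finset.prod_range_succ, Subgroup.coe_mul, pow_succ y]
        simp only [c, MulAut.conjNormal_apply]
        group
    have hyp : IsPGroup p (Subgroup.zpowers y) := IsPGroup.of_card (n := 1) (by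
      rw [Nat.card_zpowers, hyo, pow_one])
    have hsup : IsPGroup p (V ⊔ Subgroup.zpowers y : Subgroup G) :=
      hVp.to_sup_of_normal_left hyp
    have h1 := pow_eq_one_of_mem hE hsup (mul_mem (Subgroup.mem_sup_left v.2)
      (Subgroup.mem_sup_right (Subgroup.mem_zpowers y)))
    rw [key, ← hyo, pow_orderOf_eq_one, mul_one, hyo] at h1
    exact Subtype.ext h1
  -- sum over all conjugates
  have hi : ∀ i ∈ Finset.range p, i ≠ 0 → ∀ v : V,
      ∏ u : R, c (((u : G) * x * (u : G)⁻¹) ^ i) v = 1 := by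
    intro i hi hi0 v
    have hxi : x ^ i ∈ Subgroup.normalizer (R : Set G) := pow_mem hxR i
    let w : R → R := fun u => u * ⟨x ^ i * (u : G)⁻¹ * (x ^ i)⁻¹,
      (Subgroup.mem_normalizer_iff.1 hxi _).1 (inv_mem u.2)⟩
    have hxio : orderOf (x ^ i) = p := by
      rw [orderOf_pow' x hi0, hx,
        Nat.Coprime.gcd_eq_one (hp.out.coprime_iff_not_dvd.2
          (Nat.not_dvd_of_pos_of_lt (Nat.pos_of_ne_zero hi0) (Finset.mem_range.1 hi))), Nat.div_one]
    have hinj : Function.Injective w := by
      intro a b hab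
      have h1 : (a : G) * (x ^ i * (a : G)⁻¹ * (x ^ i)⁻¹) = b * (x ^ i * (b : G)⁻¹ * (x ^ i)⁻¹) :=
        congrArg Subtype.val hab
      have hcomm : Commute (x ^ i) (((b⁻¹ * a : R)) : G) := by
        rw [commute_iff_eq, Subgroup.coe_mul, Subgroup.coe_inv]
        calc x ^ i * ((b : G)⁻¹ * a)
            = (b : G)⁻¹ * ((b : G) * (x ^ i * (b : G)⁻¹ * (x ^ i)⁻¹)) * x ^ i * a := by group
          _ = (b : G)⁻¹ * ((a : G) * (x ^ i * (a : G)⁻¹ * (x ^ i)⁻¹)) * x ^ i * a := by rw [h1]
          _ = (b : G)⁻¹ * a * x ^ i := by group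
      have h2 := eq_one_of_commute hE hxio hcomm fun hd => hR (by
        rw [Subgroup.orderOf_coe] at hd
        exact hd.trans (orderOf_dvd_natCard _))
      exact (inv_mul_eq_one.1 (Subtype.ext h2 : b⁻¹ * a = 1)).symm
    have hfun : ∀ u : R, c (((u : G) * x * (u : G)⁻¹) ^ i) v =
        (c.comp R.subtype) (w u) (c (x ^ i) v) := fun u => by
      rw [MonoidHom.comp_apply, ← MulAut.mul_apply, ← map_mul]
      congr 2
      simp only [w, Subgroup.coe_subtype, Subgroup.coe_mul, conj_pow]
      group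
    rw [Finset.prod_congr rfl fun u _ => hfun u,
      Fintype.prod_bijective w (Finite.injective_iff_bijective.1 hinj) _
        (fun z => (c.comp R.subtype) z (c (x ^ i) v)) fun u => rfl]
    have h := H24.prod_subgroup_eq_one (c.comp R.subtype) hfree ⊤
      (fun e => hne (Subgroup.eq_bot_iff_forall _ |>.2 fun a ha => by
        have : (⟨a, ha⟩ : R) ∈ (⊤ : Subgroup R) := Subgroup.mem_top _
        rw [e, Subgroup.mem_bot] at this
        exact congrArg Subtype.val this)) (c (x ^ i) v)
    rw [← h]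
    exact (Fintype.prod_equiv Subgroup.topEquiv.toEquiv _ _ fun b => rfl).symm
  have htot : ∏ i ∈ Finset.range p, ∏ u : R, c (((u : G) * x * (u : G)⁻¹) ^ i) ⟨v0, hv0⟩ = 1 := by
    rw [Finset.prod_comm]
    exact Finset.prod_eq_one fun u _ => hnorm u _
  rw [Finset.prod_eq_single_of_mem 0 (Finset.mem_range.2 hp.out.pos)
    fun i hi' hi0 => hi i hi' hi0 _] at htot
  simp only [pow_zero, map_one, MulAut.one_apply, Finset.prod_const, Finset.card_univ] at htot
  rw [← Nat.card_eq_fintype_card] at htot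
  have hvp : (⟨v0, hv0⟩ : V) ^ p = 1 := Subtype.ext (pow_eq_one_of_mem hE hVp hv0)
  exact hv1 (by
    have : (⟨v0, hv0⟩ : V) ^ Nat.gcd p (Nat.card R) = 1 := pow_gcd_eq_one.2 ⟨hvp, htot⟩
    rwa [Nat.Coprime.gcd_eq_one (hp.out.coprime_iff_not_dvd.2 hR), pow_one] at this)

open scoped IsMulCommutative in
/-- With a nontrivial normal abelian `p`-subgroup, `p` odd, the Sylow `p`-subgroup is normal. -/
theorem normal_sylow {V : Subgroup G} [hV : V.Normal] [IsMulCommutative V]
    (hVp : IsPGroup p V) (hVne : V ≠ ⊥) (hp2 : p ≠ 2) (P : Sylow p G) :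
    (P : Subgroup G).Normal := by
  classical
  obtain ⟨⟨v0, hv0⟩, hv1⟩ := Subgroup.ne_bot_iff_exists_ne_one.1 hVne
  have hv1' : v0 ≠ 1 := fun e => hv1 (Subtype.ext e)
  suffices h : ∀ x ∈ (P : Subgroup G), x ∈ Cfsg.pCore p G by
    have : (P : Subgroup G) = Cfsg.pCore p G :=
      le_antisymm h (Cores.pCore_le_sylow P)
    rw [this]; infer_instance
  rcases Nat.even_or_odd (Nat.card G) with hev | hodd
  · -- an involution inverts `V`
    have : Fact (Nat.Prime 2) := ⟨Nat.prime_two⟩
    obtain ⟨t, ht⟩ := exists_prime_orderOf_dvd_card' (G := G) 2 (even_iff_two_dvd.1 hev)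
    have htp : ¬ p ∣ orderOf t := by
      rw [ht, Nat.dvd_prime Nat.prime_two]
      exact fun h => h.elim hp.out.one_lt.ne' hp2
    set K := Subgroup.centralizer (V : Set G) with hK
    have hKp : IsPGroup p K := by
      refine (centralizer_isPGroup hE (orderOf_of_mem hE hVp hv0 hv1')).to_le ?_
      exact Subgroup.centralizer_le (by simpa using hv0)
    have hKn : K.Normal := by rw [hK]; infer_instance
    have hinv : ∀ s : G, orderOf s = 2 → ∀ v ∈ V, s * v * s⁻¹ = v⁻¹ := by
      intro s hs v hv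
      by_contra hne
      have hss : s * s = 1 := by rw [← sq, ← hs, pow_orderOf_eq_one]
      have hsi : s⁻¹ = s := inv_eq_of_mul_eq_one_right hss
      set w := v * (s * v * s⁻¹) with hw
      have hwV : w ∈ V := mul_mem hv (hV.conj_mem v hv s)
      have hw1 : w ≠ 1 := fun e => hne (eq_inv_of_mul_eq_one_right e)
      have hcomm : Commute w s := by
        have h1 : s * w * s⁻¹ = (s * v * s⁻¹) * v := by
          rw [hw, hsi]; simp only [mul_assoc, hss, mul_one]
        have h2 : (s * v * s⁻¹) * v = w := by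
          rw [hw]
          exact congrArg Subtype.val (mul_comm (⟨_, hV.conj_mem v hv s⟩ : V) ⟨v, hv⟩)
        exact (mul_inv_eq_iff_eq_mul.1 (h1.trans h2)).symm
      have := eq_one_of_commute hE (orderOf_of_mem hE hVp hwV hw1) hcomm (by
        rw [hs, Nat.dvd_prime Nat.prime_two]; exact fun h => h.elim hp.out.one_lt.ne' hp2)
      rw [this, orderOf_one] at hs
      omega
    -- every element is an element of `K` times one centralising `t`
    have hfac : ∀ g : G, ∃ m ∈ K, Commute (m⁻¹ * g) t := by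
      intro g
      have htt : t * t = 1 := by rw [← sq, ← ht, pow_orderOf_eq_one]
      have hti : t⁻¹ = t := inv_eq_of_mul_eq_one_right htt
      set k := t * (g * t * g⁻¹) with hk
      have hgt : orderOf (g * t * g⁻¹) = 2 := by
        rw [show g * t * g⁻¹ = MulAut.conj g t from rfl, (MulAut.conj g).orderOf_eq, ht]
      have hkK : k ∈ K := Subgroup.mem_centralizer_iff.2 fun v hv => by
        have e1 := hinv _ hgt v hv
        have e2 := hinv t ht v⁻¹ (inv_mem hv)
        rw [inv_inv] at e2
        rw [← e1] at e2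
        rw [hk]
        calc v * (t * (g * t * g⁻¹)) = t * (g * t * g⁻¹ * v * (g * t * g⁻¹)⁻¹) * t⁻¹ * (t * (g * t * g⁻¹)) := by
              rw [e2]
          _ = t * (g * t * g⁻¹) * v := by group
      have hkinv : t * k * t⁻¹ = k⁻¹ := by
        apply eq_inv_of_mul_eq_one_left
        have hg' : g * t * g⁻¹ * (g * t * g⁻¹) = 1 := by rw [← sq, ← hgt, pow_orderOf_eq_one]
        rw [hk, hti]
        generalize g * t * g⁻¹ = s at hg'
        simp only [← mul_assoc]
        rw [htt, one_mul, mul_assoc s t t, htt, mul_one, hg']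
      -- a square root of `k⁻¹` in `zpowers k`
      have hko : k ^ p = 1 := pow_eq_one_of_mem hE hKp hkK
      obtain ⟨j, hj⟩ : ∃ j, p = 2 * j + 1 := (hp.out.odd_of_ne_two hp2)
      refine ⟨k ^ j, pow_mem hkK j, ?_⟩
      have h3 : t * k ^ j * t⁻¹ = (k ^ j)⁻¹ := by rw [← conj_pow, hkinv, inv_pow]
      have h3' : t * (k ^ j)⁻¹ * t⁻¹ = k ^ j := by rw [← conj_inv, h3, inv_inv]
      have h4 : k ^ j * t * (k ^ j)⁻¹ = g * t * g⁻¹ := by
        have h5 : k ^ (j + j) = k⁻¹ := by
          apply eq_inv_of_mul_eq_one_left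
          rw [← pow_succ, show j + j + 1 = p by omega, hko]
        calc k ^ j * t * (k ^ j)⁻¹ = k ^ j * (t * (k ^ j)⁻¹ * t⁻¹) * t := by group
          _ = k ^ (j + j) * t := by rw [h3', pow_add]
          _ = _ := by
            rw [h5, hk, mul_inv_rev, hti, mul_assoc, htt, mul_one]
            simp [mul_assoc, hti]
      rw [commute_iff_eq]
      calc (k ^ j)⁻¹ * g * t = (k ^ j)⁻¹ * (g * t * g⁻¹) * g := by group
        _ = (k ^ j)⁻¹ * (k ^ j * t * (k ^ j)⁻¹) * g := by rw [h4]
        _ = t * ((k ^ j)⁻¹ * g) := by group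
    intro x hx
    obtain ⟨m, hm, hc⟩ := hfac x
    have hmx : m⁻¹ * x ∈ K ⊔ (P : Subgroup G) :=
      mul_mem (Subgroup.mem_sup_left (inv_mem hm)) (Subgroup.mem_sup_right hx)
    have hsup : IsPGroup p (K ⊔ (P : Subgroup G) : Subgroup G) := hKp.to_sup_of_normal_left P.2
    have : m⁻¹ * x = 1 := by
      by_contra h1
      have := eq_one_of_commute hE (orderOf_of_mem hE hsup hmx h1) hc htp
      rw [this, orderOf_one] at ht
      omega
    rw [inv_mul_eq_one] at this
    exact Cores.le_pCore (N := K) hKp (this ▸ hm)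
  · -- odd order: the group is solvable
    have hsol : Group.IsSolvable G := S0205.result hodd
    intro x hx
    by_contra hxM
    set M := Cfsg.pCore p G with hM
    have : Nontrivial (G ⧸ M) := ⟨⟨(x : G ⧸ M), 1, fun e =>
      hxM ((QuotientGroup.eq_one_iff x).1 e)⟩⟩
    obtain ⟨A, hAc, hAne, hAcomm⟩ := Cores.exists_abelian_normal_ne_bot (G := G ⧸ M)
    have hA : ¬ p ∣ Nat.card A := by
      intro hd
      obtain ⟨S⟩ : Nonempty (Sylow p A) := inferInstance
      have := hAcomm
      have hSn : (S : Subgroup A).Normal := Subgroup.normal_of_isMulCommutative _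
      have := S.characteristic_of_normal hSn
      have hSG : ((S : Subgroup A).map A.subtype).Normal := ConjAct.normal_of_characteristic_of_normal
      have hSp : IsPGroup p ((S : Subgroup A).map A.subtype) := S.2.map _
      have hle := Cores.le_pCore (N := (S : Subgroup A).map A.subtype) hSp
      rw [Cores.pCore_quotient_pCore] at hle
      exact S.ne_bot_of_dvd_card hd
        ((Subgroup.map_eq_bot_iff_of_injective _ A.subtype_injective).1 (le_bot_iff.1 hle))
    set E := A.comap (QuotientGroup.mk' M) with hEdef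
    have hEn : E.Normal := inferInstance
    obtain ⟨r, hr, hrd⟩ := Nat.exists_prime_and_dvd (show Nat.card A ≠ 1 from fun h1 =>
      hAne (Subgroup.card_eq_one.1 h1))
    have := Fact.mk hr
    obtain ⟨R⟩ : Nonempty (Sylow r E) := inferInstance
    have hcardE : Nat.card E = Nat.card M * Nat.card A := by
      have h1 := Subgroup.index_comap_of_surjective A (QuotientGroup.mk'_surjective M)
      have h2 := E.card_mul_index
      have h3 := A.card_mul_index
      have h4 := Subgroup.card_eq_card_quotient_mul_card_subgroup M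
      rw [hEdef] at h2
      rw [h1] at h2
      rw [h4, ← h3] at h2
      have hpos : 0 < A.index := Nat.pos_of_ne_zero Subgroup.index_ne_zero_of_finite
      refine Nat.eq_of_mul_eq_mul_right hpos ?_
      rw [h2]; ring
    have hrE : r ∣ Nat.card E := hcardE ▸ hrd.mul_left _
    have hRne : (R : Subgroup E) ≠ ⊥ := R.ne_bot_of_dvd_card hrE
    set R' := (R : Subgroup E).map E.subtype with hR'
    have hR'ne : R' ≠ ⊥ := fun e => hRne ((Subgroup.map_eq_bot_iff_of_injective _ E.subtype_injective).1 e)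
    have hR'p : ¬ p ∣ Nat.card R' := by
      intro hd
      obtain ⟨n, hn⟩ := IsPGroup.iff_card.1 (R.2.map E.subtype : IsPGroup r R')
      rw [hn] at hd
      have hpr := (Nat.prime_dvd_prime_iff_eq hp.out hr).1 (hp.out.dvd_of_dvd_pow hd)
      exact hA (hpr ▸ hrd)
    have hfr : Subgroup.normalizer (R' : Set G) ⊔ E = ⊤ := Sylow.normalizer_sup_eq_top R
    by_cases hd : p ∣ Nat.card (Subgroup.normalizer (R' : Set G))
    · obtain ⟨y, hy⟩ := exists_prime_orderOf_dvd_card' p hd
      rw [← Subgroup.orderOf_coe] at hy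
      exact hR'ne (eq_bot_of_normalised hE hVp hVne hy hR'p y.2)
    · -- the Sylow subgroup is inside `M`
      have hdvd : Nat.card G ∣ Nat.card (Subgroup.normalizer (R' : Set G)) * Nat.card E := by
        have h := Cores.card_sup_dvd (Subgroup.normalizer (R' : Set G)) E
        rwa [hfr, Subgroup.card_top] at h
      obtain ⟨a, ha⟩ := IsPGroup.iff_card.1 P.2
      have h1 : p ^ a ∣ Nat.card M := by
        have h2 : p ^ a ∣ Nat.card (Subgroup.normalizer (R' : Set G)) * (Nat.card M * Nat.card A) :=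
          hcardE ▸ ((ha ▸ (P : Subgroup G).card_subgroup_dvd_card).trans hdvd)
        have c1 := (hp.out.coprime_iff_not_dvd.2 hd).pow_left a
        have c2 := (hp.out.coprime_iff_not_dvd.2 hA).pow_left a
        exact c2.dvd_of_dvd_mul_right (c1.dvd_of_dvd_mul_left h2)
      have hMP : M ≤ (P : Subgroup G) := Cores.pCore_le_sylow P
      have : M = (P : Subgroup G) := Subgroup.eq_of_le_of_card_ge hMP
        (ha ▸ Nat.le_of_dvd Nat.card_pos h1)
      exact hxM (this ▸ hx)

/-- The Sylow `p`-subgroups are trivial intersection subgroups. -/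
theorem inf_eq_bot {P Q : Sylow p G} (h : P ≠ Q) : (P : Subgroup G) ⊓ (Q : Subgroup G) = ⊥ := by
  classical
  by_cases hp2 : p = 2
  · rw [Subgroup.eq_bot_iff_forall]
    intro z hz
    by_contra hz1
    have hzo := orderOf_of_mem hE P.2 hz.1 hz1
    have hc : ∀ S : Sylow p G, z ∈ (S : Subgroup G) →
        (S : Subgroup G) ≤ Subgroup.centralizer ({z} : Set G) := fun S hzS y hy => by
      rw [Subgroup.mem_centralizer_singleton_iff]
      have h2 : ∀ a ∈ (S : Subgroup G), a⁻¹ = a := fun a ha => by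
        have := pow_eq_one_of_mem hE S.2 ha
        rw [hp2, sq] at this
        exact inv_eq_of_mul_eq_one_right this
      calc y * z = (y * z)⁻¹ := (h2 _ (mul_mem hy hzS)).symm
        _ = z * y := by rw [mul_inv_rev, h2 y hy, h2 z hzS]
    have hC := centralizer_isPGroup hE hzo
    exact h (Sylow.ext ((P.3 hC (hc P hz.1)).symm.trans (Q.3 hC (hc Q hz.2))))
  by_contra hne
  haveI : Nonempty {z : Sylow p G × Sylow p G // z.1 ≠ z.2 ∧
      (z.1 : Subgroup G) ⊓ (z.2 : Subgroup G) ≠ ⊥} := ⟨⟨(P, Q), h, hne⟩⟩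
  obtain ⟨⟨⟨P₀, Q₀⟩, hPQ, _⟩, hmax⟩ := Finite.exists_max
    (fun z : {z : Sylow p G × Sylow p G // z.1 ≠ z.2 ∧
        (z.1 : Subgroup G) ⊓ (z.2 : Subgroup G) ≠ ⊥} =>
      Nat.card ↥((z.1.1 : Subgroup G) ⊓ (z.1.2 : Subgroup G)))
  change (P₀ : Sylow p G) ≠ Q₀ at hPQ
  replace hmax : ∀ (S T : Sylow p G), S ≠ T → (S : Subgroup G) ⊓ (T : Subgroup G) ≠ ⊥ →
      Nat.card ↥((S : Subgroup G) ⊓ (T : Subgroup G)) ≤ Nat.card ↥((P₀ : Subgroup G) ⊓ (Q₀ : Subgroup G)) :=
    fun S T h1 h2 => hmax ⟨(S, T), h1, h2⟩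
  set D := (P₀ : Subgroup G) ⊓ (Q₀ : Subgroup G) with hD
  have hDne : D ≠ ⊥ := fun e => by
    have h1 := hmax P Q h hne
    rw [e, Subgroup.card_bot] at h1
    have : 1 < Nat.card ↥((P : Subgroup G) ⊓ (Q : Subgroup G)) := by
      have := (Subgroup.nontrivial_iff_ne_bot _).2 hne
      exact Finite.one_lt_card
    omega
  set N := Subgroup.normalizer (D : Set G) with hN
  have hDp : IsPGroup p D := P₀.2.to_le inf_le_left
  have hDN : D ≤ N := Subgroup.le_normalizer
  -- the centre of `D`
  set D' := D.subgroupOf N with hD'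
  have hD'n : D'.Normal := Subgroup.normal_in_normalizer
  set V := (Subgroup.center D').map D'.subtype with hV
  have hVn : V.Normal := ConjAct.normal_of_characteristic_of_normal
  have hVc : IsMulCommutative V := Subgroup.map_isMulCommutative _ _
  have hD'p : IsPGroup p D' := hDp.of_equiv (Subgroup.subgroupOfEquivOfLe hDN).symm
  have hVp : IsPGroup p V := (hD'p.to_subgroup _).map _
  have hVne : V ≠ ⊥ := by
    intro e
    have : Nontrivial D' := by
      rw [Subgroup.nontrivial_iff_ne_bot]
      intro e'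
      exact hDne (by rw [← Subgroup.map_subgroupOf_eq_of_le hDN, ← hD', e', Subgroup.map_bot])
    have := hD'p.center_nontrivial
    exact (Subgroup.nontrivial_iff_ne_bot _).1 this
      ((Subgroup.map_eq_bot_iff_of_injective _ D'.subtype_injective).1 e)
  obtain ⟨T⟩ : Nonempty (Sylow p N) := inferInstance
  have hTn : (T : Subgroup N).Normal := normal_sylow (Isolated.subgroup (hG := hE) N) hVp hVne hp2 T
  have hTall : ∀ S : Subgroup N, IsPGroup p S → S ≤ T := fun S hS => by
    have h1 : IsPGroup p (S ⊔ (T : Subgroup N) : Subgroup N) := hS.to_sup_of_normal_right T.2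
    exact le_sup_left.trans (T.3 h1 le_sup_right).le
  obtain ⟨T', hT'⟩ := (T.2.map N.subtype).exists_le_sylow
  have key : ∀ S : Sylow p G, D ≤ (S : Subgroup G) → (S : Subgroup G) ≠ D → S = T' := by
    intro S hDS hSD
    by_contra hne'
    have hnil : Group.IsNilpotent (S : Subgroup G) := S.2.isNilpotent
    have hlt : D.subgroupOf (S : Subgroup G) < ⊤ := lt_top_iff_ne_top.2 fun e =>
      hSD (le_antisymm (Subgroup.subgroupOf_eq_top.1 e) hDS)
    obtain ⟨g, hg1, hg2⟩ := SetLike.exists_of_lt (Group.normalizerCondition_of_isNilpotent _ hlt)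
    have hgN : (g : G) ∈ N := by
      rw [hN, Subgroup.mem_normalizer_iff]
      intro y
      rw [Subgroup.mem_normalizer_iff] at hg1
      constructor
      · intro hy
        exact (hg1 ⟨y, hDS hy⟩).1 hy
      · intro hy
        have hyS : y ∈ (S : Subgroup G) := by
          have := mul_mem (mul_mem (inv_mem g.2) (hDS hy)) g.2
          simpa [mul_assoc] using this
        exact (hg1 ⟨y, hyS⟩).2 hy
    have hin : ∀ y : G, y ∈ (S : Subgroup G) → y ∈ N → y ∈ (T' : Subgroup G) := fun y hyS hyN => by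
      have := hTall ((S : Subgroup G).subgroupOf N)
        (S.2.comap_of_injective N.subtype N.subtype_injective)
      exact hT' (Subgroup.mem_map.2 ⟨⟨y, hyN⟩, this (Subgroup.mem_subgroupOf.2 hyS), rfl⟩)
    have hlt' : D < (S : Subgroup G) ⊓ (T' : Subgroup G) := by
      refine lt_of_le_of_ne (le_inf hDS fun y hy => hin y (hDS hy) (hDN hy)) fun e => hg2 ?_
      rw [Subgroup.mem_subgroupOf, e]
      exact ⟨g.2, hin _ g.2 hgN⟩
    have hne2 : (S : Subgroup G) ⊓ (T' : Subgroup G) ≠ ⊥ := ne_bot_of_gt hlt'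
    have := hmax S T' hne' hne2
    exact absurd (Subgroup.eq_of_le_of_card_ge hlt'.le this) hlt'.ne
  have hP0 : (P₀ : Subgroup G) ≠ D := fun e =>
    hPQ (Sylow.ext (P₀.3 Q₀.2 (e.le.trans inf_le_right)).symm)
  have hQ0 : (Q₀ : Subgroup G) ≠ D := fun e =>
    hPQ (Sylow.ext (Q₀.3 P₀.2 (e.le.trans inf_le_left)))
  exact hPQ ((key P₀ inf_le_left hP0).trans (key Q₀ inf_le_right hQ0).symm)

end Cfsg.Agent.H67.IsolatedPrime
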