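import Mathlib
import Cfsg.Agent.Cores.PCore

/-!
A finite group with two or more primes dividing the order exactly once, pairwise not adjacent in
the prime graph, has a nonabelian simple chief factor carrying all of them.
-/

set_option autoImplicit false

namespace Cfsg.Agent.H67

variable {G : Type*} [Group G] [Finite G]

theorem exists_orderOf_eq_mul {p q : ℕ} (hpq : p.Coprime q) {x y : G} (h : Commute x y)
    (hx : orderOf x = p) (hy : orderOf y = q) : ∃ z : G, orderOf z = p * q :=
  ⟨x * y, by rw [h.orderOf_mul_eq_mul_orderOf_of_coprime (hx.symm ▸ hy.symm ▸ hpq), hx, hy]⟩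

/-- Frattini: if `p` divides a normal subgroup and `q` divides its index, there is an element of
order `p * q`. -/
theorem exists_orderOf_mul_of_normal {p q : ℕ} (hp : p.Prime) (hq : q.Prime) (hne : p ≠ q)
    (hsq : ¬ p ^ 2 ∣ Nat.card G) (hq1 : ¬ q ∣ p - 1) (N : Subgroup G) [N.Normal]
    (hpN : p ∣ Nat.card N) (hqN : q ∣ N.index) : ∃ z : G, orderOf z = p * q := by
  haveI := Fact.mk hp
  haveI := Fact.mk hq
  let P : Sylow p N := default
  have hPcard : Nat.card ((P : Subgroup N).map N.subtype) = p := by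
    rw [Nat.card_congr (Subgroup.equivMapOfInjective _ _ N.subtype_injective).symm.toEquiv,
      P.card_eq_multiplicity]
    have h1 : (Nat.card N).factorization p = 1 := by
      have h0 := Nat.pos_of_ne_zero (Nat.card_pos (α := N)).ne'
      have ha : 1 ≤ (Nat.card N).factorization p :=
        (hp.pow_dvd_iff_le_factorization h0.ne').1 (by simpa using hpN)
      by_contra hb
      exact hsq (((hp.pow_dvd_iff_le_factorization h0.ne').2 (by omega)).trans
        (Subgroup.card_subgroup_dvd_card N))
    rw [h1, pow_one]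
  set P₀ := (P : Subgroup N).map N.subtype with hP₀
  set M := Subgroup.normalizer (P₀ : Set G) with hM
  have hsup : M ⊔ N = ⊤ := Sylow.normalizer_sup_eq_top P
  have hq' : q ∣ Nat.card M := by
    refine hqN.trans ?_
    rw [← Subgroup.relIndex_top_right N, ← hsup, Subgroup.relIndex_sup_right]
    exact Subgroup.relIndex_dvd_card N M
  obtain ⟨y, hy⟩ := exists_prime_orderOf_dvd_card' (G := M) q hq'
  have hP1 : 1 < Nat.card P₀ := hPcard.symm ▸ hp.one_lt
  obtain ⟨x, hx, hxne⟩ := Subgroup.bot_or_exists_ne_one P₀ |>.resolve_left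
    (fun h => by rw [h, Subgroup.card_bot] at hP1; omega)
  have hxo : orderOf x = p := by
    have h1 : orderOf x ∣ p := hPcard ▸ Subgroup.orderOf_dvd_natCard P₀ hx
    exact ((Nat.dvd_prime hp).1 h1).resolve_left (fun h => hxne (orderOf_eq_one_iff.1 h))
  have hcyc : IsCyclic P₀ := isCyclic_of_prime_card hPcard
  let f : M →* MulAut P₀ := Subgroup.normalizerMonoidHom P₀
  have hd : orderOf (f y) ∣ p - 1 := by
    have h1 : orderOf (f y) ∣ Nat.card (MulAut P₀) := orderOf_dvd_natCard _
    rwa [IsCyclic.card_mulAut, hPcard, Nat.totient_prime hp] at h1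
  have h1 : f y = 1 := by
    rw [← orderOf_eq_one_iff]
    have h2 : orderOf (f y) ∣ q := hy ▸ orderOf_map_dvd f y
    exact ((Nat.dvd_prime hq).1 h2).resolve_right (fun h => hq1 (h ▸ hd))
  have hcomm : Commute x (y : G) := by
    have h2 : f y ⟨x, hx⟩ = ⟨x, hx⟩ := by rw [h1]; rfl
    have h3 : (y : G) * x * (y : G)⁻¹ = x := by
      have := congrArg Subtype.val h2
      exact this
    exact (eq_mul_inv_iff_mul_eq.1 (h3.symm)).trans rfl
  exact exists_orderOf_eq_mul ((Nat.coprime_primes hp hq).2 hne) hcomm hxo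
    (by rw [← hy, Subgroup.orderOf_coe])

theorem exists_simple_section (S : Set ℕ) (hS : ∀ p ∈ S, p.Prime ∧ p ∣ Nat.card G ∧ ¬ p ^ 2 ∣ Nat.card G)
    (hdiv : ∀ p ∈ S, ∀ q ∈ S, p ≠ q → ¬ q ∣ p - 1)
    (hno : ∀ p ∈ S, ∀ q ∈ S, p ≠ q → ∀ z : G, orderOf z ≠ p * q)
    {p q : ℕ} (hpS : p ∈ S) (hqS : q ∈ S) (hne : p ≠ q) :
    ∃ (N H : Subgroup G) (_ : N.Normal), H.Normal ∧ N < H ∧
      IsSimpleGroup (↥H ⧸ N.subgroupOf H) ∧ ¬ IsMulCommutative (↥H ⧸ N.subgroupOf H) ∧
      ∀ r ∈ S, r ∣ Nat.card (↥H ⧸ N.subgroupOf H) := by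
  classical
  -- all or nothing
  have all : ∀ K : Subgroup G, K.Normal → ∀ r ∈ S, r ∣ Nat.card K → ∀ s ∈ S, s ∣ Nat.card K := by
    intro K hK r hr hrK s hs
    by_cases hrs : r = s
    · exact hrs ▸ hrK
    · by_contra hsK
      have hs' : s ∣ K.index := by
        have h1 : s ∣ Nat.card K * K.index := (Subgroup.card_mul_index K).symm ▸ (hS s hs).2.1
        exact ((hS s hs).1.dvd_mul.1 h1).resolve_left hsK
      obtain ⟨z, hz⟩ := exists_orderOf_mul_of_normal (hS r hr).1 (hS s hs).1 hrs (hS r hr).2.2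
        (hdiv r hr s hs hrs) K hrK hs'
      exact hno r hr s hs hrs z hz
  haveI := Fact.mk (hS p hpS).1
  obtain ⟨N, ⟨hNn, hNp⟩, hNmax⟩ := exists_maximal_of_wellFoundedGT
    (fun K : Subgroup G => K.Normal ∧ ¬ p ∣ Nat.card K) ⟨⊥, inferInstance, by
      simpa using (hS p hpS).1.one_lt.ne'⟩
  have hNtop : N < ⊤ := lt_top_iff_ne_top.2 (fun h => hNp (by
    rw [h, Subgroup.card_top]; exact (hS p hpS).2.1))
  obtain ⟨H, ⟨hHn, hNH⟩, hHmin⟩ := exists_minimal_of_wellFoundedLT
    (fun K : Subgroup G => K.Normal ∧ N < K) ⟨⊤, inferInstance, hNtop⟩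
  have : N.Normal := hNn
  have : H.Normal := hHn
  have hHp : p ∣ Nat.card H := by
    by_contra h
    exact hNH.not_ge (hNmax ⟨hHn, h⟩ hNH.le)
  have between : ∀ K : Subgroup G, K.Normal → N ≤ K → K ≤ H → K = N ∨ K = H := by
    intro K hK h1 h2
    rcases eq_or_lt_of_le h1 with h | h
    · exact Or.inl h.symm
    · exact Or.inr (le_antisymm h2 (hHmin ⟨hK, h⟩ h2))
  set N' := N.subgroupOf H with hN'def
  haveI : N'.Normal := inferInstance
  have hN'card : Nat.card N' = Nat.card N := Nat.card_congr (Subgroup.subgroupOfEquivOfLe hNH.le).toEquiv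
  have hdvd : ∀ r ∈ S, r ∣ Nat.card (↥H ⧸ N') := by
    intro r hr
    have h1 : r ∣ Nat.card (↥H ⧸ N') * Nat.card N' :=
      (Subgroup.card_eq_card_quotient_mul_card_subgroup N') ▸ all H hHn p hpS hHp r hr
    refine ((hS r hr).1.dvd_mul.1 h1).resolve_right ?_
    rw [hN'card]
    exact fun h => hNp (all N hNn r hr h p hpS)
  have hNT : ∀ T : Subgroup H, T.Normal → N' ≤ T → T ≠ N' → p ∣ Nat.card T := by
    intro T hT hle hneT
    by_contra h
    have hTle : T ≤ pPrimeCore p H :=
      Cores.le_pPrimeCore (((hS p hpS).1.coprime_iff_not_dvd.2 h).symm)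
    set C := (pPrimeCore p H).map H.subtype
    have hC : C.Normal := inferInstance
    have hNC : N ≤ C := by
      intro x hx
      exact ⟨⟨x, hNH.le hx⟩, hTle (hle (Subgroup.mem_subgroupOf.2 hx)), rfl⟩
    rcases between C hC hNC (Subgroup.map_subtype_le _) with h1 | h1
    · apply hneT (le_antisymm ?_ hle)
      intro x hx
      rw [Subgroup.mem_subgroupOf, ← h1]
      exact ⟨x, hTle hx, rfl⟩
    · have h2 : Nat.card C = Nat.card (pPrimeCore p H) :=
        (Nat.card_congr (Subgroup.equivMapOfInjective _ _ H.subtype_injective).toEquiv).symm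
      rw [h1] at h2
      exact Cores.not_dvd_card_pPrimeCore (G := H) (h2 ▸ hHp)
  have hsimple : IsSimpleGroup (↥H ⧸ N') := by
    have : Nontrivial (↥H ⧸ N') := by
      rw [← Finite.one_lt_card_iff_nontrivial]
      exact lt_of_lt_of_le (hS p hpS).1.one_lt (Nat.le_of_dvd Nat.card_pos (hdvd p hpS))
    refine ⟨fun K hK => ?_⟩
    set T := K.comap (QuotientGroup.mk' N') with hTdef
    have hT : T.Normal := hK.comap _
    have hNT' : N' ≤ T := fun x hx => by
      simp [hTdef, Subgroup.mem_comap, (QuotientGroup.eq_one_iff x).2 hx]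
    have hKT : K = T.map (QuotientGroup.mk' N') :=
      (Subgroup.map_comap_eq_self_of_surjective (QuotientGroup.mk'_surjective N') K).symm
    by_cases hTN : T = N'
    · left
      rw [hKT, hTN, Subgroup.map_eq_bot_iff, QuotientGroup.ker_mk']
    right
    -- the core of `T` in `G`
    set D := (T.map H.subtype).normalCore
    have hDle : D ≤ T.map H.subtype := Subgroup.normalCore_le _
    have hND : N ≤ D := Subgroup.normal_le_normalCore.2 fun x hx =>
      ⟨⟨x, hNH.le hx⟩, hNT' (Subgroup.mem_subgroupOf.2 hx), rfl⟩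
    rcases between D inferInstance hND (hDle.trans (Subgroup.map_subtype_le _)) with h1 | h1
    · exfalso
      apply hNp
      -- every Sylow `p`-subgroup of `H` lies in every conjugate of `T`
      let P : Sylow p H := default
      have hPcard : Nat.card P = p := by
        rw [P.card_eq_multiplicity]
        have h0 := (Nat.card_pos (α := H)).ne'
        have ha : 1 ≤ (Nat.card H).factorization p :=
          ((hS p hpS).1.pow_dvd_iff_le_factorization h0).1 (by simpa using hHp)
        have hb : (Nat.card H).factorization p ≤ 1 := by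
          by_contra hb
          exact (hS p hpS).2.2 ((((hS p hpS).1.pow_dvd_iff_le_factorization h0).2 (by omega)).trans
            (Subgroup.card_subgroup_dvd_card H))
        rw [le_antisymm hb ha, pow_one]
      have hin : ∀ U : Subgroup H, U.Normal → p ∣ Nat.card U → (P : Subgroup H) ≤ U := by
        intro U hU hpU
        obtain ⟨u, hu⟩ := exists_prime_orderOf_dvd_card' (G := U) p hpU
        obtain ⟨Q, hQ⟩ := (IsPGroup.of_card (p := p) (n := 1) (G := Subgroup.zpowers (u : H))
          (by rw [Nat.card_zpowers, Subgroup.orderOf_coe, hu, pow_one])).exists_le_sylow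
        have hQeq : Subgroup.zpowers (u : H) = (Q : Subgroup H) := by
          refine Subgroup.eq_of_le_of_card_ge hQ ?_
          have hQc : Nat.card Q = p := by
            rw [Q.card_eq_multiplicity, ← P.card_eq_multiplicity, hPcard]
          rw [Nat.card_zpowers, Subgroup.orderOf_coe, hu]
          exact hQc.le
        obtain ⟨g, hg⟩ := MulAction.exists_smul_eq H Q P
        intro x hx
        rw [← hg, Sylow.coe_subgroup_smul, Subgroup.mem_pointwise_smul_iff_inv_smul_mem, ← hQeq] at hx
        have hle : Subgroup.zpowers (u : H) ≤ U := Subgroup.zpowers_le.2 u.2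
        have := hU.conj_mem _ (hle hx) g
        simpa [mul_assoc] using this
      have hPD : (P : Subgroup H).map H.subtype ≤ D := by
        rintro _ ⟨x, hx, rfl⟩ g
        -- the conjugate `g T g⁻¹` as a normal subgroup of `H`
        let c : H ≃* H :=
          { toFun := fun h => ⟨g * h * g⁻¹, hHn.conj_mem _ h.2 g⟩
            invFun := fun h => ⟨g⁻¹ * h * g, by simpa using hHn.conj_mem _ h.2 g⁻¹⟩
            left_inv := fun h => Subtype.ext (by simp [mul_assoc])
            right_inv := fun h => Subtype.ext (by simp [mul_assoc])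
            map_mul' := fun a b => Subtype.ext (by simp [mul_assoc]) }
        have hU : (T.comap c.toMonoidHom).Normal := hT.comap _
        have hpU : p ∣ Nat.card (T.comap c.toMonoidHom) := by
          have hcd : Nat.card (T.comap c.toMonoidHom) = Nat.card T :=
            Nat.card_congr (c.toEquiv.subtypeEquiv (p := fun h => h ∈ T.comap c.toMonoidHom)
              (q := fun h => h ∈ T) fun _ => Iff.rfl)
          exact hcd ▸ hNT T hT hNT' hTN
        exact ⟨c x, hin _ hU hpU hx, rfl⟩
      have h2 := Subgroup.card_dvd_of_le hPD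
      rw [h1, ← Nat.card_congr (Subgroup.equivMapOfInjective _ _ H.subtype_injective).toEquiv,
        hPcard] at h2
      exact h2
    · rw [hKT]
      have hTtop : T = ⊤ := by
        rw [eq_top_iff]
        intro x _
        obtain ⟨y, hy, hyx⟩ := (h1 ▸ hDle) x.2
        rwa [← Subtype.ext hyx]
      rw [hTtop, Subgroup.map_top_of_surjective _ (QuotientGroup.mk'_surjective N')]
  refine ⟨N, H, hNn, hHn, hNH, hsimple, ?_, hdvd⟩
  intro hc
  haveI := Fact.mk (hS q hqS).1
  obtain ⟨x, hx⟩ := exists_prime_orderOf_dvd_card' (G := ↥H ⧸ N') p (hdvd p hpS)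
  obtain ⟨y, hy⟩ := exists_prime_orderOf_dvd_card' (G := ↥H ⧸ N') q (hdvd q hqS)
  have hxy : Commute x y := hc.is_comm.comm x y
  obtain ⟨z, hz⟩ := exists_orderOf_eq_mul ((Nat.coprime_primes (hS p hpS).1 (hS q hqS).1).2 hne) hxy hx hy
  obtain ⟨w, rfl⟩ := QuotientGroup.mk'_surjective N' z
  have hd : p * q ∣ orderOf (w : G) := by
    rw [Subgroup.orderOf_coe, ← hz]; exact orderOf_map_dvd _ w
  exact hno p hpS q hqS hne _ (orderOf_pow_orderOf_div (orderOf_pos (w : G)).ne' hd)

/-- In the setting of `exists_simple_section`, the group is not solvable. -/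
theorem not_isSolvable_of_section {N H : Subgroup G} [N.Normal]
    (hs : IsSimpleGroup (↥H ⧸ N.subgroupOf H)) (hna : ¬ IsMulCommutative (↥H ⧸ N.subgroupOf H)) :
    ¬ Group.IsSolvable G := by
  intro h
  have := h
  have hq : Group.IsSolvable (↥H ⧸ N.subgroupOf H) :=
    Group.isSolvable_of_surjective (QuotientGroup.mk'_surjective (N.subgroupOf H))
  exact hna ⟨⟨fun a b => IsSimpleGroup.comm_iff_isSolvable.2 hq a b⟩⟩

end Cfsg.Agent.H67
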