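import Mathlib

/-!
Two primes between `m` and `2 m` for `m ≥ 6`.
-/

set_option autoImplicit false

namespace Cfsg.Agent.H67

theorem centralBinom_le_of_le_one_prime (n : ℕ) (hn : 2 < n)
    (h : ((Finset.range (2 * n + 1)).filter fun p => p.Prime ∧ n < p).card ≤ 1) :
    Nat.centralBinom n ≤ 2 * n * ((2 * n) ^ Nat.sqrt (2 * n) * 4 ^ (2 * n / 3)) := by
  classical
  let f : ℕ → ℕ := fun p => p ^ (Nat.centralBinom n).factorization p
  have hf : ∀ p, f p ≤ 2 * n := fun p => Nat.pow_factorization_choose_le (by omega)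
  have key : ∀ p ∈ Finset.range (2 * n + 1), f p ≤
      (if p.Prime ∧ n < p then 2 * n else 1) * (if 1 ≤ p ∧ p ≤ Nat.sqrt (2 * n) then 2 * n else 1) *
        (if p.Prime ∧ p ≤ 2 * n / 3 then p else 1) := by
    intro p _
    have h2n : 1 ≤ 2 * n := by omega
    by_cases hp : p.Prime
    · have hp1 : 1 ≤ p := hp.one_lt.le
      by_cases h1 : n < p
      · rw [if_pos ⟨hp, h1⟩]
        refine (hf p).trans ?_
        have a : 1 ≤ (if 1 ≤ p ∧ p ≤ Nat.sqrt (2 * n) then 2 * n else 1) := by split_ifs <;> omega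
        have b : 1 ≤ (if p.Prime ∧ p ≤ 2 * n / 3 then p else 1) := by split_ifs <;> omega
        exact le_trans (Nat.le_mul_of_pos_right _ a) (Nat.le_mul_of_pos_right _ b)
      rw [if_neg (fun h => h1 h.2), one_mul]
      by_cases h2 : p ≤ Nat.sqrt (2 * n)
      · rw [if_pos ⟨hp1, h2⟩]
        refine (hf p).trans ?_
        have b : 1 ≤ (if p.Prime ∧ p ≤ 2 * n / 3 then p else 1) := by split_ifs <;> omega
        nlinarith
      rw [if_neg (fun h => h2 h.2), one_mul]
      by_cases h3 : p ≤ 2 * n / 3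
      · rw [if_pos ⟨hp, h3⟩]
        calc f p ≤ p ^ 1 := Nat.pow_le_pow_right hp1
              (Nat.factorization_choose_le_one (Nat.sqrt_lt'.mp (not_le.1 h2)))
          _ = p := pow_one p
      · rw [if_neg (fun h => h3 h.2)]
        show p ^ (Nat.centralBinom n).factorization p ≤ 1
        rw [Nat.factorization_centralBinom_of_two_mul_self_lt_three_mul hn (by omega) (by omega)]
        simp
    · show p ^ (Nat.centralBinom n).factorization p ≤ _
      rw [Nat.factorization_eq_zero_of_not_prime _ hp, pow_zero]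
      have a : 1 ≤ (if 1 ≤ p ∧ p ≤ Nat.sqrt (2 * n) then 2 * n else 1) := by split_ifs <;> omega
      rw [if_neg (fun h : p.Prime ∧ n < p => hp h.1),
        if_neg (fun h : p.Prime ∧ p ≤ 2 * n / 3 => hp h.1), one_mul, mul_one]
      exact a
  rw [← Nat.prod_pow_factorization_centralBinom n]
  refine (Finset.prod_le_prod' key).trans ?_
  rw [Finset.prod_mul_distrib, Finset.prod_mul_distrib, mul_assoc]
  refine Nat.mul_le_mul ?_ (Nat.mul_le_mul ?_ ?_)
  · rw [← Finset.prod_filter, Finset.prod_const]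
    calc _ ≤ (2 * n) ^ 1 := Nat.pow_le_pow_right (by omega) h
      _ = 2 * n := pow_one _
  · rw [← Finset.prod_filter, Finset.prod_const]
    refine Nat.pow_le_pow_right (by omega) ?_
    refine (Finset.card_le_card (t := Finset.Icc 1 (Nat.sqrt (2 * n))) ?_).trans (by simp)
    intro x hx
    obtain ⟨-, h1, h2⟩ := Finset.mem_filter.1 hx
    exact Finset.mem_Icc.2 ⟨h1, h2⟩
  · rw [← Finset.prod_filter]
    refine le_trans ?_ (primorial_le_four_pow (2 * n / 3))
    refine Finset.prod_le_prod_of_subset_of_one_le' ?_ ?_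
    · intro x hx
      obtain ⟨-, h1, h2⟩ := Finset.mem_filter.1 hx
      exact Finset.mem_filter.2 ⟨Finset.mem_range.2 (by omega), h1⟩
    · exact fun p hp _ => (Finset.mem_filter.1 hp).2.one_lt.le

theorem eight_mul_le_two_pow : ∀ t : ℕ, 6 ≤ t → 8 * t + 8 ≤ 2 ^ t := by
  intro t ht
  induction t, ht using Nat.le_induction with
  | base => norm_num
  | succ t ht ih => rw [pow_succ]; omega

theorem big_inequality (n : ℕ) (hn : 1180 ≤ n) :
    2 * n * n * ((2 * n) ^ Nat.sqrt (2 * n) * 4 ^ (2 * n / 3)) ≤ 4 ^ n := by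
  set s := Nat.sqrt (2 * n) with hsdef
  have hs1 : s * s ≤ 2 * n := Nat.sqrt_le _
  have hs2 : 2 * n < (s + 1) * (s + 1) := Nat.lt_succ_sqrt _
  have hs48 : 48 ≤ s := Nat.le_sqrt.2 (by omega)
  set t := (s + 1) / 8
  have ht : 6 ≤ t := by omega
  have h2 : s + 1 ≤ 2 ^ t := le_trans (by omega) (eight_mul_le_two_pow t ht)
  have hb : 2 * n ≤ 2 ^ (2 * t) := by
    rw [two_mul t, pow_add]
    exact le_trans hs2.le (Nat.mul_le_mul h2 h2)
  have hexp : 2 * t * (s + 2) ≤ 2 * (n - 2 * n / 3) := by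
    have h3 : 8 * t ≤ s + 1 := Nat.mul_div_le _ 8
    have h4 : 8 * t * (s + 2) ≤ (s + 1) * (s + 2) := Nat.mul_le_mul_right _ h3
    have h5 : 3 * (n - 2 * n / 3) ≥ n := by omega
    nlinarith
  calc 2 * n * n * ((2 * n) ^ s * 4 ^ (2 * n / 3))
      ≤ (2 * n) ^ (s + 2) * 4 ^ (2 * n / 3) := by
        rw [← mul_assoc]
        refine Nat.mul_le_mul_right _ ?_
        rw [pow_add, sq, mul_comm ((2 * n) ^ s)]
        gcongr
        omega
    _ ≤ (2 ^ (2 * t)) ^ (s + 2) * 4 ^ (2 * n / 3) := by gcongr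
    _ ≤ 4 ^ (n - 2 * n / 3) * 4 ^ (2 * n / 3) := by
        refine Nat.mul_le_mul_right _ ?_
        rw [← pow_mul, show (4 : ℕ) = 2 ^ 2 from rfl, ← pow_mul]
        exact Nat.pow_le_pow_right (by norm_num) hexp
    _ = 4 ^ n := by rw [← pow_add]; congr 1; omega

theorem two_primes_of_large (n : ℕ) (hn : 1180 ≤ n) :
    ∃ p q : ℕ, p.Prime ∧ q.Prime ∧ n < p ∧ p < q ∧ q ≤ 2 * n := by
  classical
  by_contra hc
  have h : ((Finset.range (2 * n + 1)).filter fun p => p.Prime ∧ n < p).card ≤ 1 := by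
    rw [Finset.card_le_one]
    intro a ha b hb
    obtain ⟨ha0, ha1, ha2⟩ := Finset.mem_filter.1 ha
    obtain ⟨hb0, hb1, hb2⟩ := Finset.mem_filter.1 hb
    rw [Finset.mem_range] at ha0 hb0
    rcases lt_trichotomy a b with hab | hab | hab
    · exact absurd ⟨a, b, ha1, hb1, ha2, hab, by omega⟩ hc
    · exact hab
    · exact absurd ⟨b, a, hb1, ha1, hb2, hab, by omega⟩ hc
  have h1 := Nat.four_pow_lt_mul_centralBinom n (by omega)
  have h2 := Nat.mul_le_mul_left n (centralBinom_le_of_le_one_prime n (by omega) h)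
  have h3 := big_inequality n hn
  rw [← mul_assoc, mul_comm n (2 * n)] at h2
  omega

theorem two_primes (n : ℕ) (hn : 6 ≤ n) :
    ∃ p q : ℕ, p.Prime ∧ q.Prime ∧ n < p ∧ p < q ∧ q ≤ 2 * n := by
  rcases lt_or_ge n 1180 with h | h
  · rcases lt_or_ge n 7 with h1 | h1
    · exact ⟨7, 11, by norm_num, by norm_num, by omega, by norm_num, by omega⟩
    rcases lt_or_ge n 11 with h2 | h2
    · exact ⟨11, 13, by norm_num, by norm_num, by omega, by norm_num, by omega⟩
    rcases lt_or_ge n 17 with h3 | h3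
    · exact ⟨17, 19, by norm_num, by norm_num, by omega, by norm_num, by omega⟩
    rcases lt_or_ge n 29 with h4 | h4
    · exact ⟨29, 31, by norm_num, by norm_num, by omega, by norm_num, by omega⟩
    rcases lt_or_ge n 47 with h5 | h5
    · exact ⟨47, 53, by norm_num, by norm_num, by omega, by norm_num, by omega⟩
    rcases lt_or_ge n 83 with h6 | h6
    · exact ⟨83, 89, by norm_num, by norm_num, by omega, by norm_num, by omega⟩
    rcases lt_or_ge n 157 with h7 | h7
    · exact ⟨157, 163, by norm_num, by norm_num, by omega, by norm_num, by omega⟩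
    rcases lt_or_ge n 307 with h8 | h8
    · exact ⟨307, 311, by norm_num, by norm_num, by omega, by norm_num, by omega⟩
    rcases lt_or_ge n 601 with h9 | h9
    · exact ⟨601, 607, by norm_num, by norm_num, by omega, by norm_num, by omega⟩
    exact ⟨1181, 1187, by norm_num, by norm_num, by omega, by norm_num, by omega⟩
  · exact two_primes_of_large n h

/-- Two primes in `(n / 2, n]` for `n ≥ 11`. -/
theorem two_primes_half (n : ℕ) (hn : 11 ≤ n) :
    ∃ p q : ℕ, p.Prime ∧ q.Prime ∧ n < 2 * p ∧ p < q ∧ q ≤ n := by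
  rcases lt_or_ge n 12 with h | h
  · exact ⟨7, 11, by norm_num, by norm_num, by omega, by norm_num, by omega⟩
  · obtain ⟨p, q, hp, hq, h1, h2, h3⟩ := two_primes (n / 2) (by omega)
    exact ⟨p, q, hp, hq, by omega, h2, by omega⟩

end Cfsg.Agent.H67
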