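import Mathlib
import Cfsg.Agent.H67.TwoPrimes
import Cfsg.Agent.H67.PrimeSection

/-!
Large primes in the spectrum of the alternating group.
-/

set_option autoImplicit false

namespace Cfsg.Agent.H67

theorem alt_no_orderOf_mul (n p q : ℕ) (hp : p.Prime) (hq : q.Prime) (hne : p ≠ q) (hsum : n < p + q)
    (g : alternatingGroup (Fin n)) : orderOf g ≠ p * q := by
  intro h
  have hl : (g : Equiv.Perm (Fin n)).cycleType.lcm = p * q := by
    rw [Equiv.Perm.lcm_cycleType, Subgroup.orderOf_coe, h]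
  have hs : (g : Equiv.Perm (Fin n)).cycleType.sum ≤ n := by
    rw [Equiv.Perm.sum_cycleType]
    exact (Finset.card_le_univ _).trans_eq (Fintype.card_fin n)
  set c := (g : Equiv.Perm (Fin n)).cycleType with hc
  have key : ∀ r : ℕ, r.Prime → r ∣ p * q → ∃ a ∈ c, r ∣ a := by
    intro r hr hd
    by_contra hno
    simp only [not_exists, not_and] at hno
    rw [← hl] at hd
    have : ∀ s : Multiset ℕ, (∀ a ∈ s, ¬ r ∣ a) → ¬ r ∣ s.lcm := by
      intro s
      induction s using Multiset.induction with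
      | empty => intro _; simpa using hr.one_lt.ne'
      | cons a s ih =>
        intro h1 h2
        rw [Multiset.lcm_cons] at h2
        have h3 : r ∣ a * s.lcm := h2.trans (Nat.lcm_dvd_mul _ _)
        rcases hr.dvd_mul.1 h3 with h4 | h4
        · exact h1 a (Multiset.mem_cons_self _ _) h4
        · exact ih (fun b hb => h1 b (Multiset.mem_cons_of_mem hb)) h4
    exact this c hno hd
  obtain ⟨a, ha, hpa⟩ := key p hp (dvd_mul_right _ _)
  obtain ⟨b, hb, hqb⟩ := key q hq (dvd_mul_left _ _)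
  have ha0 : 0 < a := Nat.lt_of_lt_of_le two_pos (Equiv.Perm.two_le_of_mem_cycleType ha)
  have hb0 : 0 < b := Nat.lt_of_lt_of_le two_pos (Equiv.Perm.two_le_of_mem_cycleType hb)
  have h1 : a ≤ c.sum := Multiset.le_sum_of_mem ha
  have hpa' := Nat.le_of_dvd ha0 hpa
  have hqb' := Nat.le_of_dvd hb0 hqb
  by_cases hab : a = b
  · subst hab
    have h2 : p * q ∣ a := ((Nat.coprime_primes hp hq).2 hne).mul_dvd_of_dvd_of_dvd hpa hqb
    have := Nat.le_of_dvd ha0 h2
    have := hp.two_le
    have := hq.two_le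
    nlinarith
  · have h2 : b ∈ c.erase a := (Multiset.mem_erase_of_ne (fun h => hab h.symm)).2 hb
    have h3 : b ≤ (c.erase a).sum := Multiset.le_sum_of_mem h2
    have h4 : a + (c.erase a).sum = c.sum := by
      rw [← Multiset.sum_cons, Multiset.cons_erase ha]
    omega

theorem exact_dvd_card_alt (n p : ℕ) (hp : p.Prime) (h1 : n < 2 * p) (h2 : p ≤ n) (h5 : 5 ≤ n) :
    p ∣ Nat.card (alternatingGroup (Fin n)) ∧ ¬ p ^ 2 ∣ Nat.card (alternatingGroup (Fin n)) := by
  haveI : Nontrivial (Fin n) := Fin.nontrivial_iff_two_le.2 (by omega)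
  have hc : 2 * Nat.card (alternatingGroup (Fin n)) = n.factorial := by
    rw [two_mul_nat_card_alternatingGroup, Nat.card_perm, Nat.card_eq_fintype_card, Fintype.card_fin]
  have hp3 : 2 < p := by omega
  have hcop : p.Coprime 2 := (Nat.coprime_primes hp Nat.prime_two).2 (by omega)
  constructor
  · refine hcop.dvd_of_dvd_mul_left (hc.symm ▸ ?_)
    exact (Nat.dvd_factorial hp.pos h2)
  · intro h
    have h3 : p ^ 2 ∣ n.factorial := hc ▸ Dvd.dvd.mul_left h 2
    have h4 : ¬ p ^ 2 ∣ n.factorial := by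
      clear h3 h hc hcop hp3
      induction n with
      | zero => omega
      | succ m ih =>
        intro h
        rcases eq_or_lt_of_le h2 with h6 | h6
        · rw [Nat.factorial_succ, ← h6, sq] at h
          have h7 := Nat.dvd_of_mul_dvd_mul_left hp.pos h
          have := (hp.dvd_factorial).1 h7
          omega
        · rw [Nat.factorial_succ] at h
          have hnd : ¬ p ∣ m + 1 := by
            rintro ⟨k, hk⟩
            rcases k with - | - | k
            · omega
            · omega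
            · nlinarith
          have h8 : p ^ 2 ∣ m.factorial :=
            ((hp.coprime_iff_not_dvd.2 hnd).pow_left 2).dvd_of_dvd_mul_left h
          by_cases h9 : 5 ≤ m
          · exact ih (by omega) (by omega) h9 (Fin.nontrivial_iff_two_le.2 (by omega)) h8
          · have hm : m = 4 := by omega
            subst hm
            have : p ∣ Nat.factorial 4 := (dvd_pow_self p two_ne_zero).trans h8
            have h10 := (hp.dvd_factorial).1 this
            have hp4 : p = 3 ∨ p = 4 := by omega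
            rcases hp4 with rfl | rfl
            · norm_num [Nat.factorial] at h8
            · norm_num at hp
    exact h4 h3

theorem not_dvd_sub_one (n p q : ℕ) (hp : p.Prime) (hq : q.Prime) (h5 : 5 ≤ n)
    (h1 : p ≤ n) (h2 : n < 2 * q) : ¬ q ∣ p - 1 := by
  rintro ⟨k, hk⟩
  have := hp.two_le
  have := hq.two_le
  rcases k with - | - | k
  · omega
  · have hpq : p = q + 1 := by omega
    rcases hp.eq_two_or_odd with h | h <;> rcases hq.eq_two_or_odd with h' | h' <;> omega
  · have h3 : 2 * q ≤ q * (k + 1 + 1) := by rw [mul_comm 2 q]; exact Nat.mul_le_mul_left q (by omega)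
    omega

theorem alt_section {G : Type*} [Group G] [Finite G] (n : ℕ) (hn : 11 ≤ n)
    (hcard : Nat.card G = Nat.card ↥(alternatingGroup (Fin n)))
    (hspec : Set.range (orderOf : G → ℕ) = Set.range (orderOf : ↥(alternatingGroup (Fin n)) → ℕ)) :
    ∃ (N H : Subgroup G) (_ : N.Normal), H.Normal ∧ N < H ∧
      IsSimpleGroup (↥H ⧸ N.subgroupOf H) ∧ ¬ IsMulCommutative (↥H ⧸ N.subgroupOf H) ∧
      ∀ p : ℕ, p.Prime → n < 2 * p → p ≤ n → p ∣ Nat.card (↥H ⧸ N.subgroupOf H) := by
  obtain ⟨p, q, hp, hq, hnp, hpq, hqn⟩ := two_primes_half n hn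
  have key := exists_simple_section (G := G) {r | r.Prime ∧ n < 2 * r ∧ r ≤ n} ?_ ?_ ?_
    (p := p) (q := q) ⟨hp, hnp, by omega⟩ ⟨hq, by omega, hqn⟩ hpq.ne
  · obtain ⟨N, H, hN, hH, hlt, hs, hna, hd⟩ := key
    exact ⟨N, H, hN, hH, hlt, hs, hna, fun r h1 h2 h3 => hd r ⟨h1, h2, h3⟩⟩
  · rintro r ⟨hr, h1, h2⟩
    rw [hcard]
    exact ⟨hr, exact_dvd_card_alt n r hr h1 h2 (by omega)⟩
  · rintro r ⟨hr, h1, h2⟩ s ⟨hs, h3, h4⟩ _
    exact not_dvd_sub_one n r s hr hs (by omega) h2 h3
  · rintro r ⟨hr, h1, -⟩ s ⟨hs, h3, -⟩ hne z hz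
    obtain ⟨g, hg⟩ : r * s ∈ Set.range (orderOf : ↥(alternatingGroup (Fin n)) → ℕ) := hspec ▸ ⟨z, hz⟩
    exact alt_no_orderOf_mul n r s hr hs hne (by omega) g hg

end Cfsg.Agent.H67
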