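import Mathlib

/-!
A group of exponent 9 over the field with 81 elements whose cube map is `(v, w) ↦ w³(v w⁹ - v⁹ w)`,
extended by the Frobenius group of order 20.
-/

set_option autoImplicit false

namespace Cfsg.Agent.H67

variable (F : Type*) [Field F] [CharP F 3]

/-- The carrier. -/
@[ext]
structure Cube where
  v : F
  w : F
  p₁ : F
  r₁ : F
  p₂ : F
  r₂ : F
  z : F

variable {F}

namespace Cube

local instance : Fact (Nat.Prime 3) := ⟨Nat.prime_three⟩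

theorem cube_add (a b : F) : (a + b) ^ 3 = a ^ 3 + b ^ 3 := add_pow_char a b 3

theorem nine_add (a b : F) : (a + b) ^ 9 = a ^ 9 + b ^ 9 := add_pow_char_pow a b 3 2

theorem three_zero : (3 : F) = 0 := by exact_mod_cast CharP.cast_eq_zero F 3

instance : One (Cube F) := ⟨⟨0, 0, 0, 0, 0, 0, 0⟩⟩

instance : Mul (Cube F) := ⟨fun x y =>
  ⟨x.v + y.v, x.w + y.w, x.p₁ + y.p₁ + x.v * y.w ^ 3, x.r₁ + y.r₁ + x.w ^ 3 * y.w ^ 9,
    x.p₂ + y.p₂ + x.v ^ 9 * y.w ^ 3, x.r₂ + y.r₂ + x.w ^ 3 * y.w,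
    x.z + y.z + (x.v * y.r₁ + x.p₁ * y.w ^ 9) - (x.v ^ 9 * y.r₂ + x.p₂ * y.w)⟩⟩

instance : Inv (Cube F) := ⟨fun x =>
  ⟨-x.v, -x.w, -x.p₁ + x.v * x.w ^ 3, -x.r₁ + x.w ^ 3 * x.w ^ 9, -x.p₂ + x.v ^ 9 * x.w ^ 3,
    -x.r₂ + x.w ^ 3 * x.w,
    -x.z + (x.v * x.r₁ - x.v * x.w ^ 3 * x.w ^ 9 + x.p₁ * x.w ^ 9) -
      (x.v ^ 9 * x.r₂ - x.v ^ 9 * x.w ^ 3 * x.w + x.p₂ * x.w)⟩⟩

theorem one_def : (1 : Cube F) = ⟨0, 0, 0, 0, 0, 0, 0⟩ := rfl

theorem mul_def (x y : Cube F) : x * y =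
  ⟨x.v + y.v, x.w + y.w, x.p₁ + y.p₁ + x.v * y.w ^ 3, x.r₁ + y.r₁ + x.w ^ 3 * y.w ^ 9,
    x.p₂ + y.p₂ + x.v ^ 9 * y.w ^ 3, x.r₂ + y.r₂ + x.w ^ 3 * y.w,
    x.z + y.z + (x.v * y.r₁ + x.p₁ * y.w ^ 9) - (x.v ^ 9 * y.r₂ + x.p₂ * y.w)⟩ := rfl

theorem inv_def (x : Cube F) : x⁻¹ =
  ⟨-x.v, -x.w, -x.p₁ + x.v * x.w ^ 3, -x.r₁ + x.w ^ 3 * x.w ^ 9, -x.p₂ + x.v ^ 9 * x.w ^ 3,
    -x.r₂ + x.w ^ 3 * x.w,
    -x.z + (x.v * x.r₁ - x.v * x.w ^ 3 * x.w ^ 9 + x.p₁ * x.w ^ 9) -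
      (x.v ^ 9 * x.r₂ - x.v ^ 9 * x.w ^ 3 * x.w + x.p₂ * x.w)⟩ := rfl

instance instGroup : Group (Cube F) :=
  Group.ofLeftAxioms
    (fun a b c => by
      simp only [mul_def, cube_add, nine_add]
      ext <;> ring)
    (fun a => by
      simp only [mul_def, one_def]
      ext <;> ring)
    (fun a => by
      simp only [mul_def, one_def, inv_def]
      ext <;> ring)

theorem v_mul (x y : Cube F) : (x * y).v = x.v + y.v := rfl

theorem w_mul (x y : Cube F) : (x * y).w = x.w + y.w := rfl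

theorem pow_three (x : Cube F) :
    x ^ 3 = ⟨0, 0, 0, 0, 0, 0, x.w ^ 3 * (x.v * x.w ^ 9 - x.v ^ 9 * x.w)⟩ := by
  have h3 : (3 : F) = 0 := three_zero
  rw [pow_succ, sq, mul_def, mul_def]
  simp only [cube_add, nine_add]
  ext
  · linear_combination x.v * h3
  · linear_combination x.w * h3
  · linear_combination (x.p₁ + x.v * x.w ^ 3) * h3
  · linear_combination (x.r₁ + x.w ^ 3 * x.w ^ 9) * h3
  · linear_combination (x.p₂ + x.v ^ 9 * x.w ^ 3) * h3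
  · linear_combination (x.r₂ + x.w ^ 3 * x.w) * h3
  · linear_combination (x.z + x.v * x.r₁ + x.p₁ * x.w ^ 9 - x.v ^ 9 * x.r₂ - x.p₂ * x.w) * h3

theorem pow_three_central (z : F) : (⟨0, 0, 0, 0, 0, 0, z⟩ : Cube F) ^ 3 = 1 := by
  rw [pow_three, one_def]
  simp

theorem pow_nine (x : Cube F) : x ^ 9 = 1 := by
  rw [show 9 = 3 * 3 from rfl, pow_mul, pow_three x, pow_three_central]

/-- The torus automorphisms. -/
def torus : Fˣ →* MulAut (Cube F) where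
  toFun u :=
    { toFun := fun x => ⟨u * x.v, u * x.w, (u : F) ^ 4 * x.p₁, (u : F) ^ 12 * x.r₁, (u : F) ^ 12 * x.p₂,
        (u : F) ^ 4 * x.r₂, (u : F) ^ 13 * x.z⟩
      invFun := fun x => ⟨(↑u⁻¹ : F) * x.v, (↑u⁻¹ : F) * x.w, (↑u⁻¹ : F) ^ 4 * x.p₁,
        (↑u⁻¹ : F) ^ 12 * x.r₁, (↑u⁻¹ : F) ^ 12 * x.p₂, (↑u⁻¹ : F) ^ 4 * x.r₂, (↑u⁻¹ : F) ^ 13 * x.z⟩
      left_inv := fun x => by ext <;> simp [← mul_assoc, ← mul_pow]
      right_inv := fun x => by ext <;> simp [← mul_assoc, ← mul_pow]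
      map_mul' := fun x y => by
        simp only [mul_def]
        ext <;> ring }
  map_one' := by ext x <;> simp
  map_mul' a b := by
    ext x <;> simp [mul_pow, mul_assoc]

theorem torus_apply (u : Fˣ) (x : Cube F) : torus u x =
    ⟨u * x.v, u * x.w, (u : F) ^ 4 * x.p₁, (u : F) ^ 12 * x.r₁, (u : F) ^ 12 * x.p₂,
      (u : F) ^ 4 * x.r₂, (u : F) ^ 13 * x.z⟩ := rfl

theorem torus_fpf {u : Fˣ} (h5 : u ^ 5 = 1) (h1 : u ≠ 1) {x : Cube F} (hx : torus u x = x) : x = 1 := by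
  have key : ∀ m : ℕ, ¬ 5 ∣ m → ∀ a : F, (u : F) ^ m * a = a → a = 0 := by
    intro m hm a ha
    by_contra ha0
    have h : u ^ m = 1 := Units.ext (by
      rw [Units.val_pow_eq_pow_val, Units.val_one]
      exact mul_right_cancel₀ ha0 (ha.trans (one_mul a).symm))
    apply h1
    have hg : u ^ Nat.gcd 5 m = 1 := pow_gcd_eq_one.2 ⟨h5, h⟩
    rwa [(Nat.Prime.coprime_iff_not_dvd (by norm_num)).2 hm, pow_one] at hg
  rw [torus_apply] at hx
  ext
  · exact key 1 (by norm_num) _ (by simpa using congrArg Cube.v hx)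
  · exact key 1 (by norm_num) _ (by simpa using congrArg Cube.w hx)
  · exact key 4 (by norm_num) _ (congrArg Cube.p₁ hx)
  · exact key 12 (by norm_num) _ (congrArg Cube.r₁ hx)
  · exact key 12 (by norm_num) _ (congrArg Cube.p₂ hx)
  · exact key 4 (by norm_num) _ (congrArg Cube.r₂ hx)
  · exact key 13 (by norm_num) _ (congrArg Cube.z hx)

variable [Finite F]

/-- The Frobenius as an automorphism of the field. -/
noncomputable def sig : F ≃+* F :=
  RingEquiv.ofBijective (frobenius F 3)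
    (Finite.injective_iff_bijective.1 (frobenius_inj F 3))

theorem sig_apply (a : F) : sig a = a ^ 3 := frobenius_def 3 a

/-- The coordinatewise Frobenius. -/
noncomputable def frob : MulAut (Cube F) where
  toFun x := ⟨sig x.v, sig x.w, sig x.p₁, sig x.r₁, sig x.p₂, sig x.r₂, sig x.z⟩
  invFun x := ⟨sig.symm x.v, sig.symm x.w, sig.symm x.p₁, sig.symm x.r₁, sig.symm x.p₂, sig.symm x.r₂,
    sig.symm x.z⟩
  left_inv x := by simp
  right_inv x := by simp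
  map_mul' x y := by simp only [mul_def, map_add, map_mul, map_pow, map_sub]

theorem frob_apply (x : Cube F) :
    frob x = ⟨x.v ^ 3, x.w ^ 3, x.p₁ ^ 3, x.r₁ ^ 3, x.p₂ ^ 3, x.r₂ ^ 3, x.z ^ 3⟩ := by
  simp [frob, sig_apply]

theorem frob_torus (u : Fˣ) : frob * torus u = torus (u ^ 3) * frob := by
  apply MulEquiv.ext
  intro x
  simp only [MulAut.mul_apply, frob_apply, torus_apply, Units.val_pow_eq_pow_val, mul_pow, ← pow_mul]

theorem frob_pow_two_apply (x : Cube F) :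
    (frob ^ 2) x = ⟨x.v ^ 9, x.w ^ 9, x.p₁ ^ 9, x.r₁ ^ 9, x.p₂ ^ 9, x.r₂ ^ 9, x.z ^ 9⟩ := by
  simp only [sq frob, MulAut.mul_apply, frob_apply, ← pow_mul]

theorem frob_pow_torus (u : Fˣ) (j : ℕ) : frob ^ j * torus u = torus (u ^ 3 ^ j) * frob ^ j := by
  induction j generalizing u with
  | zero => simp
  | succ j ih =>
    rw [pow_succ, mul_assoc, frob_torus, ← mul_assoc, ih, mul_assoc, ← pow_mul, ← pow_succ']

theorem frob_pow_four (h : ∀ a : F, a ^ 81 = a) : (frob : MulAut (Cube F)) ^ 4 = 1 := by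
  apply MulEquiv.ext
  intro x
  rw [show 4 = 2 + 2 from rfl, pow_add, MulAut.mul_apply, frob_pow_two_apply, frob_pow_two_apply]
  simp [← pow_mul, h]

/-- The complement: torus elements of order dividing 5 times powers of Frobenius. -/
noncomputable def compl (h : ∀ a : F, a ^ 81 = a) : Subgroup (MulAut (Cube F)) where
  carrier := {k | ∃ u : Fˣ, u ^ 5 = 1 ∧ ∃ j : ℕ, k = torus u * frob ^ j}
  one_mem' := ⟨1, one_pow 5, 0, by simp⟩
  mul_mem' := by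
    rintro _ _ ⟨u, hu, i, rfl⟩ ⟨u', hu', j, rfl⟩
    refine ⟨u * u' ^ 3 ^ i, by rw [mul_pow, hu, pow_right_comm, hu', one_pow, one_mul],
      i + j, ?_⟩
    rw [mul_assoc, ← mul_assoc (frob ^ i), frob_pow_torus, mul_assoc, ← pow_add, ← mul_assoc, ← map_mul]
  inv_mem' := by
    rintro _ ⟨u, hu, i, rfl⟩
    have hinv : (frob ^ i)⁻¹ = (frob : MulAut (Cube F)) ^ (3 * i) := by
      rw [inv_eq_iff_mul_eq_one, ← pow_add, show i + 3 * i = 4 * i by ring, pow_mul, frob_pow_four h,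
        one_pow]
    refine ⟨u⁻¹ ^ 3 ^ (3 * i), ?_, 3 * i, ?_⟩
    · rw [pow_right_comm, inv_pow, hu, inv_one, one_pow]
    · rw [mul_inv_rev, hinv, ← map_inv, frob_pow_torus]

theorem sq_torus_frob (u : Fˣ) (j : ℕ) :
    (torus u * frob ^ j) ^ 2 = torus (u * u ^ 3 ^ j) * frob ^ (j + j) := by
  rw [sq, mul_assoc, ← mul_assoc (frob ^ j), frob_pow_torus, mul_assoc, ← pow_add, ← mul_assoc,
    ← map_mul]

theorem prod_pow_three (h : ∀ a : F, a ^ 81 = a) {k : MulAut (Cube F)} {u : Fˣ} {j : ℕ}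
    (hk : k = torus u * frob ^ j) (hj : ¬ 4 ∣ j) {y : Cube F} (hv : (k y).v = y.v) (hw : (k y).w = y.w)
    : y.w ^ 3 * (y.v * y.w ^ 9 - y.v ^ 9 * y.w) = 0 := by
  have key : ∀ (z : Fˣ), (z : F) * y.v ^ 9 = y.v → (z : F) * y.w ^ 9 = y.w →
      y.w ^ 3 * (y.v * y.w ^ 9 - y.v ^ 9 * y.w) = 0 := by
    intro z h1 h2
    have : (z : F) * (y.v * y.w ^ 9 - y.v ^ 9 * y.w) = 0 := by
      linear_combination y.v * h2 - y.w * h1
    rw [(mul_eq_zero.1 this).resolve_left z.ne_zero, mul_zero]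
  have hj4 : frob ^ j = (frob : MulAut (Cube F)) ^ (j % 4) := pow_eq_pow_mod j (frob_pow_four h)
  rw [hk, hj4] at hv hw
  have hcases : j % 4 = 1 ∨ j % 4 = 2 ∨ j % 4 = 3 := by omega
  rcases hcases with h' | h' | h'
  · rw [h', pow_one, MulAut.mul_apply, torus_apply, frob_apply] at hv hw
    simp only at hv hw
    refine key (u * u ^ 3) ?_ ?_
    · rw [Units.val_mul, Units.val_pow_eq_pow_val]
      calc (u : F) * (u : F) ^ 3 * y.v ^ 9 = u * ((u : F) * y.v ^ 3) ^ 3 := by ring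
        _ = y.v := by rw [hv, hv]
    · rw [Units.val_mul, Units.val_pow_eq_pow_val]
      calc (u : F) * (u : F) ^ 3 * y.w ^ 9 = u * ((u : F) * y.w ^ 3) ^ 3 := by ring
        _ = y.w := by rw [hw, hw]
  · rw [h', MulAut.mul_apply, torus_apply, frob_pow_two_apply] at hv hw
    exact key u hv hw
  · rw [h', MulAut.mul_apply, torus_apply, pow_succ, MulAut.mul_apply, frob_pow_two_apply, frob_apply] at hv hw
    simp only [← pow_mul] at hv hw
    norm_num at hv hw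
    refine key (u * u ^ 27) ?_ ?_
    · rw [Units.val_mul, Units.val_pow_eq_pow_val]
      calc (u : F) * (u : F) ^ 27 * y.v ^ 9 = u * ((u : F) ^ 27 * (y.v ^ 81) ^ 9) := by rw [h]; ring
        _ = u * ((u : F) * y.v ^ 27) ^ 27 := by ring
        _ = y.v := by rw [hv, hv]
    · rw [Units.val_mul, Units.val_pow_eq_pow_val]
      calc (u : F) * (u : F) ^ 27 * y.w ^ 9 = u * ((u : F) ^ 27 * (y.w ^ 81) ^ 9) := by rw [h]; ring
        _ = u * ((u : F) * y.w ^ 27) ^ 27 := by ring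
        _ = y.w := by rw [hw, hw]

theorem pow_five_or_four (h : ∀ a : F, a ^ 81 = a) {k : MulAut (Cube F)} (hk : k ∈ compl h) :
    k ^ 5 = 1 ∨ k ^ 4 = 1 := by
  obtain ⟨u, hu, j, rfl⟩ := hk
  rw [pow_eq_pow_mod j (frob_pow_four h)]
  have hu' : ∀ m, u ^ m = u ^ (m % 5) := fun m => pow_eq_pow_mod m hu
  have hj : j % 4 = 0 ∨ j % 4 = 1 ∨ j % 4 = 2 ∨ j % 4 = 3 := by omega
  rcases hj with e | e | e | e
  · left; rw [e, pow_zero, mul_one, ← map_pow, hu, map_one]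
  all_goals
    right
    rw [e, show 4 = 2 * 2 from rfl, pow_mul _ 2 2, sq_torus_frob, sq_torus_frob,
      pow_eq_pow_mod (_ + _ + (_ + _)) (frob_pow_four h)]
    simp only [← pow_succ', ← pow_mul, ← pow_add]
    rw [hu']
    norm_num

end Cube

end Cfsg.Agent.H67
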