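import Cfsg.Agent.H67.CubeGroup
import Cfsg.Agent.S0144

/-!
The solvable group `Cube ⋊ (5 : 4)` and its element orders.
-/

set_option autoImplicit false

namespace Cfsg.Agent.H67

open Cube

variable {F : Type} [Field F] [CharP F 3] [Finite F] (h : ∀ a : F, a ^ 81 = a)

instance instFiniteCube : Finite (Cube F) :=
  Finite.of_injective (fun x => (x.v, x.w, x.p₁, x.r₁, x.p₂, x.r₂, x.z)) fun x y hxy => by
    simp only [Prod.mk.injEq] at hxy
    ext <;> tauto

/-- The group. -/
abbrev CubeExt : Type := Cube F ⋊[(compl h).subtype] (compl h)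

theorem finite_cubeExt : Finite (CubeExt h) := Finite.of_equiv _ SemidirectProduct.equivProd.symm

include h in
theorem pow_four {u : Fˣ} (hu : u ^ 5 = 1) {j : ℕ} (hj : ¬ 4 ∣ j) :
    (torus u * frob ^ j) ^ 4 = (1 : MulAut (Cube F)) := by
  rw [pow_eq_pow_mod j (frob_pow_four h)]
  have e : j % 4 = 1 ∨ j % 4 = 2 ∨ j % 4 = 3 := by omega
  rcases e with e | e | e
  all_goals
    rw [e, show 4 = 2 * 2 from rfl, pow_mul _ 2 2, sq_torus_frob, sq_torus_frob,
      pow_eq_pow_mod (_ + _ + (_ + _)) (frob_pow_four h)]
    simp only [← pow_succ', ← pow_mul, ← pow_add]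
    rw [pow_eq_pow_mod _ hu]
    norm_num

theorem v_fixed {k : compl h} {N f : Cube F} (hN : f * (k : MulAut (Cube F)) N = N * f) :
    ((k : MulAut (Cube F)) N).v = N.v ∧ ((k : MulAut (Cube F)) N).w = N.w := by
  have h1 := congrArg Cube.v hN
  have h2 := congrArg Cube.w hN
  rw [v_mul, v_mul] at h1
  rw [w_mul, w_mul] at h2
  exact ⟨by linear_combination h1, by linear_combination h2⟩

theorem orderOf_cases (x : CubeExt h) : orderOf x ∣ 9 ∨ orderOf x ∣ 12 ∨ orderOf x ∣ 5 := by
  obtain ⟨u, hu, j, hk⟩ := x.right.2
  by_cases hj : 4 ∣ j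
  · have hk' : (x.right : MulAut (Cube F)) = torus u := by
      obtain ⟨m, rfl⟩ := hj
      rw [hk, pow_mul, frob_pow_four h, one_pow, mul_one]
    by_cases hu1 : u = 1
    · left
      have hr : x.right = 1 := Subtype.ext (by rw [hk', hu1, map_one]; rfl)
      have hx : x = SemidirectProduct.inl x.left := SemidirectProduct.ext rfl hr
      apply orderOf_dvd_of_pow_eq_one
      rw [hx, ← map_pow, Cube.pow_nine, map_one]
    · right; right
      have hsurj : Function.Surjective (fun g : Cube F => g * ((x.right : MulAut (Cube F)) g)⁻¹) := by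
        refine Finite.injective_iff_surjective.1 fun a b hab => ?_
        have h1 : torus u (b⁻¹ * a) = b⁻¹ * a := by
          simp only [hk'] at hab
          rw [map_mul, map_inv]
          calc (torus u b)⁻¹ * torus u a = b⁻¹ * (b * (torus u b)⁻¹) * torus u a := by group
            _ = b⁻¹ * (a * (torus u a)⁻¹) * torus u a := by rw [hab]
            _ = b⁻¹ * a := by group
        exact (inv_mul_eq_one.1 (torus_fpf hu hu1 h1)).symm
      obtain ⟨g, hg⟩ := hsurj x.left
      have hx : x = SemidirectProduct.inl g * SemidirectProduct.inr x.right *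
          (SemidirectProduct.inl g)⁻¹ := by
        refine SemidirectProduct.ext ?_ ?_
        · simp only [SemidirectProduct.mul_left, SemidirectProduct.mul_right, SemidirectProduct.inv_left,
            SemidirectProduct.left_inl, SemidirectProduct.right_inl, SemidirectProduct.left_inr,
            SemidirectProduct.right_inr, map_one, inv_one, one_mul, mul_one, Subgroup.coe_subtype,
            MulAut.one_apply, map_inv]
          exact hg.symm
        · simp
      apply orderOf_dvd_of_pow_eq_one
      rw [hx, conj_pow, ← map_pow]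
      have : x.right ^ 5 = 1 := Subtype.ext (by rw [SubgroupClass.coe_pow, hk', ← map_pow, hu, map_one]; rfl)
      rw [this, map_one, mul_one, mul_inv_cancel]
  · right; left
    have h4 : x.right ^ 4 = 1 :=
      Subtype.ext (by rw [SubgroupClass.coe_pow, hk]; exact pow_four h hu hj)
    apply orderOf_dvd_of_pow_eq_one
    set N := (x ^ 4).left
    have hx4 : x ^ 4 = SemidirectProduct.inl N :=
      SemidirectProduct.ext rfl (by
        rw [← SemidirectProduct.rightHom_eq_right, map_pow]
        exact h4)
    have hc : x * SemidirectProduct.inl N = SemidirectProduct.inl N * x := by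
      rw [← hx4, ← pow_succ', ← pow_succ]
    have hl := congrArg SemidirectProduct.left hc
    simp only [SemidirectProduct.mul_left, SemidirectProduct.left_inl, SemidirectProduct.right_inl,
      map_one, MulAut.one_apply, Subgroup.coe_subtype] at hl
    obtain ⟨hv, hw⟩ := v_fixed h hl
    rw [show 12 = 4 * 3 from rfl, pow_mul, hx4, ← map_pow, Cube.pow_three,
      prod_pow_three h hk hj hv hw]
    exact map_one _

theorem isSolvable_cubeExt : Group.IsSolvable (CubeExt h) := by
  haveI := finite_cubeExt h
  haveI : Fact (Nat.Prime 3) := ⟨Nat.prime_three⟩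
  haveI hF : Group.IsSolvable (Cube F) := by
    have hp : IsPGroup 3 (Cube F) := fun x => ⟨2, Cube.pow_nine x⟩
    haveI := hp.isNilpotent
    infer_instance
  haveI hK : Group.IsSolvable (compl h) := by
    have hall : ∀ r : ℕ, r.Prime → r ∣ Nat.card (compl h) → r = 2 ∨ r = 5 := by
      intro r hr hd
      haveI := Fact.mk hr
      obtain ⟨c, hc⟩ := exists_prime_orderOf_dvd_card' (G := compl h) r hd
      rcases pow_five_or_four h c.2 with h' | h'
      · have hdv : r ∣ 5 := hc ▸ orderOf_dvd_of_pow_eq_one (Subtype.ext (by simpa using h'))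
        exact Or.inr ((Nat.prime_dvd_prime_iff_eq hr (by norm_num)).1 hdv)
      · have hdv : r ∣ 2 ^ 2 := hc ▸ orderOf_dvd_of_pow_eq_one (Subtype.ext (by simpa using h'))
        exact Or.inl ((Nat.prime_dvd_prime_iff_eq hr Nat.prime_two).1 (hr.dvd_of_dvd_pow hdv))
    set n := Nat.card (compl h) with hn
    refine Cfsg.Agent.S0144.result 2 5 (n.factorization 2) (n.factorization 5) Nat.prime_two
      (by norm_num) ?_
    refine Nat.eq_of_factorization_eq Nat.card_pos.ne' (by positivity) fun r => ?_
    rw [Nat.factorization_mul (by positivity) (by positivity), Finsupp.add_apply,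
      Nat.Prime.factorization_pow Nat.prime_two, Nat.Prime.factorization_pow (by norm_num : Nat.Prime 5)]
    by_cases h2 : r = 2
    · subst h2; simp [n]
    by_cases h5 : r = 5
    · subst h5; simp [n]
    rw [Finsupp.single_eq_of_ne h2, Finsupp.single_eq_of_ne h5, add_zero]
    by_cases hr : r.Prime
    · exact Nat.factorization_eq_zero_of_not_dvd fun hd => by
        rcases hall r hr hd with h | h <;> contradiction
    · exact Nat.factorization_eq_zero_of_not_prime _ hr
  exact Group.isSolvable_of_ker_le_range
    (SemidirectProduct.inl : Cube F →* CubeExt h)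
    SemidirectProduct.rightHom (SemidirectProduct.range_inl_eq_ker_rightHom.ge)

theorem exists_orders (v₀ : F) (hv₀ : v₀ ^ 9 ≠ v₀) (u : Fˣ) (hu : orderOf u = 5) :
    (∃ x : CubeExt h, orderOf x = 9) ∧ (∃ x : CubeExt h, orderOf x = 12) ∧
      ∃ x : CubeExt h, orderOf x = 5 := by
  haveI : Fact (Nat.Prime 3) := ⟨Nat.prime_three⟩
  haveI : Fact (Nat.Prime 2) := ⟨Nat.prime_two⟩
  haveI : Fact (Nat.Prime 5) := ⟨by norm_num⟩
  have hu5 : u ^ 5 = 1 := hu ▸ pow_orderOf_eq_one u
  refine ⟨?_, ?_, ?_⟩
  · refine ⟨SemidirectProduct.inl ⟨v₀, 1, 0, 0, 0, 0, 0⟩, ?_⟩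
    rw [orderOf_injective _ SemidirectProduct.inl_injective]
    refine orderOf_eq_prime_pow (p := 3) (n := 1) ?_ (Cube.pow_nine _)
    rw [pow_one, Cube.pow_three]
    intro hc
    have := congrArg Cube.z hc
    simp only [one_pow, one_mul, mul_one, Cube.one_def] at this
    exact hv₀ (sub_eq_zero.1 this).symm
  · let f : Cube F := ⟨1, 0, 0, 0, 0, 0, 0⟩
    let s : compl h := ⟨frob, 1, one_pow 5, 1, by rw [map_one, one_mul, pow_one]⟩
    have hs : orderOf s = 4 := by
      rw [← orderOf_injective (compl h).subtype (Subgroup.subtype_injective _)]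
      show orderOf (frob : MulAut (Cube F)) = 2 ^ (1 + 1)
      refine orderOf_eq_prime_pow ?_ (frob_pow_four h)
      intro hc
      rw [pow_one] at hc
      have := congrArg Cube.v (DFunLike.congr_fun hc (⟨v₀, 0, 0, 0, 0, 0, 0⟩ : Cube F))
      rw [frob_pow_two_apply] at this
      exact hv₀ this
    have hf : orderOf f = 3 := by
      refine orderOf_eq_prime ?_ ?_
      · rw [Cube.pow_three, Cube.one_def]; simp [f]
      · intro hc
        have := congrArg Cube.v hc
        simp [f, Cube.one_def] at this
    have hc : Commute (SemidirectProduct.inl f : CubeExt h) (SemidirectProduct.inr s) := by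
      refine SemidirectProduct.ext ?_ ?_
      · simp [f, s, frob_apply]
      · simp
    refine ⟨SemidirectProduct.inl f * SemidirectProduct.inr s, ?_⟩
    rw [hc.orderOf_mul_eq_mul_orderOf_of_coprime, orderOf_injective _ SemidirectProduct.inl_injective,
      orderOf_injective _ SemidirectProduct.inr_injective, hf, hs]
    rw [orderOf_injective _ SemidirectProduct.inl_injective,
      orderOf_injective _ SemidirectProduct.inr_injective, hf, hs]
    norm_num
  · let k : compl h := ⟨torus u, u, hu5, 0, by rw [pow_zero, mul_one]⟩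
    refine ⟨SemidirectProduct.inr k, ?_⟩
    rw [orderOf_injective _ SemidirectProduct.inr_injective]
    refine orderOf_eq_prime (Subtype.ext (by
      rw [SubgroupClass.coe_pow]
      show torus u ^ 5 = 1
      rw [← map_pow, hu5, map_one])) ?_
    intro hc
    have h1 := congrArg Cube.v
      (DFunLike.congr_fun (congrArg Subtype.val hc) (⟨1, 0, 0, 0, 0, 0, 0⟩ : Cube F))
    have h2 : (u : F) = 1 := by simpa [k, torus_apply] using h1
    rw [Units.val_eq_one.1 h2, orderOf_one] at hu
    norm_num at hu

end Cfsg.Agent.H67
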