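import Mathlib

/-!
Semidirect products `V ⋊ C` with `C` a fixed point free group of matrices.
-/

set_option autoImplicit false

namespace Cfsg.Agent.H67

open Matrix

variable {n : Type*} [Fintype n] [DecidableEq n] {K : Type*} [Field K]

/-- A matrix group acting on column vectors, as automorphisms. -/
def vecAct (C : Subgroup (GL n K)) : C →* MulAut (Multiplicative (n → K)) where
  toFun c := AddEquiv.toMultiplicative
    { toFun := fun v => (c : GL n K).val *ᵥ v
      invFun := fun v => ((c⁻¹ : C) : GL n K).val *ᵥ v
      left_inv := fun v => by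
        beta_reduce
        rw [Matrix.mulVec_mulVec, ← Units.val_mul, ← Subgroup.coe_mul, inv_mul_cancel]
        simp
      right_inv := fun v => by
        beta_reduce
        rw [Matrix.mulVec_mulVec, ← Units.val_mul, ← Subgroup.coe_mul, mul_inv_cancel]
        simp
      map_add' := fun u v => Matrix.mulVec_add _ u v }
  map_one' := by
    ext v : 1
    refine Multiplicative.toAdd.injective ?_
    show ((1 : C) : GL n K).val *ᵥ _ = _
    simp
  map_mul' c d := by
    ext v : 1
    refine Multiplicative.toAdd.injective ?_
    show ((c * d : C) : GL n K).val *ᵥ _ = (c : GL n K).val *ᵥ ((d : GL n K).val *ᵥ _)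
    simp [Matrix.mulVec_mulVec]

/-- The affine group `Kⁿ ⋊ C`. -/
abbrev Affine (C : Subgroup (GL n K)) : Type _ := Multiplicative (n → K) ⋊[vecAct C] C

theorem affine_right_pow {C : Subgroup (GL n K)} (x : Affine C) (k : ℕ) :
    (x ^ k).right = x.right ^ k :=
  map_pow SemidirectProduct.rightHom x k

theorem affine_left_pow {C : Subgroup (GL n K)} (x : Affine C) (k : ℕ) :
    Multiplicative.toAdd (x ^ k).left =
      (∑ i ∈ Finset.range k, (x.right : GL n K).val ^ i) *ᵥ Multiplicative.toAdd x.left := by
  induction k with
  | zero => simp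
  | succ k ih =>
    rw [pow_succ, SemidirectProduct.mul_left, toAdd_mul, Finset.sum_range_succ, Matrix.add_mulVec, ih,
      affine_right_pow]
    congr 1

theorem orderOf_affine {C : Subgroup (GL n K)}
    (hfpf : ∀ c : C, c ≠ 1 → IsUnit ((c : GL n K).val - 1)) (x : Affine C) :
    (x.right = 1 ∧ orderOf x ∣ ringChar K) ∨ (x.right ≠ 1 ∧ orderOf x = orderOf x.right) := by
  by_cases h : x.right = 1
  · refine Or.inl ⟨h, orderOf_dvd_of_pow_eq_one ?_⟩
    apply SemidirectProduct.ext
    · refine Multiplicative.toAdd.injective ?_
      rw [affine_left_pow, h]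
      simp [← Nat.cast_smul_eq_nsmul K, CharP.cast_eq_zero K (ringChar K)]
    · rw [affine_right_pow, h, one_pow]; rfl
  · refine Or.inr ⟨h, Nat.dvd_antisymm ?_ (orderOf_map_dvd SemidirectProduct.rightHom x)⟩
    apply orderOf_dvd_of_pow_eq_one
    set k := orderOf x.right with hk
    apply SemidirectProduct.ext
    · refine Multiplicative.toAdd.injective ?_
      rw [affine_left_pow]
      have hone : (x.right : GL n K).val ^ k = 1 := by
        rw [← Units.val_pow_eq_pow_val, ← Subgroup.coe_pow, hk, pow_orderOf_eq_one]
        rfl
      have hzero : (∑ i ∈ Finset.range k, (x.right : GL n K).val ^ i) = 0 := by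
        have h1 := mul_geom_sum (x.right : GL n K).val k
        rw [hone, sub_self] at h1
        exact (hfpf x.right h).mul_right_eq_zero.1 h1
      rw [hzero, Matrix.zero_mulVec]
      rfl
    · rw [affine_right_pow, hk, pow_orderOf_eq_one]; rfl

theorem finite_affine [Finite K] (C : Subgroup (GL n K)) : Finite (Affine C) :=
  Finite.of_equiv _ SemidirectProduct.equivProd.symm

/-- The translations form a nontrivial solvable normal subgroup. -/
theorem affine_translations [Nonempty n] (C : Subgroup (GL n K)) :
    ∃ V : Subgroup (Affine C), V.Normal ∧ V ≠ ⊥ ∧ Group.IsSolvable V := by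
  refine ⟨(SemidirectProduct.inl : Multiplicative (n → K) →* Affine C).range, ?_, ?_, ?_⟩
  · rw [SemidirectProduct.range_inl_eq_ker_rightHom]
    exact MonoidHom.normal_ker _
  · intro h
    have : (SemidirectProduct.inl (Multiplicative.ofAdd (fun _ : n => (1 : K))) : Affine C) ∈
        (SemidirectProduct.inl : Multiplicative (n → K) →* Affine C).range := ⟨_, rfl⟩
    rw [h, Subgroup.mem_bot, ← map_one (SemidirectProduct.inl (φ := vecAct C)),
      SemidirectProduct.inl_inj] at this
    have h1 := congrArg (fun w : Multiplicative (n → K) => (Multiplicative.toAdd w : n → K) (Classical.arbitrary n)) this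
    simp at h1
  · exact Group.isSolvable_of_surjective (MonoidHom.rangeRestrict_surjective _)

end Cfsg.Agent.H67
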