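import Mathlib

/-!
Kernel checks bounding the automorphism group of a small graph given by bit rows, and checks on an
encoded group identifying a conjugacy class and the commuting graph on it.
-/

set_option autoImplicit false

namespace Cfsg.Agent.H67

/-- An encoding of (part of) a group by natural numbers. -/
structure Enc (L : Type*) [Group L] where
  den : ℕ → L
  mul : ℕ → ℕ → ℕ
  valid : ℕ → Bool
  one : ℕ
  valid_mul : ∀ a b, valid a = true → valid b = true → valid (mul a b) = true
  den_mul : ∀ a b, valid a = true → valid b = true → den (mul a b) = den a * den b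
  valid_one : valid one = true
  den_one : den one = 1
  den_inj : ∀ a b, valid a = true → valid b = true → den a = den b → a = b

/-- The data of a certificate. -/
structure GraphCert where
  n : ℕ
  d : ℕ
  bound : ℕ
  /-- the class -/
  T : List ℕ
  /-- conjugators -/
  X : List ℕ
  /-- the centraliser of the first element -/
  C : List ℕ
  /-- neighbour lists -/
  nbrs : List (List ℕ)
  /-- packed bit rows -/
  rows : ℕ
  /-- enumeration sequence: vertex and two anchor positions -/
  steps : List (ℕ × ℕ × ℕ)
  /-- closure triples -/
  close : List (ℕ × ℕ × ℕ)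
  s₁ : ℕ
  s₂ : ℕ

/-- Adjacency bit. -/
def GraphCert.adj (c : GraphCert) (i j : ℕ) : Bool := c.rows.testBit (c.n * i + j)

/-- The sequence of enumerated vertices. -/
def seqOf (steps : List (ℕ × ℕ × ℕ)) : List ℕ := 0 :: steps.map (fun s => s.1)

/-- Can `x` be the image of `v`? -/
def fits (c : GraphCert) (seq img : List ℕ) (v x : ℕ) : Bool :=
  (seq.zip img).all (fun ui => (ui.2 != x) && (c.adj v ui.1 == c.adj x ui.2))

/-- Candidate images. -/
def extend (c : GraphCert) (seq : List ℕ) (v a b : ℕ) (imgs : List (List ℕ)) : List (List ℕ) :=
  imgs.flatMap fun img =>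
    (((c.nbrs.getD (img.getD a 0) []).filter fun x =>
      c.adj (img.getD b 0) x && fits c seq img v x).map fun x => img ++ [x])

/-- All candidate image tuples. -/
def enumerate (c : GraphCert) : List (ℕ × ℕ × ℕ) → List ℕ → List (List ℕ) → List (List ℕ)
  | [], _, imgs => imgs
  | (v, a, b) :: rest, seq, imgs => enumerate c rest (seq ++ [v]) (extend c seq v a b imgs)

/-- The anchors are adjacent, earlier, and fresh vertices. -/
def stepsOK (c : GraphCert) : List (ℕ × ℕ × ℕ) → List ℕ → Bool
  | [], _ => true
  | (v, a, b) :: rest, seq =>
      decide (a < seq.length) && decide (b < seq.length) && decide (v < c.n) && !seq.contains v &&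
        c.adj (seq.getD a 0) v && c.adj (seq.getD b 0) v && stepsOK c rest (seq ++ [v])

/-- Each new vertex is the unique common neighbour of two known ones. -/
def closeOK (c : GraphCert) : List (ℕ × ℕ × ℕ) → List ℕ → Bool
  | [], known => (List.range c.n).all fun i => known.contains i
  | (w, p, q) :: rest, known =>
      known.contains p && known.contains q &&
        (((c.nbrs.getD p []).filter fun x => c.adj q x) == [w]) && closeOK c rest (known ++ [w])

/-- Rows agree with neighbour lists. -/
def rowsOK (c : GraphCert) : Bool :=
  decide (c.nbrs.length = c.n) && (List.range c.n).all fun i =>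
    (c.rows >>> (c.n * i)) % 2 ^ c.n ==
      ((c.nbrs.getD i []).foldl (fun acc j => acc ||| 1 <<< j) 0) &&
    ((c.nbrs.getD i []).all fun j => decide (j < c.n) && j != i) &&
    decide ((c.nbrs.getD i []).Nodup)

variable {L : Type*} [Group L]

/-- Commutation of codes. -/
def Enc.comm (E : Enc L) (a b : ℕ) : Bool := E.mul a b == E.mul b a

/-- The class and centraliser are correct. -/
def classOK (E : Enc L) (c : GraphCert) : Bool :=
  decide (c.T.length = c.n) && decide (c.X.length = c.n) && decide (c.C.length = c.d) &&
    decide (0 < c.n) &&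
    (c.T.all fun a => E.valid a && a != E.one) && (c.X.all fun a => E.valid a) && decide c.T.Nodup &&
    decide c.C.Nodup && (c.C.all fun a => E.valid a && E.comm a (c.T.getD 0 0)) &&
    (List.range c.n).all fun i =>
      E.mul (c.X.getD i 0) (c.T.getD 0 0) == E.mul (c.T.getD i 0) (c.X.getD i 0)

/-- The neighbour lists are correct. -/
def nbrsOK (E : Enc L) (c : GraphCert) : Bool :=
  ((List.range c.n).filter fun j => j != 0 && E.comm (c.T.getD 0 0) (c.T.getD j 0)).length ==
      (c.nbrs.getD 0 []).length &&
    (List.range c.n).all fun i =>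
      (c.nbrs.getD i []).length == (c.nbrs.getD 0 []).length &&
        (c.nbrs.getD i []).all fun j => E.comm (c.T.getD i 0) (c.T.getD j 0)

/-- The dihedral pair. -/
def pairOK (E : Enc L) (c : GraphCert) : Bool :=
  let z := c.T.getD 0 0
  let a := c.T.getD c.s₁ 0
  let b := c.T.getD c.s₂ 0
  decide (c.s₁ < c.n) && decide (c.s₂ < c.n) && E.mul z z == E.one && E.mul a a == E.one &&
    E.mul b b == E.one && E.mul (E.mul a b) (E.mul a b) == z &&
    (c.C.all fun g => !(E.comm g a && E.comm g b) || g == E.one || g == z) &&
    (List.range c.n).any fun i => !E.comm z (c.T.getD i 0)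

/-- The bound on automorphisms. -/
def boundOK (c : GraphCert) : Bool :=
  stepsOK c c.steps [0] && closeOK c c.close (seqOf c.steps) &&
    decide ((enumerate c c.steps [0] [[0]]).length ≤ c.bound)

/-- The complete check. -/
def certOK (E : Enc L) (c : GraphCert) : Prop :=
  classOK E c = true ∧ rowsOK c = true ∧ nbrsOK E c = true ∧ pairOK E c = true ∧ boundOK c = true

end Cfsg.Agent.H67
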