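import Mathlib
import Cfsg.Agent.H67.GraphCert

/-!
A group with the commuting graph of a certified group is isomorphic to it.
-/

set_option autoImplicit false

namespace Cfsg.Agent.H67

theorem getD_eq_getElem' {α : Type*} {l : List α} {i : ℕ} (d : α) (h : i < l.length) :
    l.getD i d = l[i] := by simp [List.getD, h]

theorem testBit_foldl_set (l : List ℕ) (acc j : ℕ) :
    (l.foldl (fun acc j => acc ||| 1 <<< j) acc).testBit j = (acc.testBit j || decide (j ∈ l)) := by
  induction l generalizing acc with
  | nil => simp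
  | cons a t ih =>
    rw [List.foldl_cons, ih, Nat.testBit_or, Nat.one_shiftLeft, Nat.testBit_two_pow]
    by_cases h : a = j
    · subst h; simp
    · simp [h, Ne.symm h]

variable {c : GraphCert}

theorem adj_iff (h : rowsOK c = true) {i j : ℕ} (hi : i < c.n) (hj : j < c.n) :
    c.adj i j = true ↔ j ∈ c.nbrs.getD i [] := by
  simp only [rowsOK, Bool.and_eq_true, decide_eq_true_eq, List.all_eq_true, List.mem_range,
    beq_iff_eq] at h
  have h1 := congrArg (fun m => Nat.testBit m j) ((h.2 i hi).1.1)
  simp only [testBit_foldl_set, Nat.testBit_mod_two_pow, Nat.testBit_shiftRight, Nat.zero_testBit,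
    Bool.false_or, hj, decide_true, Bool.true_and] at h1
  rw [GraphCert.adj, h1, decide_eq_true_eq]

theorem nbrs_spec (h : rowsOK c = true) {i j : ℕ} (hi : i < c.n) (hj : j ∈ c.nbrs.getD i []) :
    j < c.n ∧ j ≠ i := by
  simp only [rowsOK, Bool.and_eq_true, decide_eq_true_eq, List.all_eq_true, List.mem_range,
    beq_iff_eq, bne_iff_ne] at h
  exact (h.2 i hi).1.2 j hj

theorem nbrs_nodup (h : rowsOK c = true) {i : ℕ} (hi : i < c.n) : (c.nbrs.getD i []).Nodup := by
  simp only [rowsOK, Bool.and_eq_true, decide_eq_true_eq, List.all_eq_true, List.mem_range,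
    beq_iff_eq] at h
  exact (h.2 i hi).2

/-- The automorphism group of the graph. -/
def autGrp (c : GraphCert) : Subgroup (Equiv.Perm (Fin c.n)) where
  carrier := {σ | ∀ i j : Fin c.n, c.adj (σ i) (σ j) = c.adj i j}
  mul_mem' {a b} ha hb := fun i j => by rw [Equiv.Perm.mul_apply, Equiv.Perm.mul_apply, ha, hb]
  one_mem' := fun _ _ => rfl
  inv_mem' {a} ha := fun i j => by
    have := ha (a⁻¹ i) (a⁻¹ j)
    simpa using this.symm

/-- Apply a permutation to a natural number. -/
def appN {n : ℕ} (σ : Equiv.Perm (Fin n)) (i : ℕ) : ℕ := if h : i < n then (σ ⟨i, h⟩).val else i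

theorem appN_lt {n : ℕ} (σ : Equiv.Perm (Fin n)) {i : ℕ} (h : i < n) : appN σ i < n := by
  rw [appN, dif_pos h]; exact (σ _).2

theorem appN_mul {n : ℕ} (σ τ : Equiv.Perm (Fin n)) (i : ℕ) : appN (σ * τ) i = appN σ (appN τ i) := by
  by_cases h : i < n
  · simp [appN, h]
  · simp [appN, h]

theorem appN_inj {n : ℕ} (σ : Equiv.Perm (Fin n)) {i j : ℕ} (hi : i < n) (hj : j < n)
    (h : appN σ i = appN σ j) : i = j := by
  rw [appN, dif_pos hi, appN, dif_pos hj] at h
  exact congrArg Fin.val (σ.injective (Fin.ext h))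

theorem adj_appN {σ : Equiv.Perm (Fin c.n)} (hσ : σ ∈ autGrp c) {i j : ℕ} (hi : i < c.n)
    (hj : j < c.n) : c.adj (appN σ i) (appN σ j) = c.adj i j := by
  rw [appN, dif_pos hi, appN, dif_pos hj]
  exact hσ ⟨i, hi⟩ ⟨j, hj⟩

theorem enumerate_complete (hr : rowsOK c = true) {σ : Equiv.Perm (Fin c.n)} (hσ : σ ∈ autGrp c) :
    ∀ (steps : List (ℕ × ℕ × ℕ)) (seq : List ℕ) (imgs : List (List ℕ)),
      stepsOK c steps seq = true → (∀ u ∈ seq, u < c.n) → seq.map (appN σ) ∈ imgs →
      (seq ++ steps.map (fun s => s.1)).map (appN σ) ∈ enumerate c steps seq imgs := by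
  intro steps
  induction steps with
  | nil => intro seq imgs _ _ h; simpa [enumerate] using h
  | cons s rest ih =>
    obtain ⟨v, a, b⟩ := s
    intro seq imgs hok hlt hmem
    simp only [stepsOK, Bool.and_eq_true, decide_eq_true_eq, Bool.not_eq_true', List.contains_eq_mem,
      decide_eq_false_iff_not] at hok
    obtain ⟨⟨⟨⟨⟨⟨ha, hb⟩, hv⟩, hfresh⟩, hadja⟩, hadjb⟩, hrest⟩ := hok
    rw [getD_eq_getElem' 0 ha] at hadja
    rw [getD_eq_getElem' 0 hb] at hadjb
    have hua := hlt _ (List.getElem_mem ha)
    have hub := hlt _ (List.getElem_mem hb)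
    rw [List.map_cons, show seq ++ v :: rest.map (fun s => s.1) = (seq ++ [v]) ++ rest.map (fun s => s.1) by simp,
      enumerate]
    refine ih (seq ++ [v]) _ hrest ?_ ?_
    · intro u hu
      rcases List.mem_append.1 hu with h | h
      · exact hlt u h
      · rw [List.mem_singleton] at h; exact h ▸ hv
    · rw [extend, List.mem_flatMap]
      refine ⟨seq.map (appN σ), hmem, ?_⟩
      rw [List.mem_map]
      refine ⟨appN σ v, List.mem_filter.2 ⟨?_, ?_⟩, by simp⟩
      · rw [getD_eq_getElem' 0 (by simpa using ha), List.getElem_map,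
          ← adj_iff hr (appN_lt σ hua) (appN_lt σ hv), adj_appN hσ hua hv]
        exact hadja
      · rw [getD_eq_getElem' 0 (by simpa using hb), List.getElem_map, Bool.and_eq_true,
          adj_appN hσ hub hv]
        refine ⟨hadjb, ?_⟩
        simp only [fits, List.all_eq_true, List.zip_map_right, List.mem_map, Bool.and_eq_true, bne_iff_ne,
          beq_iff_eq]
        rintro ⟨u, x⟩ ⟨⟨u', u''⟩, hmem', he⟩
        obtain ⟨rfl, rfl⟩ : u' = u ∧ appN σ u'' = x := by simpa using he
        obtain ⟨k, hk, hk1⟩ := List.getElem_of_mem hmem'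
        rw [List.getElem_zip, Prod.mk.injEq] at hk1
        have heq : u' = u'' := hk1.1.symm.trans hk1.2
        subst heq
        have hu' : u' ∈ seq := hk1.1 ▸ List.getElem_mem _
        exact ⟨fun h => hfresh (appN_inj σ (hlt _ hu') hv h ▸ hu'), (adj_appN hσ hv (hlt _ hu')).symm⟩

theorem closeOK_determines (hr : rowsOK c = true) {σ : Equiv.Perm (Fin c.n)} (hσ : σ ∈ autGrp c) :
    ∀ (close : List (ℕ × ℕ × ℕ)) (known : List ℕ), closeOK c close known = true →
      (∀ u ∈ known, u < c.n ∧ appN σ u = u) → σ = 1 := by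
  intro close
  induction close with
  | nil =>
    intro known h hk
    simp only [closeOK, List.all_eq_true, List.mem_range, List.contains_eq_mem, decide_eq_true_eq] at h
    refine Equiv.ext fun i => Fin.ext ?_
    have := (hk i.val (h i.val i.2)).2
    simpa [appN] using this
  | cons s rest ih =>
    obtain ⟨w, p, q⟩ := s
    intro known h hk
    simp only [closeOK, Bool.and_eq_true, List.contains_eq_mem, decide_eq_true_eq, beq_iff_eq] at h
    obtain ⟨⟨⟨hp, hq⟩, huniq⟩, hrest⟩ := h
    obtain ⟨hpn, hpf⟩ := hk p hp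
    obtain ⟨hqn, hqf⟩ := hk q hq
    have hw : w ∈ (c.nbrs.getD p []).filter fun x => c.adj q x := huniq ▸ List.mem_singleton_self w
    rw [List.mem_filter] at hw
    have hwn := (nbrs_spec hr hpn hw.1).1
    refine ih _ hrest fun u hu => ?_
    rcases List.mem_append.1 hu with hu | hu
    · exact hk u hu
    · rw [List.mem_singleton] at hu
      subst hu
      refine ⟨hwn, ?_⟩
      have h1 : appN σ u ∈ (c.nbrs.getD p []).filter fun x => c.adj q x := by
        rw [List.mem_filter]
        refine ⟨?_, ?_⟩
        · rw [← adj_iff hr hpn (appN_lt σ hwn)]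
          have := adj_appN hσ hpn hwn
          rw [hpf] at this
          rw [this, adj_iff hr hpn hwn]
          exact hw.1
        · have := adj_appN hσ hqn hwn
          rw [hqf] at this
          rw [this]
          exact hw.2
      rw [huniq, List.mem_singleton] at h1
      exact h1

theorem seqOf_lt : ∀ (steps : List (ℕ × ℕ × ℕ)) (seq : List ℕ), stepsOK c steps seq = true →
    ∀ u ∈ steps.map (fun s => s.1), u < c.n := by
  intro steps
  induction steps with
  | nil => simp
  | cons s rest ih =>
    obtain ⟨v, a, b⟩ := s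
    intro seq h u hu
    simp only [stepsOK, Bool.and_eq_true, decide_eq_true_eq] at h
    rcases List.mem_cons.1 hu with rfl | hu
    · exact h.1.1.1.1.2
    · exact ih _ h.2 u hu

theorem card_autGrp_le (hn : 0 < c.n) (hr : rowsOK c = true) (hb : boundOK c = true) :
    Nat.card (autGrp c) ≤ c.n * c.bound := by
  classical
  simp only [boundOK, Bool.and_eq_true, decide_eq_true_eq] at hb
  obtain ⟨⟨hs, hcl⟩, hlen⟩ := hb
  set o : Fin c.n := ⟨0, hn⟩
  set St := MulAction.stabilizer (autGrp c) o
  have hindex : St.index ≤ c.n := by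
    rw [MulAction.index_stabilizer]
    calc (MulAction.orbit (autGrp c) o).ncard ≤ Nat.card (Fin c.n) := Set.ncard_le_card _
      _ = c.n := Nat.card_fin _
  have hseq : ∀ u ∈ seqOf c.steps, u < c.n := by
    intro u hu
    rcases List.mem_cons.1 hu with rfl | hu
    · exact hn
    · exact seqOf_lt c.steps [0] hs u hu
  let Φ : St → {l : List ℕ // l ∈ (enumerate c c.steps [0] [[0]]).toFinset} := fun σ =>
    ⟨(seqOf c.steps).map (appN σ.1.1), by
      rw [List.mem_toFinset]
      have h0 : appN σ.1.1 0 = 0 := by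
        rw [appN, dif_pos hn]
        exact congrArg Fin.val σ.2
      exact enumerate_complete hr σ.1.2 c.steps [0] [[0]] hs (by simpa using hn) (by simp [h0])⟩
  have hΦ : Function.Injective Φ := by
    intro σ τ h
    have h1 : ∀ u ∈ seqOf c.steps, appN σ.1.1 u = appN τ.1.1 u :=
      List.map_inj_left.1 (congrArg Subtype.val h)
    have h2 : (τ.1.1)⁻¹ * σ.1.1 = 1 := by
      refine closeOK_determines hr ((autGrp c).mul_mem ((autGrp c).inv_mem τ.1.2) σ.1.2) _ _ hcl
        fun u hu => ⟨hseq u hu, ?_⟩
      rw [appN_mul, h1 u hu, ← appN_mul, inv_mul_cancel]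
      simp [appN, hseq u hu]
    exact Subtype.ext (Subtype.ext (inv_mul_eq_one.1 h2).symm)
  have hcard := Nat.card_le_card_of_injective Φ hΦ
  rw [Nat.card_eq_finsetCard] at hcard
  have hSt : Nat.card St ≤ c.bound := hcard.trans ((List.toFinset_card_le _).trans hlen)
  calc Nat.card (autGrp c) = Nat.card St * St.index := (Subgroup.card_mul_index St).symm
    _ ≤ c.bound * c.n := Nat.mul_le_mul hSt hindex
    _ = c.n * c.bound := Nat.mul_comm _ _

section Group

variable {L : Type*} [Group L] (E : Enc L)

theorem Enc.comm_iff {a b : ℕ} (ha : E.valid a = true) (hb : E.valid b = true) :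
    E.comm a b = true ↔ Commute (E.den a) (E.den b) := by
  rw [Enc.comm, beq_iff_eq]
  constructor
  · intro h
    show E.den a * E.den b = E.den b * E.den a
    rw [← E.den_mul a b ha hb, h, E.den_mul b a hb ha]
  · intro h
    refine E.den_inj _ _ (E.valid_mul a b ha hb) (E.valid_mul b a hb ha) ?_
    rw [E.den_mul a b ha hb, E.den_mul b a hb ha]
    exact h

theorem commute_nonid {H : Type*} [Group H] (f : {h : H // h ≠ 1} ≃ {g : L // g ≠ 1})
    (hf : ∀ x y : {h : H // h ≠ 1}, (x : H) * y = y * x ↔ ((f x) : L) * (f y) = (f y) * (f x)) :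
    ∀ x y : {h : H // h ≠ 1}, Commute (x : H) y ↔ Commute ((f x) : L) (f y) := hf

/-- Adding the identity to a bijection between non-identity elements. -/
noncomputable def withOne {H : Type*} [Group H] (f : {h : H // h ≠ 1} ≃ {g : L // g ≠ 1}) : H ≃ L := by
  classical
  exact (Equiv.optionSubtypeNe (1 : H)).symm.trans ((Equiv.optionCongr f).trans (Equiv.optionSubtypeNe (1 : L)))

theorem withOne_one {H : Type*} [Group H] (f : {h : H // h ≠ 1} ≃ {g : L // g ≠ 1}) :
    withOne f 1 = 1 := by
  classical
  simp [withOne]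

theorem withOne_ne {H : Type*} [Group H] (f : {h : H // h ≠ 1} ≃ {g : L // g ≠ 1}) {h : H} (hh : h ≠ 1) :
    withOne f h = f ⟨h, hh⟩ := by
  classical
  simp [withOne, Equiv.optionSubtypeNe_symm_of_ne hh]

theorem withOne_commute {H : Type*} [Group H] (f : {h : H // h ≠ 1} ≃ {g : L // g ≠ 1})
    (hf : ∀ x y : {h : H // h ≠ 1}, (x : H) * y = y * x ↔ ((f x) : L) * (f y) = (f y) * (f x))
    (a b : H) : Commute (withOne f a) (withOne f b) ↔ Commute a b := by
  by_cases ha : a = 1
  · subst ha; simp [withOne_one]
  by_cases hb : b = 1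
  · subst hb; simp [withOne_one]
  rw [withOne_ne f ha, withOne_ne f hb]
  exact (hf ⟨a, ha⟩ ⟨b, hb⟩).symm

/-- What the certificate gives about `L`. -/
structure GraphFacts (L : Type*) [Group L] (c : GraphCert) where
  T : Fin c.n → L
  inj : Function.Injective T
  /-- the class is invariant under every bijection preserving commutation -/
  char : ∀ g : L, g ∈ Set.range T ↔
    (g ≠ 1 ∧ Nat.card {x : L // Commute x g} = c.d)
  adj : ∀ i j : Fin c.n, c.adj i j = true ↔ (i ≠ j ∧ Commute (T i) (T j))
  faithful : ∀ g : L, (∀ i, Commute g (T i)) → g = 1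

/-- Every bijection preserving commutation induces a homomorphism into the graph group. -/
theorem exists_embedding (F : GraphFacts L c) {H : Type*} [Group H] (e : H ≃ L) (he1 : e 1 = 1)
    (he : ∀ a b, Commute (e a) (e b) ↔ Commute a b) :
    ∃ ψ : H →* autGrp c, Function.Injective ψ := by
  classical
  have hinv : ∀ (h : H) (i : Fin c.n), e (h * e.symm (F.T i) * h⁻¹) ∈ Set.range F.T := by
    intro h i
    obtain ⟨h1, h2⟩ := (F.char _).1 ⟨i, rfl⟩
    set s := e.symm (F.T i) with hs
    have hs1 : e s = F.T i := e.apply_symm_apply _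
    refine (F.char _).2 ⟨fun h0 => ?_, ?_⟩
    · rw [← he1] at h0
      have := e.injective h0
      rw [conj_eq_one_iff] at this
      exact h1 (by rw [← hs1, this, he1])
    · rw [← h2]
      refine Nat.card_congr ((((e.subtypeEquiv (p := fun x => Commute x (h * s * h⁻¹)) fun x => (he _ _).symm).symm).trans
        ?_).trans (e.subtypeEquiv (p := fun x => Commute x s) fun x => by rw [← hs1]; exact (he _ _).symm))
      exact ((MulAut.conj h).symm.toEquiv).subtypeEquiv fun x => by
        constructor
        · intro hx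
          have := hx.map (MulAut.conj h).symm.toMonoidHom
          simpa [mul_assoc] using this
        · intro hx
          have := hx.map (MulAut.conj h).toMonoidHom
          simpa [mul_assoc] using this
  choose π hπ using hinv
  have hval : ∀ h i, e.symm (F.T (π h i)) = h * e.symm (F.T i) * h⁻¹ := fun h i => by
    rw [hπ, e.symm_apply_apply]
  have hmul : ∀ a b i, π (a * b) i = π a (π b i) := fun a b i => by
    apply F.inj; apply e.symm.injective
    rw [hval, hval, hval]; group
  have hone : ∀ i, π 1 i = i := fun i => by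
    apply F.inj; apply e.symm.injective
    rw [hval]; simp
  let P : H → Equiv.Perm (Fin c.n) := fun h =>
    ⟨π h, π h⁻¹, fun i => by rw [← hmul, inv_mul_cancel, hone],
      fun i => by rw [← hmul, mul_inv_cancel, hone]⟩
  have hP : ∀ h, P h ∈ autGrp c := by
    intro h i j
    rw [Bool.eq_iff_iff, F.adj, F.adj]
    refine and_congr (P h).injective.ne_iff ?_
    show Commute (F.T (π h i)) (F.T (π h j)) ↔ _
    rw [hπ, hπ, he]
    conv_rhs => rw [← e.apply_symm_apply (F.T i), ← e.apply_symm_apply (F.T j), he]
    constructor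
    · intro hx
      have := hx.map (MulAut.conj h).symm.toMonoidHom
      simpa [mul_assoc] using this
    · intro hx
      exact hx.map (MulAut.conj h).toMonoidHom
  let ψ : H →* autGrp c :=
    { toFun := fun h => ⟨P h, hP h⟩
      map_one' := Subtype.ext (Equiv.ext hone)
      map_mul' := fun a b => Subtype.ext (Equiv.ext (hmul a b)) }
  refine ⟨ψ, (injective_iff_map_eq_one ψ).2 fun h hh => ?_⟩
  apply e.injective
  rw [he1]
  refine F.faithful _ fun i => ?_
  have h1 : π h i = i := Equiv.congr_fun (congrArg Subtype.val hh) i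
  have h2 := hval h i
  rw [h1] at h2
  rw [← e.apply_symm_apply (F.T i), he]
  exact (eq_mul_inv_iff_mul_eq.1 h2).symm

/-- The main theorem. -/
theorem nonempty_mulEquiv_of_graph [Finite L] (F : GraphFacts L c)
    (hA : Nat.card (autGrp c) ≤ Nat.card L ∨
      (IsSimpleGroup L ∧ 2 < Nat.card L ∧ Nat.card (autGrp c) ≤ 2 * Nat.card L))
    {H : Type*} [Group H] [Finite H] (f : {h : H // h ≠ 1} ≃ {g : L // g ≠ 1})
    (hf : ∀ x y : {h : H // h ≠ 1}, (x : H) * y = y * x ↔ ((f x) : L) * (f y) = (f y) * (f x)) :
    Nonempty (H ≃* L) := by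
  obtain ⟨ψ, hψ⟩ := exists_embedding F (withOne f) (withOne_one f) (withOne_commute f hf)
  obtain ⟨φ, hφ⟩ := exists_embedding F (Equiv.refl L) rfl (fun a b => Iff.rfl)
  have hcard : Nat.card H = Nat.card L := Nat.card_congr (withOne f)
  have cK : Nat.card ψ.range = Nat.card L := by
    rw [← hcard]; exact (Nat.card_congr (MonoidHom.ofInjective hψ).toEquiv).symm
  have cM : Nat.card φ.range = Nat.card L :=
    (Nat.card_congr (MonoidHom.ofInjective hφ).toEquiv).symm
  have heq : φ.range = ψ.range := by
    rcases hA with hA | ⟨hs, h2, hA⟩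
    · rw [Subgroup.eq_top_of_card_eq φ.range (le_antisymm (Subgroup.card_le_card_group _) (hA.trans cM.ge)),
        Subgroup.eq_top_of_card_eq ψ.range (le_antisymm (Subgroup.card_le_card_group _) (hA.trans cK.ge))]
    · have hidx : ψ.range.index ≤ 2 := by
        have h := Subgroup.card_mul_index ψ.range
        rw [cK] at h
        have hpos : 0 < Nat.card L := Nat.card_pos
        by_contra h3
        have : Nat.card L * 3 ≤ Nat.card L * ψ.range.index := Nat.mul_le_mul_left _ (by omega)
        omega
      set K := ψ.range.comap φ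
      have hK : K.index ≤ 2 := by
        rw [Subgroup.index_comap]
        exact le_trans ((Subgroup.relIndex_le_of_le_right le_top
          (by rw [Subgroup.relIndex_top_right]; exact Subgroup.index_ne_zero_of_finite)).trans_eq
          (Subgroup.relIndex_top_right _)) hidx
      have htop : K = ⊤ := by
        rcases Nat.lt_or_ge K.index 2 with h | h
        · rw [← Subgroup.index_eq_one]
          have : K.index ≠ 0 := Subgroup.index_ne_zero_of_finite
          omega
        · exfalso
          have h2' : K.index = 2 := le_antisymm hK h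
          rcases hs.eq_bot_or_eq_top_of_normal K (Subgroup.normal_of_index_eq_two h2') with h' | h'
          · rw [h', Subgroup.index_bot] at h2'; omega
          · rw [h', Subgroup.index_top] at h2'; omega
      refine Subgroup.eq_of_le_of_card_ge ?_ (by rw [cK, cM])
      rintro _ ⟨l, rfl⟩
      have : l ∈ K := htop ▸ Subgroup.mem_top l
      exact this
  exact ⟨(MonoidHom.ofInjective hψ).trans
    ((MulEquiv.subgroupCongr heq.symm).trans (MonoidHom.ofInjective hφ).symm)⟩

/-- A certificate yields the facts. -/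
noncomputable def graphFacts [Finite L] (h : certOK E c) (hL : Nat.card L = c.n * c.d)
    (hd : ∃ k, c.d = 2 ^ k * 3) (hodd : ¬ 2 ∣ c.n) : GraphFacts L c :=
  haveI := hd
  let T : Fin c.n → L := fun i => E.den (c.T.getD i.val 0)
  have H : Function.Injective T ∧ (∀ g : L, g ∈ Set.range T ↔
      (g ≠ 1 ∧ Nat.card {x : L // Commute x g} = c.d)) ∧
      (∀ i j : Fin c.n, c.adj i j = true ↔ (i ≠ j ∧ Commute (T i) (T j))) ∧
      (∀ g : L, (∀ i, Commute g (T i)) → g = 1) := by
    classical
    haveI := Fintype.ofFinite L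
    obtain ⟨hcl, hr, hn, hp, -⟩ := h
    simp only [classOK, Bool.and_eq_true, decide_eq_true_eq, List.all_eq_true, List.mem_range,
      bne_iff_ne, beq_iff_eq] at hcl
    obtain ⟨⟨⟨⟨⟨⟨⟨⟨⟨hlT, hlX⟩, hlC⟩, hn0⟩, hT⟩, hX⟩, hTn⟩, hCn⟩, hC⟩, hconj⟩ := hcl
    have vT : ∀ i, i < c.n → E.valid (c.T.getD i 0) = true ∧ c.T.getD i 0 ≠ E.one := fun i hi => by
      rw [getD_eq_getElem' 0 (hlT.symm ▸ hi)]
      exact hT _ (List.getElem_mem _)
    have vX : ∀ i, i < c.n → E.valid (c.X.getD i 0) = true := fun i hi => by
      rw [getD_eq_getElem' 0 (hlX.symm ▸ hi)]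
      exact hX _ (List.getElem_mem _)
    have hinj : Function.Injective T := by
      intro i j hij
      have := E.den_inj _ _ (vT i i.2).1 (vT j j.2).1 hij
      rw [getD_eq_getElem' 0 (hlT.symm ▸ i.2), getD_eq_getElem' 0 (hlT.symm ▸ j.2)] at this
      exact Fin.ext ((hTn.getElem_inj_iff).1 this)
    set o : Fin c.n := ⟨0, hn0⟩
    set z := T o with hz
    have hz1 : z ≠ 1 := fun h1 =>
      (vT 0 hn0).2 (E.den_inj _ _ (vT 0 hn0).1 E.valid_one (h1.trans E.den_one.symm))
    have conjT : ∀ i : Fin c.n, E.den (c.X.getD i.val 0) * z * (E.den (c.X.getD i.val 0))⁻¹ = T i := by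
      intro i
      have h1 := congrArg E.den (hconj i.val i.2)
      rw [E.den_mul _ _ (vX i i.2) (vT 0 hn0).1, E.den_mul _ _ (vT i i.2).1 (vX i i.2)] at h1
      rw [hz]
      show _ * E.den (c.T.getD 0 0) * _ = _
      rw [h1, mul_inv_cancel_right]
    -- centraliser and class of `z`
    set Cz := Subgroup.centralizer ({z} : Set L) with hCz
    have hCle : c.d ≤ Nat.card Cz := by
      let g : Fin c.C.length → Cz := fun k => ⟨E.den c.C[k], by
        obtain ⟨hv, hco⟩ := hC _ (List.getElem_mem k.2)
        rw [hCz, Subgroup.mem_centralizer_singleton_iff]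
        exact (E.comm_iff hv (vT 0 hn0).1).1 hco⟩
      have hg : Function.Injective g := by
        intro a b hab
        have := E.den_inj _ _ (hC _ (List.getElem_mem a.2)).1 (hC _ (List.getElem_mem b.2)).1
          (congrArg Subtype.val hab)
        exact Fin.ext ((hCn.getElem_inj_iff).1 this)
      have := Nat.card_le_card_of_injective g hg
      rwa [Nat.card_fin, hlC] at this
    set Cl := MulAction.orbit (ConjAct L) z with hCl
    have hmemCl : ∀ g : L, g ∈ Cl ↔ ∃ x : L, x * z * x⁻¹ = g := by
      intro g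
      constructor
      · rintro ⟨x, rfl⟩; exact ⟨ConjAct.ofConjAct x, (ConjAct.smul_def x z).symm⟩
      · rintro ⟨x, rfl⟩; exact ⟨ConjAct.toConjAct x, ConjAct.smul_def _ _⟩
    have hsub : Set.range T ⊆ Cl := by
      rintro _ ⟨i, rfl⟩
      exact (hmemCl _).2 ⟨_, conjT i⟩
    have hrange : (Set.range T).ncard = c.n := by
      rw [← Set.image_univ, Set.ncard_image_of_injective _ hinj, Set.ncard_univ, Nat.card_fin]
    have hclass : Cl.ncard * Nat.card Cz = c.n * c.d := by
      rw [← hL, hCz, hCl, ← MulAction.index_stabilizer]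
      have hst : Nat.card (Subgroup.centralizer ({z} : Set L)) = Nat.card (MulAction.stabilizer (ConjAct L) z) :=
        Nat.card_congr (ConjAct.toConjAct.toEquiv.subtypeEquiv fun x => by
          rw [Subgroup.mem_centralizer_singleton_iff, MulAction.mem_stabilizer_iff, ConjAct.smul_def]
          show x * z = z * x ↔ x * z * x⁻¹ = z
          exact (mul_inv_eq_iff_eq_mul).symm)
      rw [hst, Subgroup.index_mul_card]
      exact Nat.card_congr ConjAct.ofConjAct.toEquiv
    have hge : c.n ≤ Cl.ncard := hrange ▸ Set.ncard_le_ncard hsub (Set.toFinite _)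
    have hCd : Nat.card Cz = c.d := by
      have h1 := Nat.mul_le_mul hge (le_refl (Nat.card Cz))
      rw [hclass] at h1
      exact le_antisymm (Nat.le_of_mul_le_mul_left h1 hn0) hCle
    have hCleq : Cl = Set.range T := by
      refine (Set.eq_of_subset_of_ncard_le hsub ?_ (Set.toFinite _)).symm
      rw [hCd] at hclass
      rw [hrange]
      obtain ⟨k, hk⟩ := hd
      have : 0 < c.d := by rw [hk]; positivity
      exact (Nat.eq_of_mul_eq_mul_right this hclass).le
    have hCmem : ∀ g : L, Commute g z → ∃ k : Fin c.C.length, g = E.den c.C[k] := by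
      intro g hg
      let f' : Fin c.C.length → Cz := fun k => ⟨E.den c.C[k], by
        obtain ⟨hv, hco⟩ := hC _ (List.getElem_mem k.2)
        rw [hCz, Subgroup.mem_centralizer_singleton_iff]
        exact (E.comm_iff hv (vT 0 hn0).1).1 hco⟩
      have hf' : Function.Injective f' := by
        intro a b hab
        have := E.den_inj _ _ (hC _ (List.getElem_mem a.2)).1 (hC _ (List.getElem_mem b.2)).1
          (congrArg Subtype.val hab)
        exact Fin.ext ((hCn.getElem_inj_iff).1 this)
      have hbij := (Nat.bijective_iff_injective_and_card f').2 ⟨hf', by rw [Nat.card_fin, hlC, hCd]⟩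
      obtain ⟨k, hk⟩ := hbij.2 ⟨g, Subgroup.mem_centralizer_singleton_iff.2 hg⟩
      exact ⟨k, (congrArg Subtype.val hk).symm⟩
    have hcent : ∀ g : L, Nat.card (Subgroup.centralizer ({g} : Set L)) =
        Nat.card {x : L // Commute x g} := fun g =>
      Nat.card_congr (Equiv.subtypeEquivRight fun x => Subgroup.mem_centralizer_singleton_iff)
    have conjcard : ∀ x g : L, Nat.card {y : L // Commute y (x * g * x⁻¹)} = Nat.card {y : L // Commute y g} :=
      fun x g => (Nat.card_congr ((MulAut.conj x).toEquiv.subtypeEquiv fun y => by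
        constructor
        · intro hy; exact hy.map (MulAut.conj x).toMonoidHom
        · intro hy
          have := hy.map (MulAut.conj x).symm.toMonoidHom
          simpa [mul_assoc] using this)).symm
    -- the dihedral pair
    simp only [pairOK, Bool.and_eq_true, decide_eq_true_eq, List.all_eq_true, List.any_eq_true,
      List.mem_range, beq_iff_eq, Bool.or_eq_true, Bool.not_eq_true', Bool.and_eq_false_iff] at hp
    obtain ⟨⟨⟨⟨⟨⟨⟨hs1, hs2⟩, hzz⟩, haa⟩, hbb⟩, hab⟩, hfilter⟩, i₀, hi₀, hnc⟩ := hp
    set a := T ⟨c.s₁, hs1⟩ with haT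
    set b := T ⟨c.s₂, hs2⟩ with hbT
    have va := (vT _ hs1).1
    have vb := (vT _ hs2).1
    have vz := (vT 0 hn0).1
    have sq1 : ∀ u, E.valid u = true → E.mul u u = E.one → E.den u * E.den u = 1 := fun u hu h => by
      rw [← E.den_mul u u hu hu, h, E.den_one]
    have ha2 : a * a = 1 := sq1 _ va haa
    have hb2 : b * b = 1 := sq1 _ vb hbb
    have hz2 : z * z = 1 := sq1 _ vz hzz
    have hab2 : (a * b) * (a * b) = z := by
      show (E.den _ * E.den _) * (E.den _ * E.den _) = E.den _
      rw [← E.den_mul _ _ va vb, ← E.den_mul _ _ (E.valid_mul _ _ va vb) (E.valid_mul _ _ va vb), hab]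
    have pair : ∀ g : L, Commute g z → Commute g a → Commute g b → g = 1 ∨ g = z := by
      intro g hgz hga hgb
      obtain ⟨k, rfl⟩ := hCmem g hgz
      have hv := (hC _ (List.getElem_mem k.2)).1
      rcases hfilter _ (List.getElem_mem k.2) with (h' | h') | h'
      · rcases h' with h' | h'
        · exact absurd ((E.comm_iff hv va).2 hga) (by rw [h']; decide)
        · exact absurd ((E.comm_iff hv vb).2 hgb) (by rw [h']; decide)
      · exact Or.inl ((congrArg E.den h').trans E.den_one)
      · exact Or.inr (congrArg E.den h')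
    refine ⟨hinj, fun g => ⟨?_, ?_⟩, ?_, ?_⟩
    · rintro ⟨i, rfl⟩
      refine ⟨fun h1 => (vT i i.2).2 (E.den_inj _ _ (vT i i.2).1 E.valid_one (h1.trans E.den_one.symm)), ?_⟩
      rw [← conjT i, conjcard, ← hcent, ← hCd]
    · rintro ⟨hg1, hgd⟩
      haveI : Fact (Nat.Prime 2) := ⟨Nat.prime_two⟩
      obtain ⟨k, hk⟩ := hd
      -- the centraliser of `g` contains a Sylow `2`-subgroup
      set Cg := Subgroup.centralizer ({g} : Set L)
      have hCg : Nat.card Cg = 2 ^ k * 3 := by rw [hcent, hgd, hk]
      let Q : Sylow 2 Cg := default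
      set Q₀ := (Q : Subgroup Cg).map Cg.subtype
      have hQcard : Nat.card Q₀ = 2 ^ k := by
        rw [Nat.card_congr (Subgroup.equivMapOfInjective _ _ Cg.subtype_injective).symm.toEquiv,
          Q.card_eq_multiplicity, hCg, Nat.factorization_mul (by positivity) (by norm_num),
          Finsupp.add_apply, Nat.Prime.factorization_pow Nat.prime_two,
          Nat.Prime.factorization Nat.prime_three]
        simp
      obtain ⟨S, hS⟩ := (Q.isPGroup'.map Cg.subtype).exists_le_sylow
      have hSQ : Q₀ = (S : Subgroup L) := by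
        refine Subgroup.eq_of_le_of_card_ge hS ?_
        rw [hQcard, S.card_eq_multiplicity, hL, hk, Nat.factorization_mul hn0.ne' (by positivity),
          Nat.factorization_mul (by positivity) (by norm_num), Finsupp.add_apply, Finsupp.add_apply,
          Nat.factorization_eq_zero_of_not_dvd hodd, Nat.Prime.factorization_pow Nat.prime_two,
          Nat.Prime.factorization Nat.prime_three]
        simp
      -- the 2-group `⟨a, b⟩`
      set r := a * b with hr
      have hr4 : r ^ 4 = 1 := by
        rw [show (4 : ℕ) = 2 * 2 from rfl, pow_mul, sq r, hab2, sq, hz2]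
      have hrinv : r⁻¹ = b * a := by
        rw [hr, _root_.mul_inv_rev, inv_eq_of_mul_eq_one_right ha2, inv_eq_of_mul_eq_one_right hb2]
      have haconj : a * r * a = r⁻¹ := by
        rw [hrinv, hr]
        calc a * (a * b) * a = (a * a) * b * a := by group
          _ = b * a := by rw [ha2, one_mul]
      have hmemD : ∀ x ∈ Subgroup.closure ({a, b} : Set L), ∃ m : ℤ, x = r ^ m ∨ x = r ^ m * a := by
        intro x hx
        have hshift : ∀ m : ℤ, a * r ^ m = r ^ (-m) * a := by
          intro m
          have h1 : (MulAut.conj a) r = r⁻¹ := by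
            show a * r * a⁻¹ = r⁻¹
            rw [inv_eq_of_mul_eq_one_right ha2, haconj]
          have h2 := map_zpow (MulAut.conj a) r m
          rw [h1, inv_zpow', MulAut.conj_apply] at h2
          exact mul_inv_eq_iff_eq_mul.1 h2
        induction hx using Subgroup.closure_induction with
        | mem y hy =>
          rcases hy with rfl | rfl
          · exact ⟨0, Or.inr (by simp)⟩
          · refine ⟨-1, Or.inr ?_⟩
            rw [zpow_neg_one, hrinv, mul_assoc, ha2, mul_one]
        | one => exact ⟨0, Or.inl (by simp)⟩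
        | mul x y _ _ ihx ihy =>
          obtain ⟨m, hm⟩ := ihx
          obtain ⟨m', hm'⟩ := ihy
          rcases hm with rfl | rfl <;> rcases hm' with rfl | rfl
          · exact ⟨m + m', Or.inl (zpow_add r m m').symm⟩
          · exact ⟨m + m', Or.inr (by rw [← mul_assoc, ← zpow_add])⟩
          · exact ⟨m + -m', Or.inr (by rw [mul_assoc, hshift, ← mul_assoc, ← zpow_add])⟩
          · refine ⟨m + -m', Or.inl ?_⟩
            rw [mul_assoc, ← mul_assoc a, hshift, mul_assoc, ha2, mul_one, ← zpow_add]
        | inv x _ ih =>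
          obtain ⟨m, rfl | rfl⟩ := ih
          · exact ⟨-m, Or.inl (by rw [zpow_neg])⟩
          · refine ⟨m, Or.inr ?_⟩
            rw [_root_.mul_inv_rev, inv_eq_of_mul_eq_one_right ha2, ← zpow_neg, hshift, neg_neg]
      have hD2 : IsPGroup 2 (Subgroup.closure ({a, b} : Set L)) := by
        rintro ⟨x, hx⟩
        refine ⟨2, Subtype.ext ?_⟩
        show x ^ 4 = 1
        obtain ⟨m, rfl | rfl⟩ := hmemD x hx
        · rw [← zpow_natCast, ← zpow_mul, mul_comm, zpow_mul, zpow_natCast, hr4, one_zpow]
        · have hsq : (r ^ m * a) * (r ^ m * a) = 1 := by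
            have h2 := map_zpow (MulAut.conj a) r m
            rw [show (MulAut.conj a) r = r⁻¹ by
              show a * r * a⁻¹ = r⁻¹
              rw [inv_eq_of_mul_eq_one_right ha2, haconj], inv_zpow', MulAut.conj_apply,
              inv_eq_of_mul_eq_one_right ha2] at h2
            calc r ^ m * a * (r ^ m * a) = r ^ m * (a * r ^ m * a) := by group
              _ = 1 := by rw [h2, ← zpow_add, add_neg_cancel, zpow_zero]
          rw [show (4 : ℕ) = 2 * 2 from rfl, pow_mul, sq (r ^ m * a), hsq, one_pow]
      obtain ⟨S', hS'⟩ := hD2.exists_le_sylow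
      obtain ⟨x, hx⟩ := MulAction.exists_smul_eq L S S'
      have hcomm : ∀ y ∈ Subgroup.closure ({a, b} : Set L), Commute (x * g * x⁻¹) y := by
        intro y hy
        have := hS' hy
        rw [← hx, Sylow.coe_subgroup_smul, Subgroup.mem_pointwise_smul_iff_inv_smul_mem, ← hSQ] at this
        obtain ⟨q, -, hq⟩ := this
        have hq' : (q : L) * g = g * q := Subgroup.mem_centralizer_singleton_iff.1 q.2
        rw [show (q : L) = x⁻¹ * y * x by simpa [mul_assoc] using hq] at hq'
        have := congrArg (fun u => x * u * x⁻¹) hq'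
        simp [mul_assoc] at this
        show x * g * x⁻¹ * y = y * (x * g * x⁻¹)
        simpa [mul_assoc] using this.symm
      have hama : a ∈ Subgroup.closure ({a, b} : Set L) := Subgroup.subset_closure (by simp)
      have hbmb : b ∈ Subgroup.closure ({a, b} : Set L) := Subgroup.subset_closure (by simp)
      have hzm : z ∈ Subgroup.closure ({a, b} : Set L) :=
        hab2 ▸ mul_mem (mul_mem hama hbmb) (mul_mem hama hbmb)
      rcases pair _ (hcomm z hzm) (hcomm a hama) (hcomm b hbmb) with h1 | h1
      · rw [conj_eq_one_iff] at h1; exact absurd h1 hg1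
      · rw [← hCleq, hmemCl]
        exact ⟨x⁻¹, by rw [← h1]; group⟩
    · -- adjacency
      simp only [nbrsOK, Bool.and_eq_true, List.all_eq_true, List.mem_range, beq_iff_eq] at hn
      obtain ⟨hlen0, hn⟩ := hn
      intro i j
      rw [adj_iff hr i.2 j.2]
      let S : Fin c.n → Finset (Fin c.n) := fun i =>
        Finset.univ.filter fun j => j ≠ i ∧ Commute (T i) (T j)
      let Nb : Fin c.n → Finset (Fin c.n) := fun i =>
        Finset.univ.filter fun j => j.val ∈ c.nbrs.getD i.val []
      have hsub : ∀ i, Nb i ⊆ S i := by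
        intro i j hj
        simp only [Nb, Finset.mem_filter, Finset.mem_univ, true_and] at hj
        simp only [S, Finset.mem_filter, Finset.mem_univ, true_and]
        refine ⟨fun h => (nbrs_spec hr i.2 hj).2 (congrArg Fin.val h), ?_⟩
        exact (E.comm_iff (vT i i.2).1 (vT j j.2).1).1 ((hn i.val i.2).2 j.val hj)
      have hNbcard : ∀ i, (Nb i).card = (c.nbrs.getD 0 []).length := by
        intro i
        rw [← (hn i.val i.2).1, ← List.toFinset_card_of_nodup (nbrs_nodup hr i.2)]
        refine Finset.card_bij (fun j _ => j.val) (fun j hj => ?_) (fun a _ b _ hab => Fin.ext hab)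
          (fun j hj => ?_)
        · simpa [Nb] using hj
        · rw [List.mem_toFinset] at hj
          exact ⟨⟨j, (nbrs_spec hr i.2 hj).1⟩, by simpa [Nb] using hj, rfl⟩
      have hS0 : (S o).card = (c.nbrs.getD 0 []).length := by
        rw [← hlen0, ← List.toFinset_card_of_nodup (List.nodup_range.filter _)]
        refine Finset.card_bij (fun j _ => j.val) (fun j hj => ?_) (fun a _ b _ hab => Fin.ext hab)
          (fun j hj => ?_)
        · simp only [S, Finset.mem_filter, Finset.mem_univ, true_and] at hj
          simp only [List.mem_toFinset, List.mem_filter, List.mem_range, Bool.and_eq_true, bne_iff_ne]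
          exact ⟨j.2, fun h => hj.1 (Fin.ext h), (E.comm_iff vz (vT j j.2).1).2 hj.2⟩
        · simp only [List.mem_toFinset, List.mem_filter, List.mem_range, Bool.and_eq_true, bne_iff_ne] at hj
          refine ⟨⟨j, hj.1⟩, ?_, rfl⟩
          simp only [S, Finset.mem_filter, Finset.mem_univ, true_and]
          exact ⟨fun h => hj.2.1 (congrArg Fin.val h), (E.comm_iff vz (vT j hj.1).1).1 hj.2.2⟩
      have hconjmem : ∀ (x : L) (i : Fin c.n), x * T i * x⁻¹ ∈ Set.range T := by
        intro x i
        rw [← hCleq, hmemCl]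
        refine ⟨x * E.den (c.X.getD i.val 0), ?_⟩
        rw [← conjT i]; group
      have hScard : ∀ i, (S i).card ≤ (S o).card := by
        intro i
        set x := E.den (c.X.getD i.val 0)
        choose p hp using fun j => hconjmem x⁻¹ j
        have hpi : p i = o := hinj (by
          rw [hp, ← conjT i]
          simp only [x]
          group
          rfl)
        have hpinj : Function.Injective p := fun a b h => hinj (by
          have := congrArg T h
          rw [hp, hp] at this
          simpa using this)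
        refine Finset.card_le_card_of_injOn p (fun j hj => ?_) hpinj.injOn
        simp only [S, Finset.coe_filter, Finset.mem_univ, true_and, Set.mem_setOf_eq] at hj ⊢
        refine ⟨fun h => hj.1 (hpinj (h.trans hpi.symm)), ?_⟩
        rw [hp, ← hpi, hp]
        exact hj.2.map (MulAut.conj x⁻¹).toMonoidHom
      have heq : Nb i = S i :=
        Finset.eq_of_subset_of_card_le (hsub i) (((hScard i).trans_eq hS0).trans (hNbcard i).ge)
      have := Finset.ext_iff.1 heq j
      simpa [Nb, S, ne_comm] using this
    · intro g hg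
      rcases pair g (hg o) (hg _) (hg _) with h1 | h1
      · exact h1
      · exfalso
        have := (E.comm_iff vz (vT i₀ hi₀).1).2 (by
          have := hg ⟨i₀, hi₀⟩; rw [h1] at this; exact this)
        rw [this] at hnc
        exact Bool.noConfusion hnc
  ⟨T, H.1, H.2.1, H.2.2.1, H.2.2.2⟩

/-- The conclusion. -/
theorem nonempty_mulEquiv_of_cert [Finite L] (h : certOK E c) (hL : Nat.card L = c.n * c.d)
    (hd : ∃ k, c.d = 2 ^ k * 3) (hodd : ¬ 2 ∣ c.n)
    (hb : c.bound = c.d ∨ (IsSimpleGroup L ∧ 2 < Nat.card L ∧ c.bound = 2 * c.d))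
    {H : Type*} [Group H] [Finite H] (f : {h : H // h ≠ 1} ≃ {g : L // g ≠ 1})
    (hf : ∀ x y : {h : H // h ≠ 1}, (x : H) * y = y * x ↔ ((f x) : L) * (f y) = (f y) * (f x)) :
    Nonempty (H ≃* L) := by
  have hn0 : 0 < c.n := Nat.pos_of_ne_zero fun h0 => hodd (h0 ▸ dvd_zero 2)
  have hA := card_autGrp_le hn0 h.2.1 h.2.2.2.2
  refine nonempty_mulEquiv_of_graph (graphFacts E h hL hd hodd) ?_ f hf
  rcases hb with hb | ⟨hs, h2, hb⟩
  · exact Or.inl (by rw [hL, ← hb]; exact hA)
  · exact Or.inr ⟨hs, h2, by rw [hL]; rw [hb] at hA; nlinarith⟩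

end Group

end Cfsg.Agent.H67
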