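import Cfsg.Agent.H67.GraphCert

/-!
An encoding of the special linear group of degree three over the field with three elements.
-/

set_option autoImplicit false

namespace Cfsg.Agent.H67

open Matrix

/-- An entry of a code. -/
def ent3 (A i j : ℕ) : ℕ := A / 3 ^ (3 * i + j) % 3

/-- The code of nine entries. -/
def pack3 (f : ℕ → ℕ → ℕ) : ℕ :=
  f 0 0 + 3 * f 0 1 + 9 * f 0 2 + 27 * f 1 0 + 81 * f 1 1 + 243 * f 1 2 + 729 * f 2 0 +
    2187 * f 2 1 + 6561 * f 2 2

/-- Multiplication of codes. -/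
def mul33 (A B : ℕ) : ℕ :=
  pack3 fun i j => (ent3 A i 0 * ent3 B 0 j + ent3 A i 1 * ent3 B 1 j + ent3 A i 2 * ent3 B 2 j) % 3

/-- The matrix of a code. -/
def mat33 (A : ℕ) : Matrix (Fin 3) (Fin 3) (ZMod 3) := Matrix.of fun i j => (ent3 A i j : ZMod 3)

/-- The code of a matrix. -/
def code33 (M : Matrix (Fin 3) (Fin 3) (ZMod 3)) : ℕ :=
  pack3 fun i j => if h : i < 3 ∧ j < 3 then (M ⟨i, h.1⟩ ⟨j, h.2⟩).val else 0

/-- The determinant mod 3 computed on codes. -/
def det33 (A : ℕ) : ℕ :=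
  let a := ent3 A
  (a 0 0 * a 1 1 * a 2 2 + a 0 1 * a 1 2 * a 2 0 + a 0 2 * a 1 0 * a 2 1 +
    2 * (a 0 2 * a 1 1 * a 2 0 + a 0 1 * a 1 0 * a 2 2 + a 0 0 * a 1 2 * a 2 1)) % 3

/-- Validity of a code. -/
def valid33 (A : ℕ) : Bool := decide (A < 19683) && det33 A == 1

lemma ent3_lt (A i j : ℕ) : ent3 A i j < 3 := Nat.mod_lt _ (by norm_num)

lemma ent3_pack3 (f : ℕ → ℕ → ℕ) (hf : ∀ i j, f i j < 3) (i j : Fin 3) :
    ent3 (pack3 f) i j = f i j := by
  have h00 := hf 0 0; have h01 := hf 0 1; have h02 := hf 0 2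
  have h10 := hf 1 0; have h11 := hf 1 1; have h12 := hf 1 2
  have h20 := hf 2 0; have h21 := hf 2 1; have h22 := hf 2 2
  fin_cases i <;> fin_cases j <;> simp [ent3, pack3] <;> omega

lemma pack3_lt (f : ℕ → ℕ → ℕ) (hf : ∀ i j, f i j < 3) : pack3 f < 19683 := by
  have h00 := hf 0 0; have h01 := hf 0 1; have h02 := hf 0 2
  have h10 := hf 1 0; have h11 := hf 1 1; have h12 := hf 1 2
  have h20 := hf 2 0; have h21 := hf 2 1; have h22 := hf 2 2
  simp [pack3]; omega

lemma eq_of_mat33_eq {A B : ℕ} (hA : A < 19683) (hB : B < 19683) (h : mat33 A = mat33 B) :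
    A = B := by
  have he : ∀ i j : Fin 3, ent3 A i j = ent3 B i j := fun i j => by
    have h1 := congrArg (fun M => (M i j).val) h
    simpa [mat33, ZMod.val_natCast, Nat.mod_eq_of_lt (ent3_lt _ _ _)] using h1
  have h00 := he 0 0; have h01 := he 0 1; have h02 := he 0 2
  have h10 := he 1 0; have h11 := he 1 1; have h12 := he 1 2
  have h20 := he 2 0; have h21 := he 2 1; have h22 := he 2 2
  simp [ent3] at h00 h01 h02 h10 h11 h12 h20 h21 h22
  omega

lemma mat33_mul (A B : ℕ) : mat33 (mul33 A B) = mat33 A * mat33 B := by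
  ext i j
  have h := ent3_pack3
    (fun i j => (ent3 A i 0 * ent3 B 0 j + ent3 A i 1 * ent3 B 1 j + ent3 A i 2 * ent3 B 2 j) % 3)
    (fun _ _ => Nat.mod_lt _ (by norm_num)) i j
  simp only [mat33, mul33, Matrix.of_apply, h, Matrix.mul_apply, Fin.sum_univ_three,
    ZMod.natCast_mod, Nat.cast_add, Nat.cast_mul]
  rfl

lemma det_mat33 (A : ℕ) : (mat33 A).det = (det33 A : ZMod 3) := by
  have h2 : (2 : ZMod 3) = -1 := by decide
  simp only [Matrix.det_fin_three, mat33, det33, Matrix.of_apply, ZMod.natCast_mod, Nat.cast_add,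
    Nat.cast_mul, Nat.cast_ofNat, h2]
  simp only [Fin.val_zero, Fin.val_one, Fin.val_two]
  ring

lemma valid33_iff (A : ℕ) : valid33 A = true ↔ A < 19683 ∧ (mat33 A).det = 1 := by
  rw [valid33, Bool.and_eq_true, decide_eq_true_eq, beq_iff_eq, det_mat33]
  refine and_congr_right fun _ => ⟨fun h => by rw [h, Nat.cast_one], fun h => ?_⟩
  have h1 := congrArg ZMod.val h
  rw [ZMod.val_natCast, det33, Nat.mod_mod, ZMod.val_one] at h1
  exact h1

/-- The special linear element of a code. -/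
noncomputable def sl33 (A : ℕ) : SpecialLinearGroup (Fin 3) (ZMod 3) :=
  if h : (mat33 A).det = 1 then ⟨mat33 A, h⟩ else 1

lemma val_sl33 {A : ℕ} (h : valid33 A = true) : (↑(sl33 A) : Matrix (Fin 3) (Fin 3) (ZMod 3)) = mat33 A := by
  exact congrArg Subtype.val (dif_pos ((valid33_iff A).1 h).2)

lemma valid33_mul {A B : ℕ} (ha : valid33 A = true) (hb : valid33 B = true) :
    valid33 (mul33 A B) = true := by
  refine (valid33_iff _).2 ⟨pack3_lt _ fun _ _ => Nat.mod_lt _ (by norm_num), ?_⟩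
  rw [mat33_mul, Matrix.det_mul, ((valid33_iff A).1 ha).2, ((valid33_iff B).1 hb).2, one_mul]

lemma sl33_mul {A B : ℕ} (ha : valid33 A = true) (hb : valid33 B = true) :
    sl33 (mul33 A B) = sl33 A * sl33 B := by
  apply Matrix.SpecialLinearGroup.ext
  intro i j
  rw [Matrix.SpecialLinearGroup.coe_mul, val_sl33 (valid33_mul ha hb), val_sl33 ha, val_sl33 hb, mat33_mul]

lemma center_sl33 :
    Subgroup.center (SpecialLinearGroup (Fin 3) (ZMod 3)) = ⊥ := by
  rw [eq_bot_iff]
  intro g hg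
  obtain ⟨r, hr, hgr⟩ := Matrix.SpecialLinearGroup.mem_center_iff.1 hg
  have h1 : r = 1 := (show ∀ r : ZMod 3, r ^ 3 = 1 → r = 1 by decide) r (by simpa using hr)
  rw [Subgroup.mem_bot]
  apply Matrix.SpecialLinearGroup.ext
  intro i j
  rw [← hgr, h1, map_one]
  rfl

lemma mk33_injective : Function.Injective
    (QuotientGroup.mk' (Subgroup.center (SpecialLinearGroup (Fin 3) (ZMod 3)))) := by
  rw [← MonoidHom.ker_eq_bot_iff, QuotientGroup.ker_mk', center_sl33]

/-- The encoding. -/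
noncomputable def l33Enc : Enc (ProjectiveSpecialLinearGroup (Fin 3) (ZMod 3)) where
  den A := QuotientGroup.mk' _ (sl33 A)
  mul := mul33
  valid := valid33
  one := 6643
  valid_mul _ _ ha hb := valid33_mul ha hb
  den_mul A B ha hb := by rw [sl33_mul ha hb]; exact map_mul _ _ _
  valid_one := by decide
  den_one := by
    have hv : valid33 6643 = true := by decide
    have h : sl33 6643 = 1 := by
      apply Matrix.SpecialLinearGroup.ext
      intro i j
      rw [val_sl33 hv, Matrix.SpecialLinearGroup.coe_one]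
      fin_cases i <;> fin_cases j <;> decide
    rw [h]; exact map_one _
  den_inj A B ha hb h := by
    have h1 := congrArg (fun g : SpecialLinearGroup (Fin 3) (ZMod 3) => (↑g : Matrix (Fin 3) (Fin 3) (ZMod 3))) (mk33_injective h)
    rw [val_sl33 ha, val_sl33 hb] at h1
    exact eq_of_mat33_eq ((valid33_iff A).1 ha).1 ((valid33_iff B).1 hb).1 h1

end Cfsg.Agent.H67
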