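import Cfsg.Agent.H67.L33Data
import Cfsg.Agent.H67.L33Enc

/-!
Kernel verification of the certificate.
-/

set_option autoImplicit false
set_option maxRecDepth 100000
set_option maxHeartbeats 0

namespace Cfsg.Agent.H67

lemma l33_rowsOK : rowsOK l33Cert = true := by decide +kernel

lemma l33_boundOK : boundOK l33Cert = true := by decide +kernel

lemma l33_classOK : classOK l33Enc l33Cert = true := by decide +kernel

lemma l33_nbrsOK : nbrsOK l33Enc l33Cert = true := by decide +kernel

lemma l33_pairOK : pairOK l33Enc l33Cert = true := by decide +kernel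

theorem l33_certOK : certOK l33Enc l33Cert :=
  ⟨l33_classOK, l33_rowsOK, l33_nbrsOK, l33_pairOK, l33_boundOK⟩

end Cfsg.Agent.H67
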