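import Cfsg.Agent.H67.GraphCert
import Cfsg.Agent.Golay.Mathieu

/-!
An encoding of the Mathieu group of degree 11 by tables.
-/

set_option autoImplicit false

namespace Cfsg.Agent.H67

open Cfsg.Agent.Golay

/-- The mask of the fixed point. -/
abbrev m11Fix : ℕ := 0 ||| 2 ^ 0

/-- Validity of a table code. -/
def m11Valid (T : ℕ) : Bool :=
  inStab [squareMask] m11Fix T && (mkTbl 24 (fun i => app T i) == T)

lemma validT_of_inStab {E : List ℕ} {F T : ℕ} (h : inStab E F T = true) : validT T = true := by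
  simp only [inStab, Bool.and_eq_true] at h
  exact validT_of_inM24 h.1.1

lemma mkTbl_congr : ∀ {n : ℕ} {f g : ℕ → ℕ}, (∀ i < n, f i = g i) → mkTbl n f = mkTbl n g
  | 0, _, _, _ => rfl
  | n + 1, f, g, h => by
    simp only [mkTbl]
    rw [h 0 n.succ_pos, mkTbl_congr fun i hi => h (i + 1) (Nat.succ_lt_succ hi)]

lemma mkTbl_app_eq_tblOf {T : ℕ} (h : validT T = true) :
    mkTbl 24 (fun i => app T i) = tblOf (mkPerm T) :=
  mkTbl_congr fun i hi => by rw [idx_mkPerm h, idx_pt i hi]

lemma m11Valid_tblOf {σ : Equiv.Perm GolayPt} (h : σ ∈ stabGrp [squareMask] m11Fix) :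
    m11Valid (tblOf σ) = true := by
  refine (Bool.and_eq_true _ _).mpr ⟨inStab_tblOf (by simp [squareMask]) h, beq_iff_eq.2 ?_⟩
  rw [mkTbl_app_eq_tblOf (validT_tblOf σ), mkPerm_tblOf]

lemma eq_tblOf_of_m11Valid {T : ℕ} (h : m11Valid T = true) : T = tblOf (mkPerm T) := by
  rw [m11Valid, Bool.and_eq_true, beq_iff_eq] at h
  rw [← mkTbl_app_eq_tblOf (validT_of_inStab h.1), h.2]

lemma mem_of_m11Valid {T : ℕ} (h : m11Valid T = true) :
    mkPerm T ∈ stabGrp [squareMask] m11Fix := by
  rw [m11Valid, Bool.and_eq_true] at h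
  exact mem_stabGrp_of_inStab h.1

open Classical in
/-- The element of a code. -/
noncomputable def m11Den (T : ℕ) : ↥(stabGrp [squareMask] m11Fix) :=
  if h : mkPerm T ∈ stabGrp [squareMask] m11Fix then ⟨mkPerm T, h⟩ else 1

lemma val_m11Den {T : ℕ} (h : m11Valid T = true) : (m11Den T).1 = mkPerm T := by
  rw [m11Den, dif_pos (mem_of_m11Valid h)]

lemma tblMul_eq_tblOf {a b : ℕ} (ha : validT a = true) (hb : validT b = true) :
    tblMul a b = tblOf (mkPerm a * mkPerm b) :=
  mkTbl_congr fun i hi => by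
    rw [Equiv.Perm.mul_apply, idx_mkPerm ha, idx_mkPerm hb, idx_pt i hi]

lemma validT_of_m11Valid {T : ℕ} (h : m11Valid T = true) : validT T = true := by
  rw [m11Valid, Bool.and_eq_true] at h
  exact validT_of_inStab h.1

lemma idTbl_eq_tblOf : idTbl = tblOf 1 := by
  refine mkTbl_congr fun i hi => ?_
  rw [Equiv.Perm.one_apply, idx_pt i hi]
  rfl

/-- The encoding. -/
noncomputable def m11Enc : Enc ↥(stabGrp [squareMask] m11Fix) where
  den := m11Den
  mul := tblMul
  valid := m11Valid
  one := idTbl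
  valid_mul a b ha hb := by
    rw [tblMul_eq_tblOf (validT_of_m11Valid ha) (validT_of_m11Valid hb)]
    exact m11Valid_tblOf (mul_mem (mem_of_m11Valid ha) (mem_of_m11Valid hb))
  den_mul a b ha hb := by
    have h1 := tblMul_eq_tblOf (validT_of_m11Valid ha) (validT_of_m11Valid hb)
    have hv : m11Valid (tblMul a b) = true := by
      rw [h1]; exact m11Valid_tblOf (mul_mem (mem_of_m11Valid ha) (mem_of_m11Valid hb))
    apply Subtype.ext
    rw [Subgroup.coe_mul, val_m11Den hv, val_m11Den ha, val_m11Den hb, h1, mkPerm_tblOf]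
  valid_one := by
    rw [idTbl_eq_tblOf]; exact m11Valid_tblOf (one_mem _)
  den_one := by
    apply Subtype.ext
    have hv : m11Valid idTbl = true := by rw [idTbl_eq_tblOf]; exact m11Valid_tblOf (one_mem _)
    rw [val_m11Den hv]; exact idTbl_spec.2
  den_inj a b ha hb h := by
    have := congrArg Subtype.val h
    rw [val_m11Den ha, val_m11Den hb] at this
    rw [eq_tblOf_of_m11Valid ha, eq_tblOf_of_m11Valid hb, this]

end Cfsg.Agent.H67
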