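import Cfsg.Agent.H67.M11Data
import Cfsg.Agent.H67.M11Enc

/-!
Kernel verification of the certificate.
-/

set_option autoImplicit false
set_option maxRecDepth 100000
set_option maxHeartbeats 0

namespace Cfsg.Agent.H67

lemma m11_rowsOK : rowsOK m11Cert = true := by decide +kernel

lemma m11_boundOK : boundOK m11Cert = true := by decide +kernel

lemma m11_classOK : classOK m11Enc m11Cert = true := by decide +kernel

lemma m11_nbrsOK : nbrsOK m11Enc m11Cert = true := by decide +kernel

lemma m11_pairOK : pairOK m11Enc m11Cert = true := by decide +kernel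

theorem m11_certOK : certOK m11Enc m11Cert :=
  ⟨m11_classOK, m11_rowsOK, m11_nbrsOK, m11_pairOK, m11_boundOK⟩

end Cfsg.Agent.H67
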