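import Mathlib
import Cfsg.Agent.H67.FPF
import Cfsg.Agent.S0144

/-!
The binary octahedral group as a fixed point free subgroup of `GL₄(13)`, via `GL₂(𝔽₁₃(√2))`.
-/

set_option autoImplicit false
set_option maxRecDepth 10000

namespace Cfsg.Agent.H67

open Matrix

local instance : Fact (Nat.Prime 13) := ⟨by norm_num⟩

local notation "M₁₃" => Matrix (Fin 4) (Fin 4) (ZMod 13)

/-- A 2x2 matrix over `𝔽₁₃[√2]`. -/
structure Q13 where
  a₀ : ZMod 13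
  a₁ : ZMod 13
  b₀ : ZMod 13
  b₁ : ZMod 13
  c₀ : ZMod 13
  c₁ : ZMod 13
  d₀ : ZMod 13
  d₁ : ZMod 13
deriving DecidableEq

/-- Product. -/
def qmul (x y : Q13) : Q13 :=
  ⟨x.a₀ * y.a₀ + 2 * x.a₁ * y.a₁ + x.b₀ * y.c₀ + 2 * x.b₁ * y.c₁,
    x.a₀ * y.a₁ + x.a₁ * y.a₀ + x.b₀ * y.c₁ + x.b₁ * y.c₀,
    x.a₀ * y.b₀ + 2 * x.a₁ * y.b₁ + x.b₀ * y.d₀ + 2 * x.b₁ * y.d₁,
    x.a₀ * y.b₁ + x.a₁ * y.b₀ + x.b₀ * y.d₁ + x.b₁ * y.d₀,
    x.c₀ * y.a₀ + 2 * x.c₁ * y.a₁ + x.d₀ * y.c₀ + 2 * x.d₁ * y.c₁,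
    x.c₀ * y.a₁ + x.c₁ * y.a₀ + x.d₀ * y.c₁ + x.d₁ * y.c₀,
    x.c₀ * y.b₀ + 2 * x.c₁ * y.b₁ + x.d₀ * y.d₀ + 2 * x.d₁ * y.d₁,
    x.c₀ * y.b₁ + x.c₁ * y.b₀ + x.d₀ * y.d₁ + x.d₁ * y.d₀⟩

/-- Sum. -/
def qadd (x y : Q13) : Q13 :=
  ⟨x.a₀ + y.a₀, x.a₁ + y.a₁, x.b₀ + y.b₀, x.b₁ + y.b₁,
    x.c₀ + y.c₀, x.c₁ + y.c₁, x.d₀ + y.d₀, x.d₁ + y.d₁⟩

/-- Scalar. -/
def qscal (t : ZMod 13) : Q13 := ⟨t, 0, 0, 0, 0, 0, t, 0⟩

/-- The real form. -/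
def toM (x : Q13) : M₁₃ :=
  !![x.a₀, 2 * x.a₁, x.b₀, 2 * x.b₁; x.a₁, x.a₀, x.b₁, x.b₀;
     x.c₀, 2 * x.c₁, x.d₀, 2 * x.d₁; x.c₁, x.c₀, x.d₁, x.d₀]

/-- A generator of order 8. -/
def octA : Q13 := ⟨0, 3, 0, 0, 0, 0, 0, 11⟩
/-- A generator of order 3. -/
def octT : Q13 := ⟨2, 0, 3, 0, 2, 0, 10, 0⟩
/-- An element of order 6. -/
def octS : Q13 := ⟨11, 0, 11, 0, 10, 0, 3, 0⟩

/-- The 48 elements. -/
def octL : List Q13 :=
  [⟨1, 0, 0, 0, 0, 0, 1, 0⟩,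
   ⟨0, 3, 0, 0, 0, 0, 0, 11⟩,
   ⟨2, 0, 3, 0, 2, 0, 10, 0⟩,
   ⟨5, 0, 0, 0, 0, 0, 8, 0⟩,
   ⟨0, 6, 0, 9, 0, 9, 0, 6⟩,
   ⟨0, 6, 0, 7, 0, 6, 0, 6⟩,
   ⟨10, 0, 10, 0, 11, 0, 2, 0⟩,
   ⟨0, 2, 0, 0, 0, 0, 0, 10⟩,
   ⟨10, 0, 2, 0, 3, 0, 2, 0⟩,
   ⟨10, 0, 3, 0, 2, 0, 2, 0⟩,
   ⟨0, 4, 0, 4, 0, 4, 0, 9⟩,
   ⟨10, 0, 11, 0, 10, 0, 2, 0⟩,
   ⟨0, 0, 0, 10, 0, 11, 0, 0⟩,
   ⟨0, 4, 0, 6, 0, 7, 0, 9⟩,
   ⟨12, 0, 0, 0, 0, 0, 12, 0⟩,
   ⟨0, 4, 0, 9, 0, 9, 0, 9⟩,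
   ⟨11, 0, 11, 0, 10, 0, 3, 0⟩,
   ⟨0, 4, 0, 7, 0, 6, 0, 9⟩,
   ⟨0, 0, 8, 0, 8, 0, 0, 0⟩,
   ⟨11, 0, 10, 0, 11, 0, 3, 0⟩,
   ⟨3, 0, 10, 0, 11, 0, 11, 0⟩,
   ⟨0, 0, 12, 0, 1, 0, 0, 0⟩,
   ⟨0, 7, 0, 9, 0, 9, 0, 7⟩,
   ⟨11, 0, 2, 0, 3, 0, 3, 0⟩,
   ⟨0, 7, 0, 7, 0, 6, 0, 7⟩,
   ⟨0, 10, 0, 0, 0, 0, 0, 2⟩,
   ⟨11, 0, 3, 0, 2, 0, 3, 0⟩,
   ⟨0, 0, 0, 11, 0, 10, 0, 0⟩,
   ⟨0, 7, 0, 4, 0, 4, 0, 7⟩,
   ⟨0, 9, 0, 4, 0, 4, 0, 4⟩,
   ⟨3, 0, 2, 0, 3, 0, 11, 0⟩,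
   ⟨0, 7, 0, 6, 0, 7, 0, 7⟩,
   ⟨3, 0, 3, 0, 2, 0, 11, 0⟩,
   ⟨0, 9, 0, 6, 0, 7, 0, 4⟩,
   ⟨0, 0, 5, 0, 5, 0, 0, 0⟩,
   ⟨0, 0, 0, 2, 0, 3, 0, 0⟩,
   ⟨0, 0, 1, 0, 12, 0, 0, 0⟩,
   ⟨3, 0, 11, 0, 10, 0, 11, 0⟩,
   ⟨8, 0, 0, 0, 0, 0, 5, 0⟩,
   ⟨2, 0, 11, 0, 10, 0, 10, 0⟩,
   ⟨0, 9, 0, 9, 0, 9, 0, 4⟩,
   ⟨2, 0, 10, 0, 11, 0, 10, 0⟩,
   ⟨0, 0, 0, 3, 0, 2, 0, 0⟩,
   ⟨0, 9, 0, 7, 0, 6, 0, 4⟩,
   ⟨2, 0, 2, 0, 3, 0, 10, 0⟩,
   ⟨0, 11, 0, 0, 0, 0, 0, 3⟩,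
   ⟨0, 6, 0, 4, 0, 4, 0, 6⟩,
   ⟨0, 6, 0, 6, 0, 7, 0, 6⟩]

theorem toM_mul (x y : Q13) : toM (qmul x y) = toM x * toM y := by
  ext i j
  fin_cases i <;> fin_cases j <;> simp [toM, qmul, Matrix.mul_apply, Fin.sum_univ_four] <;> ring

theorem toM_add (x y : Q13) : toM (qadd x y) = toM x + toM y := by
  ext i j
  fin_cases i <;> fin_cases j <;> simp [toM, qadd] <;> ring

theorem toM_scal (t : ZMod 13) : toM (qscal t) = t • 1 := by
  ext i j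
  fin_cases i <;> fin_cases j <;> simp [toM, qscal]

theorem toM_injective : Function.Injective toM := by
  intro x y h
  have e := fun i j => congrFun (congrFun h i) j
  have := e 0 0; have := e 1 0; have := e 0 2; have := e 1 2
  have := e 2 0; have := e 3 0; have := e 2 2; have := e 3 2
  cases x; cases y
  simp [toM] at *
  simp [*]

theorem octL_one : qscal 1 ∈ octL := by decide +kernel
theorem octL_step : ∀ x ∈ octL, qmul x octA ∈ octL ∧ qmul x octT ∈ octL := by decide +kernel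
theorem octL_spec : ∀ x ∈ octL, x = qscal 1 ∨ x = qscal (-1) ∨ qmul x x = qscal (-1) ∨
    qmul (qmul x x) (qmul x x) = qscal (-1) ∨ qmul x (qmul x x) = qscal (-1) ∨
    qadd (qadd (qmul x x) x) (qscal 1) = qscal 0 := by
  decide +kernel
theorem octA_pow : qmul (qmul (qmul octA octA) (qmul octA octA)) (qmul (qmul octA octA) (qmul octA octA))
    = qscal 1 ∧ qmul (qmul octA octA) (qmul octA octA) ≠ qscal 1 := by decide +kernel
theorem octT_pow : qmul octT (qmul octT octT) = qscal 1 := by decide +kernel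
theorem octS_pow : octS ∈ octL ∧ qmul octS (qmul octS octS) = qscal (-1) ∧ qmul octS octS ≠ qscal 1 := by
  decide +kernel

theorem toM_one : toM (qscal 1) = 1 := by rw [toM_scal, one_smul]
theorem toM_neg_one : toM (qscal (-1)) = -1 := by rw [toM_scal, neg_one_smul]

theorem toM_A_pow : toM octA ^ 8 = 1 := by
  rw [← toM_one, ← octA_pow.1]; simp only [toM_mul]; noncomm_ring

theorem toM_T_pow : toM octT ^ 3 = 1 := by
  rw [← toM_one, ← octT_pow]; simp only [toM_mul]; noncomm_ring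

/-- `octA` as a unit. -/
noncomputable def octAU : GL (Fin 4) (ZMod 13) :=
  Units.mkOfMulEqOne (toM octA) (toM octA ^ 7) (by rw [← pow_succ', toM_A_pow])
/-- `octT` as a unit. -/
noncomputable def octTU : GL (Fin 4) (ZMod 13) :=
  Units.mkOfMulEqOne (toM octT) (toM octT ^ 2) (by rw [← pow_succ', toM_T_pow])

/-- The binary octahedral group. -/
noncomputable def Oct : Subgroup (GL (Fin 4) (ZMod 13)) := Subgroup.closure {octAU, octTU}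

theorem mem_octL {g : GL (Fin 4) (ZMod 13)} (h : g ∈ Oct) : ∃ x ∈ octL, g.val = toM x := by
  rw [Oct, ← Subgroup.mem_toSubmonoid, Subgroup.closure_toSubmonoid_of_finite] at h
  induction h using Submonoid.closure_induction_right with
  | one => exact ⟨_, octL_one, toM_one.symm⟩
  | mul_right z _ y hy ih =>
    obtain ⟨x, hx, hz⟩ := ih
    rcases hy with rfl | rfl
    · exact ⟨_, (octL_step _ hx).1, by rw [toM_mul, Units.val_mul, hz]; rfl⟩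
    · exact ⟨_, (octL_step _ hx).2, by rw [toM_mul, Units.val_mul, hz]; rfl⟩

theorem Oct_spec (c : Oct) (hc : c ≠ 1) :
    IsUnit ((c : GL (Fin 4) (ZMod 13)).val - 1) ∧ (orderOf c ∣ 8 ∨ orderOf c ∣ 6) := by
  obtain ⟨x, hx, hM⟩ := mem_octL c.2
  set X := toM x with hX
  have lift : ∀ k : ℕ, X ^ k = 1 → orderOf c ∣ k := fun k hk =>
    orderOf_dvd_of_pow_eq_one (Subtype.ext (Units.ext (by simpa [hM] using hk)))
  have two : IsUnit (-2 : M₁₃) := by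
    have h2 : IsUnit (-2 : ZMod 13) := isUnit_iff_ne_zero.2 (by decide)
    simpa [map_ofNat] using h2.map (algebraMap (ZMod 13) M₁₃)
  have factor : ∀ (m : ℕ), X ^ m = -1 → IsUnit (X - 1) := by
    intro m hm
    have h1 := mul_geom_sum X m
    rw [hm] at h1
    have h2 : IsUnit ((X - 1) * ∑ i ∈ Finset.range m, X ^ i) := by
      rw [h1, show (-1 : M₁₃) - 1 = -2 by rw [← one_add_one_eq_two]; abel]; exact two
    rw [Matrix.isUnit_iff_isUnit_det, det_mul, IsUnit.mul_iff] at h2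
    exact (Matrix.isUnit_iff_isUnit_det _).2 h2.1
  rw [hM]
  rcases octL_spec x hx with h | h | h | h | h | h
  · exact absurd (Subtype.ext (Units.ext (by rw [hM, hX, h, toM_one]; rfl))) hc
  · have h' : X ^ 1 = -1 := by rw [pow_one, hX, h, toM_neg_one]
    exact ⟨factor 1 h', Or.inl (lift 8 (by rw [show 8 = 1 * 8 from rfl, pow_mul, h']; exact Even.neg_one_pow (by decide)))⟩
  · have h' : X ^ 2 = -1 := by rw [sq, hX, ← toM_mul, h, toM_neg_one]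
    exact ⟨factor 2 h', Or.inl (lift 8 (by rw [show 8 = 2 * 4 from rfl, pow_mul, h']; exact Even.neg_one_pow (by decide)))⟩
  · have h' : X ^ 4 = -1 := by
      rw [hX, ← toM_neg_one, ← h, toM_mul, toM_mul]; noncomm_ring
    exact ⟨factor 4 h', Or.inl (lift 8 (by rw [show 8 = 4 * 2 from rfl, pow_mul, h']; exact Even.neg_one_pow (by decide)))⟩
  · have h' : X ^ 3 = -1 := by
      rw [hX, ← toM_neg_one, ← h, toM_mul, toM_mul]; noncomm_ring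
    exact ⟨factor 3 h', Or.inr (lift 6 (by rw [show 6 = 3 * 2 from rfl, pow_mul, h']; exact Even.neg_one_pow (by decide)))⟩
  · have h' := congrArg toM h
    rw [toM_add, toM_add, toM_mul, toM_one, toM_scal, zero_smul, ← hX] at h'
    have h3 : X ^ 3 = 1 := by
      rw [← sub_eq_zero]
      calc X ^ 3 - 1 = (X - 1) * (X * X + X + 1) := by noncomm_ring
        _ = 0 := by rw [h', mul_zero]
    refine ⟨?_, Or.inr (lift 6 (by rw [show 6 = 3 * 2 from rfl, pow_mul, h3, one_pow]))⟩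
    have h5 : (X - 1) * (X + 2) = -3 := by
      rw [show (2 : M₁₃) = 1 + 1 by norm_num, show (3 : M₁₃) = 1 + 1 + 1 by norm_num]
      calc (X - 1) * (X + (1 + 1)) = (X * X + X + 1) - (1 + 1 + 1) := by noncomm_ring
        _ = -(1 + 1 + 1) := by rw [h', zero_sub]
    have three : IsUnit (-3 : M₁₃) := by
      have h2 : IsUnit (-3 : ZMod 13) := isUnit_iff_ne_zero.2 (by decide)
      simpa [map_ofNat] using h2.map (algebraMap (ZMod 13) M₁₃)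
    rw [← h5, Matrix.isUnit_iff_isUnit_det, det_mul, IsUnit.mul_iff] at three
    exact (Matrix.isUnit_iff_isUnit_det _).2 three.1

theorem Oct_isSolvable : Group.IsSolvable Oct := by
  have hall : ∀ r : ℕ, r.Prime → r ∣ Nat.card Oct → r = 2 ∨ r = 3 := by
    intro r hr hd
    haveI := Fact.mk hr
    obtain ⟨c, hc⟩ := exists_prime_orderOf_dvd_card' (G := Oct) r hd
    have hne : c ≠ 1 := fun h => hr.one_lt.ne' (by rw [← hc, h, orderOf_one])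
    rcases (Oct_spec c hne).2 with h | h <;> rw [hc] at h <;>
      have := Nat.le_of_dvd (by norm_num) h <;> have := hr.two_le <;>
      interval_cases r <;> norm_num at *
  set N := Nat.card Oct with hN
  have hN0 : N ≠ 0 := Nat.card_pos.ne'
  refine Cfsg.Agent.S0144.result 2 3 (N.factorization 2) (N.factorization 3) Nat.prime_two
    Nat.prime_three ?_
  refine Nat.eq_of_factorization_eq hN0 (by positivity) fun r => ?_
  rw [Nat.factorization_mul (by positivity) (by positivity), Finsupp.add_apply,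
    Nat.Prime.factorization_pow Nat.prime_two, Nat.Prime.factorization_pow Nat.prime_three]
  by_cases h2 : r = 2
  · subst h2; simp [N]
  by_cases h3 : r = 3
  · subst h3; simp [N]
  rw [Finsupp.single_eq_of_ne h2, Finsupp.single_eq_of_ne h3, add_zero]
  by_cases hr : r.Prime
  · exact Nat.factorization_eq_zero_of_not_dvd fun hd => by rcases hall r hr hd with h | h <;> contradiction
  · exact Nat.factorization_eq_zero_of_not_prime _ hr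

theorem orderOf_octA : orderOf octAU = 8 := by
  haveI : Fact (Nat.Prime 2) := ⟨Nat.prime_two⟩
  rw [← orderOf_units]
  show orderOf (toM octA) = 2 ^ (2 + 1)
  have h4 : ¬ toM octA ^ (2 ^ 2) = 1 := by
    intro h
    apply octA_pow.2
    apply toM_injective
    rw [toM_mul, toM_mul, toM_one, ← h, show (2 : ℕ) ^ 2 = 4 from rfl]
    noncomm_ring
  exact orderOf_eq_prime_pow h4 toM_A_pow

theorem exists_orderOf_six : ∃ g : GL (Fin 4) (ZMod 13), g ∈ Oct ∧ orderOf g = 6 := by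
  have hA : octAU ∈ Oct := Subgroup.subset_closure (by simp)
  have hT : octTU ∈ Oct := Subgroup.subset_closure (by simp)
  have h4 : (octAU ^ 4).val = -1 := by
    rw [Units.val_pow_eq_pow_val]
    show toM octA ^ 4 = -1
    have hneg : qmul (qmul octA octA) (qmul octA octA) = qscal (-1) := by decide +kernel
    rw [← toM_neg_one, ← hneg, toM_mul, toM_mul]
    noncomm_ring
  have e4 : orderOf (octAU ^ 4) = 2 := by
    rw [orderOf_pow_of_dvd (by norm_num) (by rw [orderOf_octA]; norm_num), orderOf_octA]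
  have eT : orderOf octTU = 3 := by
    haveI : Fact (Nat.Prime 3) := ⟨Nat.prime_three⟩
    rw [← orderOf_units]
    refine orderOf_eq_prime toM_T_pow ?_
    intro h
    have h' : octT = qscal 1 := toM_injective (h.trans toM_one.symm)
    revert h'
    decide +kernel
  refine ⟨octAU ^ 4 * octTU, Oct.mul_mem (Oct.pow_mem hA 4) hT, ?_⟩
  have hc : Commute (octAU ^ 4) octTU := Units.ext (by
    rw [Units.val_mul, Units.val_mul, h4]; simp)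
  rw [hc.orderOf_mul_eq_mul_orderOf_of_coprime (by rw [e4, eT]; norm_num), e4, eT]

end Cfsg.Agent.H67
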