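import Mathlib
import Cfsg.Agent.H67.TwoByTwo
import Cfsg.Agent.H67.FPF

/-!
`PGL₂(2)`, `PGL₂(3)` have nontrivial solvable normal subgroups; `PGL₂(9)` is isospectral to the
Frobenius group `3⁴ : (5 : 8)`.
-/

set_option autoImplicit false

namespace Cfsg.Agent.H67

open Matrix

/-- The distinguished elements: trace `τ` and determinant 1, or scalar. -/
def Dist {F : Type*} [Field F] (τ : F) (M : Matrix (Fin 2) (Fin 2) F) : Prop :=
  M = M 0 0 • 1 ∨ (M.trace = τ ∧ M.det = 1)

instance {F : Type*} [Field F] [DecidableEq F] (τ : F) : DecidablePred (Dist τ) :=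
  fun M => by unfold Dist; infer_instance

theorem small_pgl_core {F : Type*} [Field F] [Fintype F] (τ : F)
    (hclosed : ∀ a b : Matrix (Fin 2) (Fin 2) F, Dist τ a → Dist τ b → Dist τ (a * b))
    (hcomm : ∀ a b : Matrix (Fin 2) (Fin 2) F, Dist τ a → Dist τ b → a * b = b * a ∨ a * b = -(b * a))
    (hex : ∃ a : Matrix (Fin 2) (Fin 2) F, a.det = 1 ∧ a.trace = τ ∧ a ≠ a 0 0 • 1) :
    ∃ K : Subgroup (GL (Fin 2) F ⧸ Subgroup.center (GL (Fin 2) F)),
      K.Normal ∧ K ≠ ⊥ ∧ Group.IsSolvable K := by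
  have hone : Dist τ (1 : Matrix (Fin 2) (Fin 2) F) := Or.inl (by simp)
  have hpow : ∀ (g : GL (Fin 2) F), Dist τ g.val → ∀ k : ℕ, Dist τ (g ^ k).val := by
    intro g hg k
    induction k with
    | zero => exact hone
    | succ k ih => rw [pow_succ]; exact hclosed _ _ ih hg
  let V : Subgroup (GL (Fin 2) F) :=
    { carrier := {g | Dist τ g.val}
      mul_mem' := fun {a b} ha hb => hclosed _ _ ha hb
      one_mem' := hone
      inv_mem' := fun {a} ha => by
        have h : a⁻¹ = a ^ (orderOf a - 1) := by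
          rw [inv_eq_iff_mul_eq_one, ← pow_succ', Nat.sub_add_cancel (orderOf_pos a), pow_orderOf_eq_one]
        show Dist τ (a⁻¹).val
        rw [h]
        exact hpow a ha _ }
  have hVn : V.Normal := ⟨fun a ha g => by
    show Dist τ (g * a * g⁻¹).val
    have h1 : (g * a * g⁻¹).val.trace = a.val.trace := by
      rw [Units.val_mul, Units.val_mul, Matrix.trace_mul_cycle, ← Units.val_mul, inv_mul_cancel,
        Units.val_one, one_mul]
    have h2 : (g * a * g⁻¹).val.det = a.val.det := by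
      rw [Units.val_mul, Units.val_mul, det_mul, det_mul, mul_comm (g.val.det), mul_assoc, ← det_mul,
        ← Units.val_mul, mul_inv_cancel, Units.val_one, det_one, mul_one]
    rcases ha with ha | ⟨ha, hd⟩
    · have h3 : (g * a * g⁻¹).val = a.val 0 0 • 1 := by
        rw [Units.val_mul, Units.val_mul, ha, mul_smul_comm, mul_one, smul_mul_assoc, ← Units.val_mul,
          mul_inv_cancel, Units.val_one]
        simp
      left
      rw [h3]
      simp
    · exact Or.inr ⟨h1.trans ha, h2.trans hd⟩⟩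
  refine ⟨V.map (QuotientGroup.mk' _), hVn.map _ (QuotientGroup.mk'_surjective _), ?_, ?_⟩
  · obtain ⟨a, had, hat, hane⟩ := hex
    intro h
    let g : GL (Fin 2) F := Matrix.GeneralLinearGroup.mkOfDetNeZero a (by rw [had]; exact one_ne_zero)
    have hg : g ∈ V := Or.inr ⟨hat, had⟩
    have : QuotientGroup.mk' (Subgroup.center (GL (Fin 2) F)) g ∈ V.map (QuotientGroup.mk' _) :=
      Subgroup.mem_map_of_mem _ hg
    rw [h, Subgroup.mem_bot, QuotientGroup.mk'_apply, QuotientGroup.eq_one_iff, mem_center_GL_two] at this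
    obtain ⟨c, hc⟩ := this
    apply hane
    have : a = c • 1 := hc
    rw [this]
    simp
  · refine Group.isSolvable_of_comm ?_
    rintro ⟨_, a, ha, rfl⟩ ⟨_, b, hb, rfl⟩
    apply Subtype.ext
    show QuotientGroup.mk' _ a * QuotientGroup.mk' _ b = QuotientGroup.mk' _ b * QuotientGroup.mk' _ a
    rw [← map_mul, ← map_mul, QuotientGroup.mk'_apply, QuotientGroup.mk'_apply, QuotientGroup.eq,
      mem_center_GL_two]
    rcases hcomm _ _ ha hb with h | h
    · refine ⟨1, ?_⟩
      rw [show a * b = b * a from Units.ext h, inv_mul_cancel, one_smul]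
      rfl
    · refine ⟨-1, ?_⟩
      have hba : (b * a).val = -(a * b).val := by
        rw [Units.val_mul, Units.val_mul, h, neg_neg]
      rw [Units.val_mul, hba, mul_neg, ← Units.val_mul, inv_mul_cancel, Units.val_one, neg_one_smul]

theorem dist_transport {F E : Type*} [Field F] [Field E] (e : F ≃+* E) (τ : F)
    (a : Matrix (Fin 2) (Fin 2) F) : Dist (e τ) (e.toRingHom.mapMatrix a) ↔ Dist τ a := by
  have hinj := (e.toRingHom.mapMatrix : Matrix (Fin 2) (Fin 2) F →+* _)
  unfold Dist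
  refine or_congr ?_ (and_congr ?_ ?_)
  · constructor
    · intro h
      apply Matrix.map_injective e.injective
      refine (h.trans ?_)
      ext i j; fin_cases i <;> fin_cases j <;> simp
    · intro h
      conv_lhs => rw [h]
      ext i j; fin_cases i <;> fin_cases j <;> simp
  · rw [show (e.toRingHom.mapMatrix a).trace = e a.trace from (AddMonoidHom.map_trace e.toAddMonoidHom a).symm]
    exact e.injective.eq_iff
  · rw [← e.toRingHom.map_det]
    show e a.det = 1 ↔ a.det = 1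
    exact map_eq_one_iff e e.injective

theorem small_pgl {F : Type*} [Field F] [Fintype F] (h : Fintype.card F = 2 ∨ Fintype.card F = 3) :
    ∃ K : Subgroup (GL (Fin 2) F ⧸ Subgroup.center (GL (Fin 2) F)),
      K.Normal ∧ K ≠ ⊥ ∧ Group.IsSolvable K := by
  obtain ⟨p, hp, hpF, τ₀, h1, h2, a₀, hd, ht, hne⟩ :
      ∃ (p : ℕ) (_ : Fact p.Prime), Fintype.card F = p ∧ ∃ τ₀ : ZMod p,
        (∀ a b : Matrix (Fin 2) (Fin 2) (ZMod p), Dist τ₀ a → Dist τ₀ b → Dist τ₀ (a * b)) ∧
        (∀ a b : Matrix (Fin 2) (Fin 2) (ZMod p), Dist τ₀ a → Dist τ₀ b → a * b = b * a ∨ a * b = -(b * a)) ∧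
        ∃ a : Matrix (Fin 2) (Fin 2) (ZMod p), a.det = 1 ∧ a.trace = τ₀ ∧ a ≠ a 0 0 • 1 := by
    rcases h with h | h
    · exact ⟨2, ⟨Nat.prime_two⟩, h, 1, by decide +kernel, by decide +kernel, !![0, 1; 1, 1], by decide +kernel⟩
    · exact ⟨3, ⟨Nat.prime_three⟩, h, 0, by decide +kernel, by decide +kernel, !![0, 1; -1, 0], by decide +kernel⟩
  haveI : CharP F p := charP_of_card_eq_prime hpF
  let e : ZMod p ≃+* F := ZMod.ringEquivOfPrime F hp.out hpF
  have surj : ∀ x : Matrix (Fin 2) (Fin 2) F, ∃ y, e.toRingHom.mapMatrix y = x := fun x =>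
    ⟨x.map e.symm, by ext i j; simp⟩
  refine small_pgl_core (e τ₀) ?_ ?_ ?_
  · intro a b ha hb
    obtain ⟨a, rfl⟩ := surj a
    obtain ⟨b, rfl⟩ := surj b
    rw [dist_transport] at ha hb
    rw [← map_mul, dist_transport]
    exact h1 a b ha hb
  · intro a b ha hb
    obtain ⟨a, rfl⟩ := surj a
    obtain ⟨b, rfl⟩ := surj b
    rw [dist_transport] at ha hb
    rcases h2 a b ha hb with hh | hh
    · left; rw [← map_mul, ← map_mul, hh]
    · right; rw [← map_mul, ← map_mul, hh, map_neg]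
  · refine ⟨e.toRingHom.mapMatrix a₀, ?_, ?_, ?_⟩
    · rw [← RingHom.map_det, hd, map_one]
    · rw [show (e.toRingHom.mapMatrix a₀).trace = e a₀.trace from
        (AddMonoidHom.map_trace e.toAddMonoidHom a₀).symm, ht]
    · intro hh
      apply hne
      apply Matrix.map_injective e.injective
      refine (hh.trans ?_)
      ext i j; fin_cases i <;> fin_cases j <;> simp

section Nine

local notation "M₄" => Matrix (Fin 4) (Fin 4) (ZMod 3)

/-- An element of order 5. -/
def mx : M₄ := !![0, 0, 0, 2; 1, 0, 0, 2; 0, 1, 0, 2; 0, 0, 1, 2]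
/-- An element of order 8 normalizing `⟨mx⟩`. -/
def my : M₄ := !![0, 1, 1, 0; 0, 2, 1, 1; 1, 0, 1, 2; 2, 0, 2, 0]

theorem mx_pow : mx ^ 5 = 1 := by decide +kernel
theorem my_pow : my ^ 8 = 1 := by decide +kernel
theorem my_mx : my * mx = mx ^ 3 * my := by decide +kernel

theorem table : ∀ (i : Fin 5) (j : Fin 8), i.val = 0 ∧ j.val = 0 ∨
    ((mx ^ i.val * my ^ j.val - 1).det ≠ 0 ∧
      ((mx ^ i.val * my ^ j.val) ^ 8 = 1 ∨ (mx ^ i.val * my ^ j.val) ^ 10 = 1)) := by
  decide +kernel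

/-- `5 : 8` as a subgroup of `GL₄(3)`. -/
noncomputable def C40 : Subgroup (GL (Fin 4) (ZMod 3)) where
  carrier := {g | ∃ i j : ℕ, g.val = mx ^ i * my ^ j}
  one_mem' := ⟨0, 0, by simp⟩
  mul_mem' := by
    rintro a b ⟨i, j, ha⟩ ⟨k, l, hb⟩
    have h1 : ∀ k : ℕ, my * mx ^ k = mx ^ (3 * k) * my := by
      intro k
      induction k with
      | zero => simp
      | succ k ih => rw [pow_succ, ← mul_assoc, ih, mul_assoc, my_mx, ← mul_assoc, ← pow_add]; congr 2
    have h2 : ∀ j k : ℕ, my ^ j * mx ^ k = mx ^ (3 ^ j * k) * my ^ j := by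
      intro j
      induction j with
      | zero => intro k; simp
      | succ j ih =>
        intro k
        rw [pow_succ, mul_assoc, h1, ← mul_assoc, ih, mul_assoc, ← pow_succ]
        congr 2
        ring
    refine ⟨i + 3 ^ j * k, j + l, ?_⟩
    rw [Units.val_mul, ha, hb, mul_assoc, ← mul_assoc (my ^ j), h2, pow_add, pow_add]
    simp only [mul_assoc]
  inv_mem' := by
    rintro a ⟨i, j, ha⟩
    have hm : ∀ k : ℕ, ∃ i j : ℕ, (a ^ k).val = mx ^ i * my ^ j := by
      intro k
      induction k with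
      | zero => exact ⟨0, 0, by simp⟩
      | succ k ih =>
        obtain ⟨i', j', h'⟩ := ih
        have h1 : ∀ j k : ℕ, my ^ j * mx ^ k = mx ^ (3 ^ j * k) * my ^ j := by
          have h0 : ∀ k : ℕ, my * mx ^ k = mx ^ (3 * k) * my := by
            intro k
            induction k with
            | zero => simp
            | succ k ih => rw [pow_succ, ← mul_assoc, ih, mul_assoc, my_mx, ← mul_assoc, ← pow_add]; congr 2
          intro j
          induction j with
          | zero => intro k; simp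
          | succ j ih =>
            intro k
            rw [pow_succ, mul_assoc, h0, ← mul_assoc, ih, mul_assoc, ← pow_succ]
            congr 2
            ring
        refine ⟨i' + 3 ^ j' * i, j' + j, ?_⟩
        rw [pow_succ, Units.val_mul, h', ha, mul_assoc, ← mul_assoc (my ^ j'), h1, pow_add, pow_add]
        simp only [mul_assoc]
    have h : a⁻¹ = a ^ (orderOf a - 1) := by
      rw [inv_eq_iff_mul_eq_one, ← pow_succ', Nat.sub_add_cancel (orderOf_pos a), pow_orderOf_eq_one]
    rw [h]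
    exact hm _

theorem C40_spec (c : C40) (hc : c ≠ 1) :
    IsUnit ((c : GL (Fin 4) (ZMod 3)).val - 1) ∧ (orderOf c ∣ 8 ∨ orderOf c ∣ 10) := by
  obtain ⟨i, j, h⟩ := c.2
  have hred : (c : GL (Fin 4) (ZMod 3)).val = mx ^ (i % 5) * my ^ (j % 8) := by
    rw [h, ← pow_eq_pow_mod _ mx_pow, ← pow_eq_pow_mod _ my_pow]
  rcases table ⟨i % 5, Nat.mod_lt _ (by norm_num)⟩ ⟨j % 8, Nat.mod_lt _ (by norm_num)⟩ with ⟨h1, h2⟩ | ⟨hd, ho⟩
  · exfalso
    apply hc
    apply Subtype.ext
    apply Units.ext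
    rw [hred, show i % 5 = 0 from h1, show j % 8 = 0 from h2]
    simp
  · simp only at hd ho
    rw [← hred] at hd ho
    refine ⟨(Matrix.isUnit_iff_isUnit_det _).2 (isUnit_iff_ne_zero.2 hd), ?_⟩
    rcases ho with ho | ho
    · refine Or.inl (orderOf_dvd_of_pow_eq_one (Subtype.ext (Units.ext ?_)))
      simpa using ho
    · refine Or.inr (orderOf_dvd_of_pow_eq_one (Subtype.ext (Units.ext ?_)))
      simpa using ho

/-- `3⁴ : (5 : 8)`. -/
abbrev Frob9 : Type := Affine C40

theorem frob9_spectrum :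
    Set.range (orderOf : Frob9 → ℕ) = {n | n ∣ 3 ∨ n ∣ 8 ∨ n ∣ 10} := by
  have hfin : Finite Frob9 := finite_affine C40
  have hord : ∀ x : Frob9, orderOf x ∣ 3 ∨ orderOf x ∣ 8 ∨ orderOf x ∣ 10 := by
    intro x
    rcases orderOf_affine (C := C40) (fun c hc => (C40_spec c hc).1) x with ⟨-, h⟩ | ⟨h1, h⟩
    · rw [ringChar.eq (ZMod 3) 3] at h
      exact Or.inl h
    · rw [h]
      exact Or.inr (C40_spec _ h1).2
  let y : GL (Fin 4) (ZMod 3) := Units.mkOfMulEqOne my (my ^ 7) (by rw [← pow_succ', my_pow])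
  let x : GL (Fin 4) (ZMod 3) := Units.mkOfMulEqOne mx (mx ^ 4) (by rw [← pow_succ', mx_pow])
  have hy : y ∈ C40 := ⟨0, 1, by simp [y]⟩
  have hx : x ∈ C40 := ⟨1, 0, by simp [x]⟩
  have hxy : x * y ^ 4 ∈ C40 := C40.mul_mem hx (C40.pow_mem hy 4)
  have o8 : orderOf (⟨y, hy⟩ : C40) = 8 := by
    rw [← Subgroup.orderOf_coe, ← orderOf_units]
    haveI : Fact (Nat.Prime 2) := ⟨Nat.prime_two⟩
    show orderOf my = 2 ^ (2 + 1)
    exact orderOf_eq_prime_pow (by decide +kernel) (by decide +kernel)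
  have o10 : orderOf (⟨x * y ^ 4, hxy⟩ : C40) = 10 := by
    rw [← Subgroup.orderOf_coe, ← orderOf_units]
    show orderOf (mx * my ^ 4) = 10
    have h10 : (mx * my ^ 4) ^ 10 = 1 := by decide +kernel
    have h5 : (mx * my ^ 4) ^ 5 ≠ 1 := by decide +kernel
    have h2 : (mx * my ^ 4) ^ 2 ≠ 1 := by decide +kernel
    have hm : orderOf (mx * my ^ 4) ∈ (10 : ℕ).divisors :=
      Nat.mem_divisors.2 ⟨orderOf_dvd_of_pow_eq_one h10, by norm_num⟩
    rw [show (10 : ℕ).divisors = {1, 2, 5, 10} by decide] at hm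
    simp only [Finset.mem_insert, Finset.mem_singleton] at hm
    rcases hm with hm | hm | hm | hm
    · exact absurd (orderOf_dvd_iff_pow_eq_one.1 (hm ▸ one_dvd 2)) h2
    · exact absurd (orderOf_dvd_iff_pow_eq_one.1 (dvd_of_eq hm)) h2
    · exact absurd (orderOf_dvd_iff_pow_eq_one.1 (dvd_of_eq hm)) h5
    · exact hm
  have o3 : ∃ z : Frob9, orderOf z = 3 := by
    refine ⟨SemidirectProduct.inl (Multiplicative.ofAdd (fun _ => (1 : ZMod 3))), ?_⟩
    haveI : Fact (Nat.Prime 3) := ⟨Nat.prime_three⟩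
    apply orderOf_eq_prime
    · rw [← map_pow, show (Multiplicative.ofAdd (fun _ : Fin 4 => (1 : ZMod 3))) ^ 3 = 1 from Multiplicative.toAdd.injective (funext fun _ => by show 3 • (1 : ZMod 3) = 0; rw [nsmul_one]; exact ZMod.natCast_self 3), map_one]
    · rw [← map_one (SemidirectProduct.inl (φ := vecAct C40)), Ne, SemidirectProduct.inl_inj]
      intro h
      have h1 : (1 : ZMod 3) = 0 := congrFun (congrArg Multiplicative.toAdd h) 0
      exact one_ne_zero h1
  have r8 : ∃ z : Frob9, orderOf z = 8 :=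
    ⟨SemidirectProduct.inr ⟨y, hy⟩, (orderOf_injective _ SemidirectProduct.inr_injective _).trans o8⟩
  have r10 : ∃ z : Frob9, orderOf z = 10 :=
    ⟨SemidirectProduct.inr ⟨x * y ^ 4, hxy⟩, (orderOf_injective _ SemidirectProduct.inr_injective _).trans o10⟩
  ext n
  constructor
  · rintro ⟨z, rfl⟩; exact hord z
  · rintro (hn | hn | hn)
    · obtain ⟨z, hz⟩ := o3; exact ⟨_, orderOf_pow_orderOf_div (orderOf_pos z).ne' (hn.trans (dvd_of_eq hz.symm))⟩
    · obtain ⟨z, hz⟩ := r8; exact ⟨_, orderOf_pow_orderOf_div (orderOf_pos z).ne' (hn.trans (dvd_of_eq hz.symm))⟩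
    · obtain ⟨z, hz⟩ := r10; exact ⟨_, orderOf_pow_orderOf_div (orderOf_pos z).ne' (hn.trans (dvd_of_eq hz.symm))⟩

end Nine

end Cfsg.Agent.H67
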