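import Cfsg.Agent.H67.IsolatedPrime
import Cfsg.Agent.H69.M11.Tools
import Cfsg.Agent.Frobenius.Basic
import Cfsg.Agent.H28.ZassPSL
import Cfsg.Agent.H36.EvenPSL
import Cfsg.Agent.H27.PermFamily

/-!
`PSL(2,q)` from its order and the fact that every element of order divisible by `p` has order `p`.
-/

set_option autoImplicit false
set_option linter.unusedSectionVars false
set_option linter.style.haveILetI false

namespace Cfsg.Agent.H67.PSLTwoByOrder

open MulAction IsolatedPrime

section Free

variable {G : Type*} [Group G] [Finite G] {p : ℕ} [hp : Fact p.Prime]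

theorem free_sylow (hE : Isolated p G) {A B : Sylow p G} (hBA : B ≠ A) {u : G}
    (hu : u ∈ (A : Subgroup G)) (h : u • B = B) : u = 1 := by
  have hu' : u ^ p ^ 1 = 1 := by rw [pow_one]; exact pow_eq_one_of_mem hE A.2 hu
  have hmem : u ∈ (A : Subgroup G) ⊓ (B : Subgroup G) :=
    ⟨hu, H69.M11.mem_sylow_of_smul_eq hu' B h⟩
  rwa [inf_eq_bot hE hBA.symm, Subgroup.mem_bot] at hmem

/-- A `p'`-group normalising a `p`-group acts freely on its nonidentity elements. -/
theorem card_dvd_sub_one (hE : Isolated p G) {Z K : Subgroup G} (hZ : IsPGroup p Z)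
    (hK : ¬ p ∣ Nat.card K) (hKZ : K ≤ Subgroup.normalizer (Z : Set G)) :
    Nat.card K ∣ Nat.card Z - 1 := by
  let X := {u : G // u ∈ Z ∧ u ≠ 1}
  letI : MulAction K X :=
    { smul := fun k u => ⟨(k : G) * u.1 * (k : G)⁻¹,
        (Subgroup.mem_normalizer_iff.1 (hKZ k.2) _).1 u.2.1,
        fun h => u.2.2 (conj_eq_one_iff.1 h)⟩
      one_smul := fun u => Subtype.ext (show ((1 : K) : G) * u.1 * ((1 : K) : G)⁻¹ = u.1 by simp)
      mul_smul := fun k l u => Subtype.ext (show ((k * l : K) : G) * u.1 * ((k * l : K) : G)⁻¹ =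
        (k : G) * ((l : G) * u.1 * (l : G)⁻¹) * (k : G)⁻¹ by simp [mul_assoc]) }
  have h := Frobenius.dvd_card_of_free K (X := X) (fun k u hku => by
    have h1 : (k : G) * u.1 * (k : G)⁻¹ = u.1 := congrArg Subtype.val hku
    have hc : Commute u.1 (k : G) := (mul_inv_eq_iff_eq_mul.1 h1).symm
    refine Subtype.ext (eq_one_of_commute hE (orderOf_of_mem hE hZ u.2.1 u.2.2) hc fun hd => hK ?_)
    rw [Subgroup.orderOf_coe] at hd
    exact hd.trans (orderOf_dvd_natCard k))
  have hX : Nat.card X = Nat.card Z - 1 := by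
    show Nat.card ↥((Z : Set G) \ {1} : Set G) = _
    rw [Nat.card_coe_set_eq, Set.ncard_sdiff_singleton_of_mem (one_mem Z), ← Nat.card_coe_set_eq]
    rfl
  rwa [hX] at h

end Free

variable {G : Type*} [Group G] [Finite G] {p q n : ℕ} [hp : Fact p.Prime]

/-- The structure forced by the order. -/
structure Data (G : Type*) [Group G] (p q e : ℕ) : Prop where
  sylow : ∀ A : Sylow p G, Nat.card (A : Subgroup G) = q
  count : Nat.card (Sylow p G) = q + 1
  trans : ∀ A B C : Sylow p G, B ≠ A → C ≠ A → ∃ u ∈ (A : Subgroup G), u • B = C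
  pair : ∀ A B : Sylow p G, B ≠ A → Nat.card ↥(stabilizer G A ⊓ stabilizer G B) = e
  free : ∀ A B : Sylow p G, B ≠ A → ¬ p ∣ Nat.card ↥(stabilizer G A ⊓ stabilizer G B)

theorem exists_data (hq : q = p ^ n) (hn : 1 ≤ n) (h4 : 4 ≤ q) {d e : ℕ} (hd1 : 1 ≤ d) (hd2 : d ≤ 2)
    (hde : d * e = q - 1) (he : 2 ≤ e) (hG : Nat.card G = q * ((q + 1) * e)) (hE : Isolated p G) :
    Data G p q e := by
  classical
  have hpq : p ∣ q := hq ▸ dvd_pow_self p (by omega)
  have hm : ¬ p ∣ (q + 1) * e := by
    intro h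
    rcases hp.out.dvd_mul.1 h with h | h
    · exact hp.out.one_lt.ne' (Nat.dvd_one.1 ((Nat.dvd_add_right hpq).1 h))
    · have h1 : p ∣ q - 1 := hde ▸ h.mul_left d
      have h2 := Nat.dvd_sub hpq h1
      rw [Nat.sub_sub_self (by omega : 1 ≤ q)] at h2
      exact hp.out.one_lt.ne' (Nat.dvd_one.1 h2)
  have hP : ∀ A : Sylow p G, Nat.card (A : Subgroup G) = q := fun A => by
    rw [A.card_eq_multiplicity, hG, Nat.factorization_mul (by omega) (by positivity),
      Finsupp.add_apply, Nat.factorization_eq_zero_of_not_dvd hm, add_zero, hq,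
      hp.out.factorization_pow, Finsupp.single_eq_same]
  obtain ⟨A0⟩ : Nonempty (Sylow p G) := inferInstance
  set c := Nat.card (Sylow p G) with hc
  have hdiv : ∀ A : Sylow p G, q ∣ c - 1 := fun A => by
    have h := H69.M11.dvd_card_of_free (X := Sylow p G) (A : Subgroup G) ({A}ᶜ : Set (Sylow p G))
      (fun u hu B hB => by
        simp only [Set.mem_compl_iff, Set.mem_singleton_iff] at hB ⊢
        intro h
        exact hB (by
          rw [← inv_smul_smul u B, h]
          exact Sylow.smul_eq_iff_mem_normalizer.2 (Subgroup.le_normalizer (inv_mem hu))))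
      (fun u hu B hB h => free_sylow hE hB hu h)
    rw [hP, Nat.card_coe_set_eq, Set.ncard_compl, Set.ncard_singleton] at h
    exact h
  set N := Subgroup.normalizer ((A0 : Subgroup G) : Set G) with hN
  have hmul : c * Nat.card N = q * ((q + 1) * e) := by
    rw [← hG, hc, A0.card_eq_index_normalizer]
    exact Subgroup.index_mul_card _
  obtain ⟨k, hk⟩ : q ∣ Nat.card N := hP A0 ▸ Subgroup.card_dvd_of_le Subgroup.le_normalizer
  have hck : c * k = (q + 1) * e := by
    rw [hk, mul_left_comm] at hmul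
    exact Nat.eq_of_mul_eq_mul_left (by omega) hmul
  have hkp : ¬ p ∣ k := fun h => hm (hck ▸ h.mul_left c)
  -- a complement acts freely
  have hkq : k ∣ q - 1 := by
    have hA' : ((A0 : Subgroup G).subgroupOf N).Normal := Subgroup.normal_in_normalizer
    have hA'c : Nat.card ((A0 : Subgroup G).subgroupOf N) = q := by
      rw [Nat.card_congr (Subgroup.subgroupOfEquivOfLe Subgroup.le_normalizer).toEquiv, hP]
    have hidx : ((A0 : Subgroup G).subgroupOf N).index = k := by
      have h := ((A0 : Subgroup G).subgroupOf N).card_mul_index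
      rw [hA'c, hk] at h
      exact Nat.eq_of_mul_eq_mul_left (by omega) h
    obtain ⟨K, hK⟩ := Subgroup.exists_right_complement'_of_coprime
      (N := (A0 : Subgroup G).subgroupOf N)
      (by rw [hA'c, hidx, hq]; exact (hp.out.coprime_iff_not_dvd.2 hkp).pow_left n)
    have hKc : Nat.card K = k := by
      have h := hK.card_mul
      rw [hA'c, hk] at h
      exact Nat.eq_of_mul_eq_mul_left (by omega) h
    have hK' : Nat.card (K.map N.subtype) = k := by
      rw [← Nat.card_congr (K.equivMapOfInjective _ N.subtype_injective).toEquiv, hKc]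
    have h := card_dvd_sub_one hE A0.2 (K := K.map N.subtype) (by rw [hK']; exact hkp)
      (Subgroup.map_subtype_le _)
    rwa [hK', hP] at h
  obtain ⟨a, ha⟩ := hdiv A0
  have hc1 : c = 1 + q * a := by
    have : 0 < c := Nat.card_pos
    omega
  have hk1 : 1 ≤ k := Nat.pos_of_ne_zero (by rintro rfl; simp at hkp)
  have hkle : k ≤ q - 1 := Nat.le_of_dvd (by omega) hkq
  obtain ⟨q', rfl⟩ : ∃ q', q = q' + 1 := ⟨q - 1, by omega⟩
  rw [Nat.add_sub_cancel] at hde hkle
  have hkey : d * k + 1 = q' + 1 := by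
    have e1 : d * k + (q' + 1) * (a * (d * k)) + 1 = (q' + 1) * (q' + 1) := by
      have : d * (c * k) = d * ((q' + 1 + 1) * e) := by rw [hck]
      rw [hc1] at this
      have e2 : d * ((q' + 1 + 1) * e) = (q' + 2) * q' := by rw [← hde]; ring
      rw [e2] at this
      nlinarith
    obtain ⟨b, hb⟩ : (q' + 1) ∣ d * k + 1 := by
      have h1 : (q' + 1) ∣ d * k + 1 + (q' + 1) * (a * (d * k)) := ⟨q' + 1, by linarith⟩
      exact (Nat.dvd_add_left (dvd_mul_right _ _)).1 h1
    have hlt : d * k + 1 < 2 * (q' + 1) := by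
      have : d * k ≤ 2 * q' := Nat.mul_le_mul hd2 hkle
      omega
    rcases b with _ | _ | b
    · omega
    · simpa using hb
    · rw [hb] at hlt
      nlinarith
  have hke : k = e := Nat.eq_of_mul_eq_mul_left (by omega : 0 < d) (by omega)
  have hcq : c = q' + 1 + 1 := by
    rw [hke] at hck
    exact Nat.eq_of_mul_eq_mul_right (by omega : 0 < e) hck
  have htr : ∀ A B C : Sylow p G, B ≠ A → C ≠ A → ∃ u ∈ (A : Subgroup G), u • B = C := by
    intro A B C hB hC
    have hmaps : ∀ u : (A : Subgroup G), (u : G) • B ∈ ({A}ᶜ : Set (Sylow p G)) := fun u h => hB (by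
      rw [← inv_smul_smul (u : G) B, Set.mem_singleton_iff.1 h]
      exact Sylow.smul_eq_iff_mem_normalizer.2 (Subgroup.le_normalizer (inv_mem u.2)))
    let f : ↥(A : Subgroup G) → ({A}ᶜ : Set (Sylow p G)) := fun u => ⟨(u : G) • B, hmaps u⟩
    have hf : Function.Injective f := fun u v huv => by
      have h1 : (u : G) • B = (v : G) • B := congrArg Subtype.val huv
      have h2 := free_sylow hE hB (mul_mem (inv_mem v.2) u.2) (by
        rw [mul_smul, h1, inv_smul_smul])
      exact Subtype.ext (inv_mul_eq_one.1 h2).symm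
    have hb : Function.Bijective f := (Nat.bijective_iff_injective_and_card _).2 ⟨hf, by
      rw [hP, Nat.card_coe_set_eq, Set.ncard_compl, Set.ncard_singleton, ← hc, hcq]
      omega⟩
    obtain ⟨u, hu⟩ := hb.2 ⟨C, hC⟩
    exact ⟨u, u.2, congrArg Subtype.val hu⟩
  have hpair : ∀ A B : Sylow p G, B ≠ A → Nat.card ↥(stabilizer G A ⊓ stabilizer G B) = e := by
    intro A B hB
    have hNA : Nat.card (stabilizer G A) = (q' + 1) * e := by
      rw [Sylow.stabilizer_eq_normalizer]
      show Nat.card ↥(Subgroup.normalizer ((A : Subgroup G) : Set G)) = _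
      have h := (Subgroup.normalizer ((A : Subgroup G) : Set G)).index_mul_card
      have h1 : (Subgroup.normalizer ((A : Subgroup G) : Set G)).index = q' + 1 + 1 := by
        rw [← hcq, hc]; exact A.card_eq_index_normalizer.symm
      rw [h1, hG] at h
      refine Nat.eq_of_mul_eq_mul_left (by omega : 0 < q' + 1 + 1) ?_
      rw [h]; ring
    let f : ↥(A : Subgroup G) × ↥(stabilizer G A ⊓ stabilizer G B) → stabilizer G A := fun x =>
      ⟨(x.1 : G) * x.2, mul_mem (Sylow.smul_eq_iff_mem_normalizer.2 (Subgroup.le_normalizer x.1.2))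
        x.2.2.1⟩
    have hf : Function.Bijective f := by
      constructor
      · rintro ⟨u, g⟩ ⟨v, h⟩ he'
        have he : (u : G) * g = v * h := congrArg Subtype.val he'
        have h1 := free_sylow hE hB (mul_mem (inv_mem v.2) u.2) (by
          rw [show (v : G)⁻¹ * u = h * (g : G)⁻¹ by
            rw [inv_mul_eq_iff_eq_mul, ← mul_assoc, ← he, mul_inv_cancel_right]]
          rw [mul_smul, inv_smul_eq_iff.2 (g.2.2 : (g : G) • B = B).symm]
          exact h.2.2)
        have huv : (u : G) = v := (inv_mul_eq_one.1 h1).symm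
        rw [huv] at he
        exact Prod.ext (Subtype.ext huv) (Subtype.ext (mul_left_cancel he))
      · rintro ⟨g, hg⟩
        obtain ⟨u, hu, huB⟩ := htr A B (g • B) hB (fun h => hB (smul_left_cancel g (h.trans hg.symm)))
        have huA : u • A = A := Sylow.smul_eq_iff_mem_normalizer.2 (Subgroup.le_normalizer hu)
        refine ⟨(⟨u, hu⟩, ⟨u⁻¹ * g, ?_, ?_⟩), Subtype.ext (mul_inv_cancel_left u g)⟩
        · show (u⁻¹ * g) • A = A
          rw [mul_smul, hg, inv_smul_eq_iff, huA]
        · show (u⁻¹ * g) • B = B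
          rw [mul_smul, inv_smul_eq_iff, huB]
    have h := Nat.card_eq_of_bijective f hf
    rw [Nat.card_prod, hP, hNA] at h
    exact Nat.eq_of_mul_eq_mul_left (by omega : 0 < q' + 1) h
  exact ⟨hP, hcq, htr, hpair, fun A B hB h => hkp (hke ▸ hpair A B hB ▸ h)⟩

theorem two_trans (D : Data G p q n) : IsMultiplyPretransitive G (Sylow p G) 2 := by
  rw [is_two_pretransitive_iff]
  intro A B C E hAB hCE
  obtain ⟨g, hg⟩ := MulAction.exists_smul_eq G A C
  obtain ⟨u, hu, huE⟩ := D.trans C (g • B) E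
    (fun h => hAB (smul_left_cancel g (hg.trans h.symm))) hCE.symm
  refine ⟨u * g, ?_, by rw [mul_smul, huE]⟩
  rw [mul_smul, hg]
  exact Sylow.smul_eq_iff_mem_normalizer.2 (Subgroup.le_normalizer hu)

theorem three_fixed {e : ℕ} (D : Data G p q e) (hE : Isolated p G) (g : G) (A B C : Sylow p G)
    (hAB : A ≠ B) (hBC : B ≠ C) (hAC : A ≠ C) (hA : g • A = A) (hB : g • B = B) (hC : g • C = C) :
    g = 1 := by
  by_cases hd : p ∣ orderOf g
  · have hg : g ^ p ^ 1 = 1 := by rw [pow_one, ← hE g hd, pow_orderOf_eq_one]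
    exact free_sylow hE hAB.symm (H69.M11.mem_sylow_of_smul_eq hg A hA) hB
  obtain ⟨u, hu, huC⟩ := D.trans A B C hAB.symm hAC.symm
  have hgu : g * u * g⁻¹ ∈ (A : Subgroup G) :=
    (Subgroup.mem_normalizer_iff.1 (Sylow.smul_eq_iff_mem_normalizer.1 hA) u).1 hu
  have h1 : (u⁻¹ * (g * u * g⁻¹)) • B = B := by
    rw [mul_smul, mul_smul, mul_smul, inv_smul_eq_iff.2 hB.symm, huC, hC, inv_smul_eq_iff, huC]
  have h2 := free_sylow hE hAB.symm (mul_mem (inv_mem hu) hgu) h1
  have hc : Commute u g := (eq_mul_inv_iff_mul_eq.1 (inv_mul_eq_one.1 h2))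
  have hu1 : u ≠ 1 := fun h => hBC (by rw [← huC, h, one_smul])
  exact eq_one_of_commute hE (orderOf_of_mem hE A.2 hu hu1) hc hd

theorem faithful {e : ℕ} (D : Data G p q e) (hE : Isolated p G) (h4 : 4 ≤ q) :
    FaithfulSMul G (Sylow p G) := by
  refine ⟨fun {g h} hgh => ?_⟩
  have h1 : ∀ A : Sylow p G, (h⁻¹ * g) • A = A := fun A => by
    rw [mul_smul, hgh, inv_smul_smul]
  have : 3 ≤ Nat.card (Sylow p G) := by rw [D.count]; omega
  have : Fintype (Sylow p G) := Fintype.ofFinite _
  rw [Nat.card_eq_fintype_card] at *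
  obtain ⟨A, B, C, hAB, hAC, hBC⟩ := Fintype.two_lt_card_iff.1 (show 2 < Fintype.card (Sylow p G) by omega)
  exact (inv_mul_eq_one.1 (three_fixed D hE _ A B C hAB hBC hAC (h1 A) (h1 B) (h1 C))).symm

theorem comm_sylow_odd {e : ℕ} (D : Data G p q e) (hE : Isolated p G) (hq : q = p ^ n) (h4 : 4 ≤ q)
    (hodd : Odd q) (he : 2 * e + 1 = q) (A : Sylow p G) :
    ∀ u ∈ (A : Subgroup G), ∀ v ∈ (A : Subgroup G), u * v = v * u := by
  classical
  set A' := (A : Subgroup G) with hA'
  have : Nontrivial A' := Finite.one_lt_card_iff_nontrivial.1 (by rw [D.sylow]; omega)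
  obtain ⟨B, hB⟩ : ∃ B : Sylow p G, B ≠ A := by
    have : 1 < Nat.card (Sylow p G) := by rw [D.count]; omega
    have := Finite.one_lt_card_iff_nontrivial.1 this
    exact exists_ne A
  set Z := (Subgroup.center A').map A'.subtype with hZ
  have hZp : IsPGroup p Z := (A.2.to_subgroup _).map _
  have hZnorm : stabilizer G A ⊓ stabilizer G B ≤ Subgroup.normalizer (Z : Set G) := by
    have hcj : ∀ g ∈ stabilizer G A, ∀ z ∈ Z, g * z * g⁻¹ ∈ Z := by
      rintro g hg _ ⟨z, hz, rfl⟩
      have hgA := Sylow.smul_eq_iff_mem_normalizer.1 hg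
      refine ⟨⟨g * (z : G) * g⁻¹, (Subgroup.mem_normalizer_iff.1 hgA _).1 z.2⟩, ?_, rfl⟩
      refine Subgroup.mem_center_iff.2 fun a => Subtype.ext ?_
      have ha : g⁻¹ * (a : G) * g ∈ A' := (Subgroup.mem_normalizer_iff''.1 hgA _).1 a.2
      have h1 : g⁻¹ * (a : G) * g * z = z * (g⁻¹ * (a : G) * g) :=
        congrArg Subtype.val (Subgroup.mem_center_iff.1 hz ⟨_, ha⟩)
      show (a : G) * (g * z * g⁻¹) = g * z * g⁻¹ * a
      calc (a : G) * (g * z * g⁻¹) = g * (g⁻¹ * (a : G) * g * z) * g⁻¹ := by group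
        _ = g * (z * (g⁻¹ * (a : G) * g)) * g⁻¹ := by rw [h1]
        _ = g * z * g⁻¹ * a := by group
    intro g hg
    rw [Subgroup.mem_normalizer_iff]
    refine fun z => ⟨hcj g hg.1 z, fun hz => ?_⟩
    simpa [mul_assoc] using hcj g⁻¹ (inv_mem hg.1) _ hz
  have h := card_dvd_sub_one hE hZp (D.free A B hB) hZnorm
  rw [D.pair A B hB, hZ, ← Nat.card_congr ((Subgroup.center A').equivMapOfInjective _
    A'.subtype_injective).toEquiv] at h
  have hcn := A.2.center_nontrivial
  have hc1 : 1 < Nat.card (Subgroup.center A') := Finite.one_lt_card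
  by_contra hcon
  have hne : Subgroup.center A' ≠ ⊤ := fun e' => hcon fun u hu v hv => by
    have : (⟨u, hu⟩ : A') ∈ Subgroup.center A' := e' ▸ Subgroup.mem_top _
    exact (congrArg Subtype.val (Subgroup.mem_center_iff.1 this ⟨v, hv⟩)).symm
  have hlt : 1 < (Subgroup.center A').index :=
    Nat.lt_of_le_of_ne (Nat.pos_of_ne_zero Subgroup.index_ne_zero_of_finite)
      (fun e' => hne (Subgroup.index_eq_one.1 e'.symm))
  have hidx := (Subgroup.center A').card_mul_index
  rw [D.sylow] at hidx
  have h3 : 3 ≤ (Subgroup.center A').index := by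
    rcases Nat.lt_or_ge 2 (Subgroup.center A').index with h' | h'
    · exact h'
    · exfalso
      obtain ⟨w, hw⟩ := hodd
      rw [show (Subgroup.center A').index = 2 by omega] at hidx
      omega
  have hle := Nat.le_of_dvd (by omega) h
  have h3' := Nat.mul_le_mul_left (Nat.card (Subgroup.center A')) h3
  rw [hidx] at h3'
  omega

/-- Recognition of `PSL(2,q)`. -/
theorem nonempty_psl (hq : q = p ^ n) (hn : 1 ≤ n) (h4 : 4 ≤ q)
    (hG : Nat.gcd 2 (q - 1) * Nat.card G = q * (q ^ 2 - 1)) (hE : Isolated p G)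
    (hbig : ∃ g : G, (q + 1) / Nat.gcd 2 (q - 1) ∣ orderOf g)
    {F : Type*} [Field F] [Fintype F] (hF : Fintype.card F = q) :
    Nonempty (G ≃* Matrix.ProjectiveSpecialLinearGroup (Fin 2) F) := by
  classical
  set d := Nat.gcd 2 (q - 1) with hd
  have hd2 : d ≤ 2 := Nat.le_of_dvd two_pos (Nat.gcd_dvd_left _ _)
  have hd1 : 1 ≤ d := Nat.gcd_pos_of_pos_left _ two_pos
  obtain ⟨e, he⟩ : d ∣ q - 1 := Nat.gcd_dvd_right _ _
  have he2 : 2 ≤ e := by
    by_contra h
    have h5 : d * e ≤ 2 * 1 := Nat.mul_le_mul hd2 (by omega)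
    omega
  have hG' : Nat.card G = q * ((q + 1) * e) := by
    refine Nat.eq_of_mul_eq_mul_left hd1 ?_
    rw [hG, show q ^ 2 - 1 = (q + 1) * (q - 1) by rw [← Nat.sq_sub_sq, one_pow], he]
    ring
  have D := exists_data hq hn h4 hd1 hd2 he.symm he2 hG' hE
  rcases Nat.even_or_odd q with heven | hodd
  · -- even `q`
    have hdq : d = 1 := by
      have h1 : d ∣ 2 := Nat.gcd_dvd_left _ _
      rcases (Nat.dvd_prime Nat.prime_two).1 h1 with h1 | h1
      · exact h1
      · exfalso
        have h2 : 2 ∣ q - 1 := h1 ▸ Nat.gcd_dvd_right 2 (q - 1)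
        have := even_iff_two_dvd.1 heven
        omega
    have heq : e = q - 1 := by rw [he, hdq, one_mul]
    have hp2 : p = 2 := ((Nat.prime_dvd_prime_iff_eq Nat.prime_two hp.out).1
      (Nat.prime_two.dvd_of_dvd_pow (hq ▸ even_iff_two_dvd.1 heven))).symm
    subst hp2
    have hexp : ∀ S : Sylow 2 G, ∀ x ∈ (S : Subgroup G), x * x = 1 := fun S x hx => by
      rw [← sq]; exact pow_eq_one_of_mem hE S.2 hx
    have hoi : ∀ u : G, u * u = 1 → u ≠ 1 → orderOf u = 2 := fun u hu hu1 =>
      orderOf_eq_prime (by rw [sq, hu]) hu1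
    have hmem : ∀ u : G, orderOf u = 2 → ∃ A : Sylow 2 G, u ∈ (A : Subgroup G) := fun u hu => by
      obtain ⟨A, hA⟩ := (IsPGroup.of_card (n := 1) (G := Subgroup.zpowers u)
        (by rw [Nat.card_zpowers, hu, pow_one])).exists_le_sylow
      exact ⟨A, hA (Subgroup.mem_zpowers u)⟩
    refine H36.EvenPSL.nonempty_psl n hn hq (by rw [hG', heq]; ring) (fun u hu hu1 => ?_)
      (fun u v hu hu1 hv hv1 => ?_) hexp hF
    · obtain ⟨A, hA⟩ := hmem u (hoi u hu hu1)
      have hle : (A : Subgroup G) ≤ Subgroup.centralizer ({u} : Set G) := fun y hy => by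
        rw [Subgroup.mem_centralizer_singleton_iff]
        have h1 : ∀ a ∈ (A : Subgroup G), a⁻¹ = a := fun a ha =>
          inv_eq_of_mul_eq_one_right (hexp A a ha)
        calc y * u = (y * u)⁻¹ := (h1 _ (mul_mem hy hA)).symm
          _ = u * y := by rw [mul_inv_rev, h1 y hy, h1 u hA]
      rw [A.3 (centralizer_isPGroup hE (hoi u hu hu1)) hle, D.sylow]
    · obtain ⟨A, hA⟩ := hmem u (hoi u hu hu1)
      obtain ⟨A', hA'⟩ := hmem v (hoi v hv hv1)
      obtain ⟨g, rfl⟩ := MulAction.exists_smul_eq G A' A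
      obtain ⟨B, hB⟩ : ∃ B : Sylow 2 G, B ≠ g • A' := by
        have : 1 < Nat.card (Sylow 2 G) := by rw [D.count]; omega
        have := Finite.one_lt_card_iff_nontrivial.1 this
        exact exists_ne _
      set K := stabilizer G (g • A') ⊓ stabilizer G B with hK
      have hw : g * v * g⁻¹ ∈ ((g • A' : Sylow 2 G) : Subgroup G) := ⟨v, hA', rfl⟩
      have hw1 : g * v * g⁻¹ ≠ 1 := fun h => hv1 (conj_eq_one_iff.1 h)
      let f : K → {z : G // z ∈ ((g • A' : Sylow 2 G) : Subgroup G) ∧ z ≠ 1} := fun k =>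
        ⟨(k : G) * u * (k : G)⁻¹, (Subgroup.mem_normalizer_iff.1
          (Sylow.smul_eq_iff_mem_normalizer.1 k.2.1) u).1 hA, fun h => hu1 (conj_eq_one_iff.1 h)⟩
      have hf : Function.Injective f := fun k l hkl => by
        have h1 : (k : G) * u * (k : G)⁻¹ = l * u * (l : G)⁻¹ := congrArg Subtype.val hkl
        have hc : Commute u ((l⁻¹ * k : K) : G) := by
          rw [commute_iff_eq, Subgroup.coe_mul, Subgroup.coe_inv]
          calc u * ((l : G)⁻¹ * k) = (l : G)⁻¹ * ((l : G) * u * (l : G)⁻¹) * k := by group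
            _ = (l : G)⁻¹ * ((k : G) * u * (k : G)⁻¹) * k := by rw [h1]
            _ = (l : G)⁻¹ * k * u := by group
        refine (inv_mul_eq_one.1 (Subtype.ext (eq_one_of_commute hE (hoi u hu hu1) hc fun hdv => ?_) :
          l⁻¹ * k = 1)).symm
        rw [Subgroup.orderOf_coe] at hdv
        exact D.free (g • A') B hB (hdv.trans (orderOf_dvd_natCard _))
      have hb : Function.Bijective f := (Nat.bijective_iff_injective_and_card _).2 ⟨hf, by
        rw [D.pair _ B hB, heq]
        show _ = Nat.card ↥((((g • A' : Sylow 2 G) : Subgroup G) : Set G) \ {1} : Set G)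
        rw [Nat.card_coe_set_eq, Set.ncard_sdiff_singleton_of_mem (one_mem _), ← Nat.card_coe_set_eq]
        exact congrArg (· - 1) (D.sylow _).symm⟩
      obtain ⟨k, hk⟩ := hb.2 ⟨g * v * g⁻¹, hw, hw1⟩
      have hk' : (k : G) * u * (k : G)⁻¹ = g * v * g⁻¹ := congrArg Subtype.val hk
      refine isConj_iff.2 ⟨g⁻¹ * k, ?_⟩
      calc g⁻¹ * (k : G) * u * (g⁻¹ * k)⁻¹ = g⁻¹ * ((k : G) * u * (k : G)⁻¹) * g := by group
        _ = v := by rw [hk']; group
  · -- odd `q`
    have hdq : d = 2 := by
      have : 2 ∣ q - 1 := by obtain ⟨w, hw⟩ := hodd; omega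
      exact Nat.gcd_eq_left this
    have hhalf : 2 * e + 1 = q := by rw [hdq] at he; omega
    have hfaith := faithful D hE h4
    obtain ⟨A⟩ : Nonempty (Sylow p G) := inferInstance
    obtain ⟨B, hB⟩ : ∃ B : Sylow p G, B ≠ A := by
      have : 1 < Nat.card (Sylow p G) := by rw [D.count]; omega
      have := Finite.one_lt_card_iff_nontrivial.1 this
      exact exists_ne A
    have hcomm := comm_sylow_odd D hE hq h4 hodd hhalf A
    have hpodd : p ≠ 2 := fun h => (Nat.not_even_iff_odd.2 hodd)
      (hq ▸ Nat.even_pow.2 ⟨h ▸ even_two, by omega⟩)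
    have hZ : Cfsg.IsZassenhausGroup G (Sylow p G) := by
      refine ⟨hfaith, two_trans D, fun g a b c hab hbc hac => three_fixed D hE g a b c hab hbc hac,
        ?_, ?_⟩
      · have h1 : 1 < Nat.card ↥(stabilizer G A ⊓ stabilizer G B) := by rw [D.pair A B hB]; omega
        have := Finite.one_lt_card_iff_nontrivial.1 h1
        obtain ⟨⟨g, hgA, hgB⟩, hg⟩ := exists_ne (1 : ↥(stabilizer G A ⊓ stabilizer G B))
        exact ⟨g, fun h => hg (Subtype.ext h), A, B, hB.symm, hgA, hgB⟩
      · intro N hN htrN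
        by_contra hcon
        push Not at hcon
        have hNc : Nat.card N = q + 1 := by
          have h := (stabilizer N A).index_mul_card
          rw [index_stabilizer_of_transitive, hcon A, Subgroup.card_bot, mul_one, D.count] at h
          exact h.symm
        have : Fact (Nat.Prime 2) := ⟨Nat.prime_two⟩
        obtain ⟨t, ht⟩ := exists_prime_orderOf_dvd_card' (G := N) 2
          (hNc ▸ by obtain ⟨w, hw⟩ := hodd; omega)
        -- conjugation by `A` is transitive on the nonidentity elements of `N`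
        let f : ↥(A : Subgroup G) → {z : G // z ∈ N ∧ z ≠ 1} := fun u =>
          ⟨(u : G) * t * (u : G)⁻¹, hN.conj_mem _ t.2 _, fun h => by
            rw [conj_eq_one_iff, OneMemClass.coe_eq_one] at h
            rw [h, orderOf_one] at ht
            omega⟩
        have hf : Function.Injective f := fun u v huv => by
          have h1 : (u : G) * t * (u : G)⁻¹ = v * t * (v : G)⁻¹ := congrArg Subtype.val huv
          by_contra hne
          have hne' : ((v⁻¹ * u : (A : Subgroup G)) : G) ≠ 1 := fun h =>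
            hne (inv_mul_eq_one.1 (Subtype.ext h : v⁻¹ * u = 1)).symm
          have hc : Commute ((v⁻¹ * u : (A : Subgroup G)) : G) (t : G) := by
            rw [commute_iff_eq, Subgroup.coe_mul, Subgroup.coe_inv]
            calc (v : G)⁻¹ * u * t = (v : G)⁻¹ * ((u : G) * t * (u : G)⁻¹) * u := by group
              _ = (v : G)⁻¹ * ((v : G) * t * (v : G)⁻¹) * u := by rw [h1]
              _ = t * ((v : G)⁻¹ * u) := by group
          have h2 := eq_one_of_commute hE (orderOf_of_mem hE A.2 (v⁻¹ * u).2 hne') hc (by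
            rw [Subgroup.orderOf_coe, ht]
            exact fun h => hpodd ((Nat.prime_dvd_prime_iff_eq hp.out Nat.prime_two).1 h))
          rw [OneMemClass.coe_eq_one] at h2
          rw [h2, orderOf_one] at ht
          omega
        have hb : Function.Bijective f := (Nat.bijective_iff_injective_and_card _).2 ⟨hf, by
          rw [D.sylow]
          show _ = Nat.card ↥((N : Set G) \ {1} : Set G)
          rw [Nat.card_coe_set_eq, Set.ncard_sdiff_singleton_of_mem (one_mem _),
            ← Nat.card_coe_set_eq]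
          show q = Nat.card N - 1
          omega⟩
        have hsq : ∀ z ∈ N, z ^ 2 = 1 := by
          intro z hz
          by_cases h1 : z = 1
          · rw [h1, one_pow]
          obtain ⟨u, hu⟩ := hb.2 ⟨z, hz, h1⟩
          have hu' : (u : G) * t * (u : G)⁻¹ = z := congrArg Subtype.val hu
          rw [← hu', conj_pow, ← ht, ← Subgroup.orderOf_coe, pow_orderOf_eq_one, mul_one,
            mul_inv_cancel]
        have hN2 : IsPGroup 2 N := fun z => ⟨1, Subtype.ext (by
          rw [pow_one, Subgroup.coe_pow, Subgroup.coe_one]; exact hsq _ z.2)⟩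
        obtain ⟨b, hb'⟩ := IsPGroup.iff_card.1 hN2
        rw [hNc] at hb'
        have hb3 : 3 ≤ b := by
          by_contra h
          have : 2 ^ b ≤ 2 ^ 2 := Nat.pow_le_pow_right two_pos (by omega)
          omega
        obtain ⟨g, hg⟩ := hbig
        rw [hdq] at hg
        have h4dvd : 4 ∣ orderOf g := by
          refine dvd_trans ?_ hg
          obtain ⟨c, rfl⟩ := Nat.exists_eq_add_of_le hb3
          rw [hb', show 2 ^ (3 + c) / 2 = 4 * 2 ^ c by rw [pow_add]; omega]
          exact dvd_mul_right _ _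
        set x := g ^ (orderOf g / 4) with hx
        have hxo : orderOf x = 4 := orderOf_pow_orderOf_div (orderOf_pos g).ne' h4dvd
        have hxN : x ∈ N := by
          rw [← QuotientGroup.eq_one_iff, ← orderOf_eq_one_iff]
          have h1 : orderOf (x : G ⧸ N) ∣ 4 := hxo ▸ orderOf_map_dvd (QuotientGroup.mk' N) x
          have h2 : orderOf (x : G ⧸ N) ∣ N.index := orderOf_dvd_natCard _
          have hidx : N.index = q * e := by
            have h := N.card_mul_index
            rw [hNc, hG'] at h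
            refine Nat.eq_of_mul_eq_mul_left (by omega : 0 < q + 1) ?_
            rw [h]; ring
          have hco : Nat.Coprime 4 (q * e) := by
            rw [show 4 = 2 ^ 2 by norm_num]
            refine ((Nat.prime_two.coprime_iff_not_dvd).2 fun h => ?_).pow_left 2
            rcases Nat.prime_two.dvd_mul.1 h with h | h
            · exact Nat.not_even_iff_odd.2 hodd (even_iff_two_dvd.2 h)
            · obtain ⟨w, hw⟩ := h
              obtain ⟨c, rfl⟩ := Nat.exists_eq_add_of_le hb3
              rw [pow_add] at hb'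
              omega
          exact Nat.eq_one_of_dvd_coprimes hco h1 (hidx ▸ h2)
        have := orderOf_dvd_of_pow_eq_one (hsq x hxN)
        rw [hxo] at this
        norm_num at this
    have hker : H28.Zass.IsKer A (A : Subgroup G) :=
      ⟨fun u hu => Sylow.smul_eq_iff_mem_normalizer.2 (Subgroup.le_normalizer hu),
        by rw [D.sylow, D.count],
        fun u hu hu1 C hC => by
          by_contra hne
          exact hu1 (free_sylow hE hne hu hC)⟩
    obtain ⟨F', iF, iF', -, hF', ⟨φ⟩⟩ := H28.Zass.half_equiv hker hZ hB.symm hcomm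
      (by rw [D.pair A B hB, D.sylow]; exact hhalf)
    exact ⟨φ.trans (H27.PermFamily.pslCongr (FiniteField.ringEquivOfCardEq
      (by rw [hF', D.sylow, hF])))⟩

end Cfsg.Agent.H67.PSLTwoByOrder
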