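import Cfsg.Agent.H55.SpOrders

/-!
The element orders of `PSp₄(3)`.
-/

set_option autoImplicit false
set_option maxRecDepth 20000

namespace Cfsg.Agent.H67.PSp43

open Matrix Polynomial Cfsg Cfsg.Agent.Symplectic Cfsg.Agent.H55

/-- Coefficient vectors. -/
abbrev V4 : Type := ZMod 3 × ZMod 3 × ZMod 3 × ZMod 3

/-- Multiplication by `x` modulo `x⁴ + c₃ x³ + c₂ x² + c₁ x + c₀`. -/
def step (c v : V4) : V4 :=
  (-(v.2.2.2 * c.1), v.1 - v.2.2.2 * c.2.1, v.2.1 - v.2.2.2 * c.2.2.1, v.2.2.1 - v.2.2.2 * c.2.2.2)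

/-- Iterated multiplication by `x`. -/
def iter (c v : V4) : ℕ → V4
  | 0 => v
  | k + 1 => step c (iter c v k)

/-- The reversed polynomial minus a multiple of the polynomial. -/
def rel (c : V4) : V4 :=
  (1 - c.1 * c.1, c.2.2.2 - c.1 * c.2.1, c.2.2.1 - c.1 * c.2.2.1, c.2.1 - c.1 * c.2.2.2)

/-- A combination of multiples of the relation. -/
def comb (c : V4) (u : Fin 4 → ZMod 3) : V4 :=
  let r := fun i => iter c (rel c) i
  (u 0 * (r 0).1 + u 1 * (r 1).1 + u 2 * (r 2).1 + u 3 * (r 3).1,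
   u 0 * (r 0).2.1 + u 1 * (r 1).2.1 + u 2 * (r 2).2.1 + u 3 * (r 3).2.1,
   u 0 * (r 0).2.2.1 + u 1 * (r 1).2.2.1 + u 2 * (r 2).2.2.1 + u 3 * (r 3).2.2.1,
   u 0 * (r 0).2.2.2 + u 1 * (r 1).2.2.2 + u 2 * (r 2).2.2.2 + u 3 * (r 3).2.2.2)

/-- For each polynomial an exponent, a sign and coefficients. -/
def tab : List (ℕ × ZMod 3 × (Fin 4 → ZMod 3)) :=
  [(5, 1, ![2, 0, 0, 0]), (5, 2, ![1, 2, 1, 0]), (5, 1, ![2, 2, 2, 0]), (12, 1, ![2, 0, 0, 0]),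
    (9, 1, ![2, 1, 0, 0]), (9, 2, ![1, 1, 0, 0]), (12, 1, ![2, 0, 0, 0]), (5, 1, ![2, 1, 0, 0]),
    (5, 1, ![2, 2, 2, 2]), (9, 2, ![1, 0, 0, 0]), (5, 1, ![2, 0, 0, 2]), (5, 1, ![2, 2, 2, 2]),
    (5, 1, ![2, 0, 0, 0]), (12, 1, ![2, 0, 0, 0]), (5, 1, ![2, 0, 1, 1]), (5, 1, ![2, 1, 0, 0]),
    (5, 1, ![2, 0, 0, 1]), (12, 1, ![2, 0, 0, 0]), (9, 1, ![2, 0, 0, 0]), (5, 1, ![2, 0, 0, 1]),
    (5, 2, ![1, 0, 0, 2]), (5, 2, ![1, 0, 0, 0]), (5, 1, ![2, 2, 0, 1]), (12, 1, ![2, 0, 0, 0]),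
    (5, 1, ![2, 0, 0, 0]), (12, 1, ![2, 0, 0, 0]), (5, 1, ![2, 1, 0, 0]), (12, 2, ![0, 0, 0, 0]),
    (5, 1, ![0, 1, 1, 2]), (5, 2, ![0, 1, 2, 2]), (12, 1, ![0, 0, 0, 0]), (5, 1, ![1, 2, 0, 2]),
    (5, 1, ![1, 2, 0, 0]), (12, 1, ![0, 0, 0, 0]), (5, 2, ![0, 1, 2, 0]), (5, 1, ![0, 1, 1, 0]),
    (5, 1, ![0, 1, 0, 0]), (9, 2, ![0, 0, 0, 0]), (5, 1, ![2, 2, 2, 2]), (5, 1, ![1, 0, 2, 1]),
    (5, 1, ![0, 0, 0, 0]), (12, 1, ![0, 0, 1, 0]), (5, 2, ![0, 2, 2, 2]), (12, 1, ![0, 0, 0, 0]),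
    (5, 1, ![0, 1, 0, 0]), (5, 2, ![0, 1, 0, 0]), (5, 1, ![0, 0, 0, 1]), (9, 1, ![0, 0, 0, 0]),
    (5, 1, ![1, 2, 0, 0]), (12, 1, ![0, 0, 1, 0]), (5, 2, ![0, 0, 0, 0]), (5, 1, ![0, 2, 1, 2]),
    (5, 1, ![2, 0, 0, 0]), (12, 1, ![0, 0, 0, 0]), (12, 1, ![0, 0, 0, 0]), (5, 1, ![2, 2, 0, 1]),
    (5, 1, ![2, 0, 0, 0]), (5, 1, ![1, 0, 1, 2]), (9, 2, ![0, 0, 1, 2]), (9, 1, ![0, 0, 2, 2]),
    (5, 1, ![1, 0, 2, 1]), (5, 1, ![0, 1, 1, 0]), (5, 2, ![0, 1, 2, 0]), (5, 1, ![0, 2, 0, 0]),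
    (12, 1, ![0, 0, 2, 1]), (12, 1, ![0, 0, 0, 0]), (5, 2, ![0, 1, 0, 1]), (5, 1, ![0, 2, 0, 0]),
    (5, 1, ![2, 0, 0, 0]), (9, 1, ![0, 0, 2, 2]), (5, 2, ![0, 2, 0, 1]), (5, 1, ![0, 2, 0, 0]),
    (5, 1, ![0, 2, 1, 2]), (12, 1, ![0, 0, 0, 0]), (12, 1, ![0, 0, 2, 2]), (5, 1, ![0, 1, 0, 1]),
    (5, 1, ![2, 0, 0, 1]), (5, 2, ![0, 2, 0, 0]), (9, 2, ![0, 0, 1, 2]), (5, 1, ![0, 1, 0, 2]),
    (5, 1, ![0, 2, 0, 1])]

/-- The entry of a polynomial. -/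
def look (c : V4) : ℕ × ZMod 3 × (Fin 4 → ZMod 3) :=
  tab.getD (27 * c.1.val + 9 * c.2.1.val + 3 * c.2.2.1.val + c.2.2.2.val) (0, 0, 0)

theorem tab_spec : ∀ c₀ c₁ c₂ c₃ : ZMod 3,
    ((look (c₀, c₁, c₂, c₃)).1 = 5 ∨ (look (c₀, c₁, c₂, c₃)).1 = 9 ∨ (look (c₀, c₁, c₂, c₃)).1 = 12) ∧
    ((look (c₀, c₁, c₂, c₃)).2.1 = 1 ∨ (look (c₀, c₁, c₂, c₃)).2.1 = -1) ∧
    iter (c₀, c₁, c₂, c₃) (1, 0, 0, 0) (look (c₀, c₁, c₂, c₃)).1 =
      comb (c₀, c₁, c₂, c₃) (look (c₀, c₁, c₂, c₃)).2.2 + ((look (c₀, c₁, c₂, c₃)).2.1, 0, 0, 0) := by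
  decide +kernel

variable {F : Type*} [Field F]

/-- Evaluation of a coefficient vector at a matrix. -/
def ev (e : ZMod 3 →+* F) (A : Mat 2 F) (v : V4) : Mat 2 F :=
  e v.1 • 1 + e v.2.1 • A + e v.2.2.1 • A ^ 2 + e v.2.2.2 • A ^ 3

theorem ev_add (e : ZMod 3 →+* F) (A : Mat 2 F) (v w : V4) : ev e A (v + w) = ev e A v + ev e A w := by
  simp only [ev, Prod.fst_add, Prod.snd_add, map_add]
  module

theorem pow_cases [Fintype F] (hF : Fintype.card F = 3) (A : Matrix.symplecticGroup (Fin 2) F) :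
    ∃ k, (k = 5 ∨ k = 9 ∨ k = 12) ∧ ((A : Mat 2 F) ^ k = 1 ∨ (A : Mat 2 F) ^ k = -1) := by
  haveI : Fact (Nat.Prime 3) := ⟨Nat.prime_three⟩
  let e : ZMod 3 ≃+* F := ZMod.ringEquivOfPrime F Nat.prime_three hF
  set M := (A : Mat 2 F) with hM
  have hdeg : M.charpoly.natDegree = 4 := by rw [Matrix.charpoly_natDegree_eq_dim]; rfl
  have hlead : M.charpoly.coeff 4 = 1 := by
    have := (Matrix.charpoly_monic M).coeff_natDegree
    rwa [hdeg] at this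
  obtain ⟨c0, h0⟩ := e.surjective (M.charpoly.coeff 0)
  obtain ⟨c1, h1⟩ := e.surjective (M.charpoly.coeff 1)
  obtain ⟨c2, h2⟩ := e.surjective (M.charpoly.coeff 2)
  obtain ⟨c3, h3⟩ := e.surjective (M.charpoly.coeff 3)
  have hexp : ∀ X : Mat 2 F, aeval X M.charpoly =
      e c0 • (1 : Mat 2 F) + e c1 • X + e c2 • X ^ 2 + e c3 • X ^ 3 + X ^ 4 := by
    intro X
    rw [aeval_eq_sum_range, hdeg]
    simp only [Finset.sum_range_succ, Finset.sum_range_zero, hlead, h0, h1, h2, h3, zero_add, pow_zero,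
      pow_one, one_smul]
  have hp := hexp M
  rw [Matrix.aeval_self_charpoly] at hp
  obtain ⟨M', hMM⟩ : ∃ M' : Mat 2 F, M * M' = 1 :=
    ⟨M⁻¹, Matrix.mul_nonsing_inv _ (SymplecticGroup.symplectic_det A.2)⟩
  have hq : aeval M' M.charpoly = 0 := by
    have h := transpose_aeval A M' hMM M.charpoly
    rw [← hM, Matrix.aeval_self_charpoly, Matrix.transpose_zero, mul_zero] at h
    have hu : IsUnit (Matrix.J (Fin 2) F) :=
      (Matrix.isUnit_iff_isUnit_det _).2 (Matrix.isUnit_det_J (Fin 2) F)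
    exact hu.mul_left_eq_zero.1 h.symm
  rw [hexp M'] at hq
  have hq' : e c0 • M ^ 4 + e c1 • M ^ 3 + e c2 • M ^ 2 + e c3 • M + 1 = 0 := by
    have h := congrArg (fun X => M ^ 4 * X) hq
    simp only [mul_zero, mul_add, mul_smul_comm, mul_one] at h
    have r1 : M ^ 4 * M' = M ^ 3 := by rw [pow_succ, mul_assoc, hMM, mul_one]
    have r2 : M ^ 4 * M' ^ 2 = M ^ 2 := by
      rw [sq M', ← mul_assoc, r1, pow_succ, mul_assoc, hMM, mul_one]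
    have r3 : M ^ 4 * M' ^ 3 = M := by
      rw [pow_succ M', ← mul_assoc, r2, sq M, mul_assoc, hMM, mul_one]
    have r4 : M ^ 4 * M' ^ 4 = 1 := by rw [pow_succ M', ← mul_assoc, r3, hMM]
    rwa [r1, r2, r3, r4] at h
  set c : V4 := (c0, c1, c2, c3) with hc
  have hstep : ∀ v, ev e M (step c v) = M * ev e M v := by
    intro v
    have h4 : M ^ 4 = -(e c0 • (1 : Mat 2 F) + e c1 • M + e c2 • M ^ 2 + e c3 • M ^ 3) :=
      eq_neg_of_add_eq_zero_right hp.symm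
    simp only [ev, mul_add, mul_smul_comm, mul_one, ← pow_succ', ← sq, Nat.reduceAdd]
    rw [h4]
    simp only [step, c, RingEquiv.toRingHom_eq_coe, map_neg, map_sub, map_mul, RingHom.coe_coe]
    module
  have hrel : ev e M (rel c) = 0 := by
    have h : e c0 • M ^ 4 + e c1 • M ^ 3 + e c2 • M ^ 2 + e c3 • M + (1 : Mat 2 F) -
        e c0 • (e c0 • (1 : Mat 2 F) + e c1 • M + e c2 • M ^ 2 + e c3 • M ^ 3 + M ^ 4) = 0 := by
      rw [hq', ← hp, smul_zero, sub_zero]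
    rw [← h]
    simp only [ev, rel, c, RingEquiv.toRingHom_eq_coe, map_sub, map_mul, map_one, RingHom.coe_coe]
    module
  have hit : ∀ v k, ev e M (iter c v k) = M ^ k * ev e M v := by
    intro v k
    induction k with
    | zero => rw [pow_zero, one_mul]; rfl
    | succ k ih =>
      show ev e M (step c (iter c v k)) = _
      rw [hstep, ih, pow_succ', mul_assoc]
  have hri : ∀ i, ev e M (iter c (rel c) i) = 0 := fun i => by rw [hit, hrel, mul_zero]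
  obtain ⟨hk, hs, heq⟩ := tab_spec c0 c1 c2 c3
  refine ⟨(look c).1, hk, ?_⟩
  have h1' : ev e M (1, 0, 0, 0) = 1 := by simp [ev]
  have hcomb : ∀ u, ev e M (comb c u) = 0 := by
    intro u
    have : ev e M (comb c u) = e (u 0) • ev e M (iter c (rel c) 0) + e (u 1) • ev e M (iter c (rel c) 1) +
        e (u 2) • ev e M (iter c (rel c) 2) + e (u 3) • ev e M (iter c (rel c) 3) := by
      simp only [ev, comb, RingEquiv.toRingHom_eq_coe, map_add, map_mul, RingHom.coe_coe]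
      module
    rw [this, hri, hri, hri, hri]
    simp
  have hpow := hit (1, 0, 0, 0) (look c).1
  rw [h1', mul_one, hc, heq, ev_add, ← hc, hcomb, zero_add] at hpow
  rw [← hpow]
  rcases hs with h | h <;> rw [h]
  · exact Or.inl h1'
  · right; simp [ev]

/-- 4x4 matrices over the field with 3 elements. -/
abbrev M4 : Type := Matrix (Fin 2 ⊕ Fin 2) (Fin 2 ⊕ Fin 2) (ZMod 3)

/-- Reindexing of rows. -/
def ofRows (m : Matrix (Fin 4) (Fin 4) (ZMod 3)) : M4 :=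
  m.submatrix (Sum.elim ![0, 1] ![2, 3]) (Sum.elim ![0, 1] ![2, 3])

/-- A witness. -/
def w5 : M4 := ofRows !![1, 1, 0, 0; 2, 0, 2, 1; 0, 0, 0, 1; 1, 0, 0, 0]
/-- A witness. -/
def w9 : M4 := ofRows !![0, 0, 0, 1; 2, 0, 0, 0; 2, 2, 0, 0; 0, 0, 2, 1]
/-- A witness. -/
def w12 : M4 := ofRows !![0, 0, 1, 0; 0, 0, 0, 1; 2, 0, 2, 0; 0, 2, 0, 0]

set_option synthInstance.maxSize 1024 in
theorem w5_facts : w5 * Matrix.J (Fin 2) (ZMod 3) * w5ᵀ = Matrix.J (Fin 2) (ZMod 3) ∧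
      (w5 ^ 5 = 1 ∨ w5 ^ 5 = -1) ∧ ¬ (w5 = 1 ∨ w5 = -1) := by
  decide +kernel

set_option synthInstance.maxSize 1024 in
theorem w9_facts : w9 * Matrix.J (Fin 2) (ZMod 3) * w9ᵀ = Matrix.J (Fin 2) (ZMod 3) ∧
      (w9 ^ 9 = 1 ∨ w9 ^ 9 = -1) ∧ ¬ (w9 ^ 3 = 1 ∨ w9 ^ 3 = -1) := by
  decide +kernel

set_option synthInstance.maxSize 1024 in
theorem w12_facts : w12 * Matrix.J (Fin 2) (ZMod 3) * w12ᵀ = Matrix.J (Fin 2) (ZMod 3) ∧
      (w12 ^ 12 = 1 ∨ w12 ^ 12 = -1) ∧ ¬ (w12 ^ 6 = 1 ∨ w12 ^ 6 = -1) ∧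
      ¬ (w12 ^ 4 = 1 ∨ w12 ^ 4 = -1) := by
  decide +kernel

theorem range_orderOf_PSp [Fintype F] (hF : Fintype.card F = 3) :
    Set.range (orderOf : Cfsg.PSp 2 F → ℕ) = {n | n ∣ 9 ∨ n ∣ 12 ∨ n ∣ 5} := by
  haveI : Fact (Nat.Prime 3) := ⟨Nat.prime_three⟩
  let e : ZMod 3 ≃+* F := ZMod.ringEquivOfPrime F Nat.prime_three hF
  ext n
  constructor
  · rintro ⟨x, rfl⟩
    obtain ⟨A, rfl⟩ := QuotientGroup.mk'_surjective _ x
    obtain ⟨k, hk, h⟩ := pow_cases hF A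
    have hd : orderOf (toPSp A) ∣ k :=
      orderOf_dvd_of_pow_eq_one ((toPSp_pow_eq_one_iff (by norm_num) A k).2 h)
    rcases hk with rfl | rfl | rfl
    · exact Or.inr (Or.inr hd)
    · exact Or.inl hd
    · exact Or.inr (Or.inl hd)
  · intro hn
    let φ := (e.toRingHom.mapMatrix : M4 →+* Mat 2 F)
    have hφ : Function.Injective φ := Matrix.map_injective e.injective
    have hJ : φ (Matrix.J (Fin 2) (ZMod 3)) = Matrix.J (Fin 2) F := by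
      ext (i | i) (j | j) <;> simp [φ, Matrix.J, Matrix.one_apply, apply_ite e]
    have iff1 : ∀ (w : M4) (k : ℕ), (φ w ^ k = 1 ∨ φ w ^ k = -1) ↔ (w ^ k = 1 ∨ w ^ k = -1) :=
      fun w k => by rw [← map_pow, ← map_one φ, ← map_neg φ, hφ.eq_iff, hφ.eq_iff]
    have mk : ∀ (w : M4) (k : ℕ), 0 < k →
        w * Matrix.J (Fin 2) (ZMod 3) * wᵀ = Matrix.J (Fin 2) (ZMod 3) → (w ^ k = 1 ∨ w ^ k = -1) →
        (∀ p : ℕ, p.Prime → p ∣ k → ¬ (w ^ (k / p) = 1 ∨ w ^ (k / p) = -1)) →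
        ∃ x : Cfsg.PSp 2 F, orderOf x = k := by
      intro w k hk hw h1 h2
      have hmem : φ w ∈ Matrix.symplecticGroup (Fin 2) F := by
        rw [SymplecticGroup.mem_iff, ← hJ]
        show φ w * φ (Matrix.J (Fin 2) (ZMod 3)) * φ wᵀ = φ (Matrix.J (Fin 2) (ZMod 3))
        rw [← map_mul, ← map_mul, hw]
      refine ⟨toPSp ⟨φ w, hmem⟩, orderOf_eq_of_pow_and_pow_div_prime hk ?_ fun p hp hd => ?_⟩
      · exact (toPSp_pow_eq_one_iff (by norm_num) _ k).2 ((iff1 w k).2 h1)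
      · exact fun h => h2 p hp hd ((iff1 w _).1 ((toPSp_pow_eq_one_iff (by norm_num) _ _).1 h))
    obtain ⟨a1, a2, a3⟩ := w5_facts
    obtain ⟨b1, b2, b3⟩ := w9_facts
    obtain ⟨c1, c2, c3, c4⟩ := w12_facts
    have key : ∀ k, (∃ x : Cfsg.PSp 2 F, orderOf x = k) → n ∣ k →
        n ∈ Set.range (orderOf : Cfsg.PSp 2 F → ℕ) := by
      rintro k ⟨x, rfl⟩ hd
      exact ⟨_, orderOf_pow_orderOf_div (orderOf_pos x).ne' hd⟩
    rcases hn with hn | hn | hn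
    · refine key 9 (mk w9 9 (by norm_num) b1 b2 fun p hp hd => ?_) hn
      rw [(Nat.prime_dvd_prime_iff_eq hp Nat.prime_three).1
        (hp.dvd_of_dvd_pow (show p ∣ 3 ^ 2 from hd))]
      exact b3
    · refine key 12 (mk w12 12 (by norm_num) c1 c2 fun p hp hd => ?_) hn
      rcases (show ∀ p ≤ 12, p.Prime → p ∣ 12 → p = 2 ∨ p = 3 by decide) p
        (Nat.le_of_dvd (by norm_num) hd) hp hd with rfl | rfl
      · exact c3
      · exact c4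
    · refine key 5 (mk w5 5 (by norm_num) a1 a2 fun p hp hd => ?_) hn
      rw [(Nat.prime_dvd_prime_iff_eq hp (by norm_num)).1 hd, Nat.div_self (by norm_num), pow_one]
      exact a3

end Cfsg.Agent.H67.PSp43
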