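import Mathlib
import Cfsg.Agent.H67.FPF
import Cfsg.Agent.S0144

/-!
The group `3 : 8` as a fixed point free subgroup of `GL₄(7)`.
-/

set_option autoImplicit false
set_option maxRecDepth 10000

namespace Cfsg.Agent.H67

open Matrix

local instance : Fact (Nat.Prime 7) := ⟨by norm_num⟩

local notation "M₇" => Matrix (Fin 4) (Fin 4) (ZMod 7)

/-- An element of order 3. -/
def tcA : M₇ := !![2, 0, 0, 0; 0, 2, 0, 0; 0, 0, 4, 0; 0, 0, 0, 4]
/-- An element of order 8. -/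
def tcB : M₇ := !![0, 0, 1, 0; 0, 0, 0, 1; 0, 6, 0, 0; 1, 0, 0, 0]

theorem tc_rel : tcA ^ 3 = 1 ∧ tcB ^ 8 = 1 ∧ ¬ tcB ^ 4 = 1 ∧ tcB * tcA = tcA ^ 2 * tcB ∧
    (tcA * tcB ^ 2) ^ 12 = 1 ∧ ¬ (tcA * tcB ^ 2) ^ 6 = 1 ∧ ¬ (tcA * tcB ^ 2) ^ 4 = 1 := by
  decide +kernel

theorem tc_all : ∀ i : Fin 3, ∀ j : Fin 8, tcA ^ (i : ℕ) * tcB ^ (j : ℕ) = 1 ∨
    ((tcA ^ (i : ℕ) * tcB ^ (j : ℕ) - 1).det ≠ 0 ∧
      ((tcA ^ (i : ℕ) * tcB ^ (j : ℕ)) ^ 8 = 1 ∨ (tcA ^ (i : ℕ) * tcB ^ (j : ℕ)) ^ 12 = 1)) := by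
  decide +kernel

/-- `tcA` as a unit. -/
noncomputable def tcAU : GL (Fin 4) (ZMod 7) :=
  Units.mkOfMulEqOne tcA (tcA ^ 2) (by rw [← pow_succ', tc_rel.1])
/-- `tcB` as a unit. -/
noncomputable def tcBU : GL (Fin 4) (ZMod 7) :=
  Units.mkOfMulEqOne tcB (tcB ^ 7) (by rw [← pow_succ', tc_rel.2.1])

/-- The group `3 : 8`. -/
noncomputable def ThreeEight : Subgroup (GL (Fin 4) (ZMod 7)) := Subgroup.closure {tcAU, tcBU}

theorem tc_move (j : ℕ) : ∃ k : ℕ, tcB ^ j * tcA = tcA ^ k * tcB ^ j := by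
  induction j with
  | zero => exact ⟨1, by simp⟩
  | succ j ih =>
    obtain ⟨k, hk⟩ := ih
    refine ⟨k * 2, ?_⟩
    rw [pow_succ, mul_assoc, tc_rel.2.2.2.1, ← mul_assoc]
    have h2 : tcB ^ j * tcA ^ 2 = tcA ^ (k * 2) * tcB ^ j := by
      rw [sq, ← mul_assoc, hk, mul_assoc, hk, ← mul_assoc, ← pow_add, mul_two]
    rw [h2, mul_assoc]

theorem mem_threeEight {g : GL (Fin 4) (ZMod 7)} (h : g ∈ ThreeEight) :
    ∃ i : Fin 3, ∃ j : Fin 8, g.val = tcA ^ (i : ℕ) * tcB ^ (j : ℕ) := by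
  have red : ∀ i j : ℕ, ∃ i' : Fin 3, ∃ j' : Fin 8,
      tcA ^ i * tcB ^ j = tcA ^ (i' : ℕ) * tcB ^ (j' : ℕ) := fun i j =>
    ⟨⟨i % 3, Nat.mod_lt _ (by norm_num)⟩, ⟨j % 8, Nat.mod_lt _ (by norm_num)⟩, by
      rw [← pow_eq_pow_mod i tc_rel.1, ← pow_eq_pow_mod j tc_rel.2.1]⟩
  rw [ThreeEight, ← Subgroup.mem_toSubmonoid, Subgroup.closure_toSubmonoid_of_finite] at h
  induction h using Submonoid.closure_induction_right with
  | one => exact ⟨0, 0, by simp⟩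
  | mul_right z _ y hy ih =>
    obtain ⟨i, j, hz⟩ := ih
    rcases hy with rfl | rfl
    · obtain ⟨k, hk⟩ := tc_move j
      obtain ⟨i', j', h'⟩ := red ((i : ℕ) + k) j
      refine ⟨i', j', ?_⟩
      rw [← h', Units.val_mul, hz, mul_assoc, show (tcAU.val : M₇) = tcA from rfl, hk, ← mul_assoc,
        ← pow_add]
    · obtain ⟨i', j', h'⟩ := red i ((j : ℕ) + 1)
      refine ⟨i', j', ?_⟩
      rw [← h', Units.val_mul, hz, mul_assoc, show (tcBU.val : M₇) = tcB from rfl, ← pow_succ]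

theorem threeEight_spec (c : ThreeEight) (hc : c ≠ 1) :
    IsUnit ((c : GL (Fin 4) (ZMod 7)).val - 1) ∧ (orderOf c ∣ 8 ∨ orderOf c ∣ 12) := by
  obtain ⟨i, j, hM⟩ := mem_threeEight c.2
  rcases tc_all i j with h | ⟨hd, h⟩
  · exact absurd (Subtype.ext (Units.ext (by rw [hM, h]; rfl))) hc
  · refine ⟨?_, ?_⟩
    · rw [hM, Matrix.isUnit_iff_isUnit_det]
      exact isUnit_iff_ne_zero.2 hd
    · have lift : ∀ k : ℕ, (tcA ^ (i : ℕ) * tcB ^ (j : ℕ)) ^ k = 1 → orderOf c ∣ k := fun k hk =>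
        orderOf_dvd_of_pow_eq_one (Subtype.ext (Units.ext (by simpa [hM] using hk)))
      exact h.imp (lift 8) (lift 12)

theorem threeEight_isSolvable : Group.IsSolvable ThreeEight := by
  have hall : ∀ r : ℕ, r.Prime → r ∣ Nat.card ThreeEight → r = 2 ∨ r = 3 := by
    intro r hr hd
    haveI := Fact.mk hr
    obtain ⟨c, hc⟩ := exists_prime_orderOf_dvd_card' (G := ThreeEight) r hd
    have hne : c ≠ 1 := fun h => hr.one_lt.ne' (by rw [← hc, h, orderOf_one])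
    rcases (threeEight_spec c hne).2 with h | h <;> rw [hc] at h <;>
      have := Nat.le_of_dvd (by norm_num) h <;> have := hr.two_le <;>
      interval_cases r <;> norm_num at *
  set N := Nat.card ThreeEight with hN
  have hN0 : N ≠ 0 := Nat.card_pos.ne'
  refine Cfsg.Agent.S0144.result 2 3 (N.factorization 2) (N.factorization 3) Nat.prime_two
    Nat.prime_three ?_
  refine Nat.eq_of_factorization_eq hN0 (by positivity) fun r => ?_
  rw [Nat.factorization_mul (by positivity) (by positivity), Finsupp.add_apply,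
    Nat.Prime.factorization_pow Nat.prime_two, Nat.Prime.factorization_pow Nat.prime_three]
  by_cases h2 : r = 2
  · subst h2; simp [N]
  by_cases h3 : r = 3
  · subst h3; simp [N]
  rw [Finsupp.single_eq_of_ne h2, Finsupp.single_eq_of_ne h3, add_zero]
  by_cases hr : r.Prime
  · exact Nat.factorization_eq_zero_of_not_dvd fun hd => by
      rcases hall r hr hd with h | h <;> contradiction
  · exact Nat.factorization_eq_zero_of_not_prime _ hr

theorem exists_orderOf_eight_twelve :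
    (∃ c : ThreeEight, orderOf c = 8) ∧ ∃ c : ThreeEight, orderOf c = 12 := by
  have hA : tcAU ∈ ThreeEight := Subgroup.subset_closure (by simp)
  have hB : tcBU ∈ ThreeEight := Subgroup.subset_closure (by simp)
  obtain ⟨-, h8, h4, -, h12, h6, h4'⟩ := tc_rel
  refine ⟨⟨⟨tcBU, hB⟩, ?_⟩, ⟨⟨tcAU * tcBU ^ 2, ThreeEight.mul_mem hA (ThreeEight.pow_mem hB 2)⟩, ?_⟩⟩
  · haveI : Fact (Nat.Prime 2) := ⟨Nat.prime_two⟩
    rw [Subgroup.orderOf_mk, ← orderOf_units]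
    show orderOf tcB = 2 ^ (2 + 1)
    exact orderOf_eq_prime_pow h4 h8
  · rw [Subgroup.orderOf_mk, ← orderOf_units, Units.val_mul, Units.val_pow_eq_pow_val]
    show orderOf (tcA * tcB ^ 2) = 12
    refine orderOf_eq_of_pow_and_pow_div_prime (by norm_num) h12 fun p hp hd => ?_
    rcases (show ∀ p ≤ 12, p.Prime → p ∣ 12 → p = 2 ∨ p = 3 by decide) p
      (Nat.le_of_dvd (by norm_num) hd) hp hd with rfl | rfl
    · exact h6
    · exact h4'

end Cfsg.Agent.H67
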