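import Cfsg.Agent.OddOrder.PF1.Clifford
import Cfsg.Agent.CharInduce.Ops
import Cfsg.Prelude.Def_DegreeGraph

/-!
A solvable group of order 6048 with an irreducible character of degree 42.
-/

set_option autoImplicit false
set_option maxRecDepth 100000

namespace Cfsg.Agent.H67.Solv6048

open Cfsg Cfsg.Agent.CharInduce

/-- The abelian normal subgroup, of order 144. -/
abbrev A : Type := (ZMod 2 × ZMod 2 × ZMod 2) × ZMod 2 × (ZMod 3 × ZMod 3)

/-- An automorphism of order 42. -/
def σ : A ≃+ A where
  toFun a := ((a.1.2.2, a.1.1 + a.1.2.2, a.1.2.1), a.2.1, (-a.2.2.1 - a.2.2.2, -a.2.2.2))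
  invFun a := ((a.1.2.1 + a.1.1, a.1.2.2, a.1.1), a.2.1, (-a.2.2.1 + a.2.2.2, -a.2.2.2))
  left_inv a := by
    obtain ⟨⟨u, v, w⟩, z, x, y⟩ := a
    simp [add_assoc, CharTwo.add_self_eq_zero]
  right_inv a := by
    obtain ⟨⟨u, v, w⟩, z, x, y⟩ := a
    simp [add_comm u, add_assoc, CharTwo.add_self_eq_zero]
  map_add' a b := by
    simp only [Prod.fst_add, Prod.snd_add, Prod.mk_add_mk, Prod.mk.injEq]
    refine ⟨⟨?_, ?_, ?_⟩, ?_, ?_, ?_⟩ <;> first | trivial | ring

/-- The multiplicative form. -/
def σM : MulAut (Multiplicative A) := AddEquiv.toMultiplicative σ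

theorem σM_apply (a : A) : σM (Multiplicative.ofAdd a) = Multiplicative.ofAdd (σ a) := rfl

theorem σM_pow_apply : ∀ (k : ℕ) (a : A),
    (σM ^ k) (Multiplicative.ofAdd a) = Multiplicative.ofAdd (σ^[k] a)
  | 0, a => rfl
  | k + 1, a => by
    rw [pow_succ', MulAut.mul_apply, σM_pow_apply k a, σM_apply, Function.iterate_succ_apply']

theorem σ_pow : ∀ a : A, σ^[42] a = a := by decide +kernel

theorem σM_pow : σM ^ 42 = 1 := by
  refine MulEquiv.ext fun a => ?_
  rw [← ofAdd_toAdd a, σM_pow_apply, σ_pow]
  rfl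

/-- The action. -/
def act : Multiplicative (ZMod 42) →* MulAut (Multiplicative A) where
  toFun k := σM ^ (Multiplicative.toAdd k).val
  map_one' := rfl
  map_mul' a b := by
    rw [← pow_add, show Multiplicative.toAdd (a * b) = Multiplicative.toAdd a + Multiplicative.toAdd b
      from rfl, ZMod.val_add]
    conv_rhs => rw [← Nat.mod_add_div ((Multiplicative.toAdd a).val + (Multiplicative.toAdd b).val) 42,
      pow_add, pow_mul, σM_pow, one_pow, mul_one]

/-- The group. -/
abbrev H : Type := SemidirectProduct (Multiplicative A) (Multiplicative (ZMod 42)) act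

noncomputable instance : Fintype H := Fintype.ofEquiv _ SemidirectProduct.equivProd.symm

theorem card_H : Nat.card H = 6048 := by
  rw [SemidirectProduct.card, Nat.card_congr Multiplicative.toAdd,
    Nat.card_congr (Multiplicative.toAdd (α := ZMod 42))]
  simp

theorem solvable_H : Group.IsSolvable H :=
  Group.isSolvable_of_ker_le_range SemidirectProduct.inl SemidirectProduct.rightHom
    (SemidirectProduct.range_inl_eq_ker_rightHom (φ := act)).ge

/-- The functional with trivial stabiliser. -/
def Φ : A →+ ZMod 6 where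
  toFun a := ((3 * a.1.1.val + 2 * a.2.2.1.val : ℕ) : ZMod 6)
  map_zero' := rfl
  map_add' a b := (show ∀ u u' : ZMod 2, ∀ x x' : ZMod 3,
      ((3 * (u + u').val + 2 * (x + x').val : ℕ) : ZMod 6) =
        ((3 * u.val + 2 * x.val : ℕ) : ZMod 6) + ((3 * u'.val + 2 * x'.val : ℕ) : ZMod 6) by
    decide +kernel) _ _ _ _

/-- The linear character. -/
noncomputable def lin : Multiplicative A →* ℂˣ :=
  MonoidHom.toHomUnits
    ((AddChar.toMonoidHom (ZMod.stdAddChar (N := 6))).comp (AddMonoidHom.toMultiplicative Φ))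

theorem lin_eq_iff (a b : A) :
    lin (Multiplicative.ofAdd a) = lin (Multiplicative.ofAdd b) ↔ Φ a = Φ b := by
  rw [Units.ext_iff]
  exact (ZMod.injective_stdAddChar (N := 6)).eq_iff

/-- Test vectors. -/
def basisA : List A :=
  [((1, 0, 0), 0, (0, 0)), ((0, 1, 0), 0, (0, 0)), ((0, 0, 1), 0, (0, 0)), ((0, 0, 0), 0, (1, 0)),
    ((0, 0, 0), 0, (0, 1))]

theorem free_orbit : (List.range 42).all (fun k => k == 0 || basisA.any fun a => Φ (σ^[k] a) != Φ a) = true := by
  decide +kernel

/-- The normal subgroup. -/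
abbrev N : Subgroup H := (SemidirectProduct.inl (φ := act)).range

/-- The linear character on the normal subgroup. -/
noncomputable def linN : N →* ℂˣ :=
  lin.comp (MonoidHom.ofInjective (SemidirectProduct.inl_injective (φ := act))).symm.toMonoidHom

theorem linN_inl (a : Multiplicative A) : linN ⟨SemidirectProduct.inl a, a, rfl⟩ = lin a := by
  show lin ((MonoidHom.ofInjective (SemidirectProduct.inl_injective (φ := act))).symm _) = lin a
  congr 1
  rw [MulEquiv.symm_apply_eq]
  rfl

theorem inertia_eq [N.Normal] : inertia N (fun n : N => (linN n : ℂ)) = N := by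
  refine le_antisymm (fun x hx => ?_) (le_inertia N
    (CharBasic.IsIrr.isClassFunction (isIrrCharacter_hom linN)))
  show x ∈ (SemidirectProduct.inl (φ := act)).range
  rw [SemidirectProduct.range_inl_eq_ker_rightHom, MonoidHom.mem_ker, SemidirectProduct.rightHom_eq_right]
  by_contra hne
  set k := (Multiplicative.toAdd x.right).val with hk
  have hk42 : k < 42 := ZMod.val_lt _
  have hk0 : k ≠ 0 := by
    intro h0
    exact hne (Multiplicative.toAdd.injective ((ZMod.val_eq_zero _).1 h0))
  have h := free_orbit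
  simp only [List.all_eq_true, List.mem_range, Bool.or_eq_true, beq_iff_eq, List.any_eq_true,
    bne_iff_ne] at h
  obtain ⟨a, -, ha⟩ := (h k hk42).resolve_left hk0
  refine ha ((lin_eq_iff _ _).1 (Units.ext ?_))
  have h1 := congrFun ((mem_inertia N).1 hx) ⟨SemidirectProduct.inl (Multiplicative.ofAdd a), _, rfl⟩
  simp only [conjFun] at h1
  rw [linN_inl] at h1
  rw [← h1, ← σM_pow_apply, ← linN_inl]
  congr 2
  refine Subtype.ext ?_
  show SemidirectProduct.inl ((σM ^ k) (Multiplicative.ofAdd a)) =
    x * SemidirectProduct.inl (Multiplicative.ofAdd a) * x⁻¹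
  refine SemidirectProduct.ext ?_ ?_
  · simp only [SemidirectProduct.mul_left, SemidirectProduct.mul_right, SemidirectProduct.inv_left,
      SemidirectProduct.left_inl, SemidirectProduct.right_inl, mul_one, ← MulAut.mul_apply, ← map_mul,
      mul_inv_cancel, map_one, MulAut.one_apply]
    rw [show act x.right = σM ^ k from rfl, mul_comm x.left, mul_inv_cancel_right]
  · simp

theorem exists_irr42 : ∃ χ : Cfsg.IrrCharacter H, Cfsg.charDegree (χ : H → ℂ) = 42 := by
  classical
  haveI : N.Normal := by
    rw [show N = _ from SemidirectProduct.range_inl_eq_ker_rightHom (φ := act)]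
    infer_instance
  have hlin := isIrrCharacter_hom linN
  have hnorm : Cfsg.classInner (indFun N fun n : N => (linN n : ℂ)) (indFun N fun n : N => (linN n : ℂ)) = 1 := by
    rw [OddOrder.PF1.classInner_indFun_self N hlin, inertia_eq]
    exact inv_mul_cancel₀ (Nat.cast_ne_zero.2 Nat.card_pos.ne')
  refine ⟨⟨_, isIrr_of_norm_one (IsChar.ind N (isCharacter_hom linN)) hnorm⟩, ?_⟩
  have hidx : N.index = 42 := by
    rw [show N = _ from SemidirectProduct.range_inl_eq_ker_rightHom (φ := act), Subgroup.index_ker,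
      MonoidHom.range_eq_top.2 SemidirectProduct.rightHom_surjective, Nat.card_congr
        Subgroup.topEquiv.toEquiv, Nat.card_congr (Multiplicative.toAdd (α := ZMod 42)), Nat.card_zmod]
  show ⌊(indFun N (fun n : N => (linN n : ℂ)) 1).re⌋₊ = 42
  rw [indFun_one, hidx]
  simp

end Cfsg.Agent.H67.Solv6048
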