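import Mathlib

set_option autoImplicit false

namespace Cfsg.Agent.H67

/-- If two homomorphisms to an abelian-by-... agree modulo a subgroup of exponent `p`, orders of images differ by a factor dividing `p`. -/
theorem orderOf_dvd_mul_of_mem {G : Type*} [Group G] (V : Subgroup G) [V.Normal] (p : ℕ)
    (hexp : ∀ x ∈ V, x ^ p = 1) (a b : G) (h : a⁻¹ * b ∈ V) : orderOf b ∣ p * orderOf a := by
  have hq : (QuotientGroup.mk' V) a = (QuotientGroup.mk' V) b := (QuotientGroup.eq).2 h
  have h1 : (QuotientGroup.mk' V) (b ^ orderOf a) = 1 := by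
    rw [map_pow, ← hq, ← map_pow, pow_orderOf_eq_one, map_one]
  have h2 : b ^ orderOf a ∈ V := (QuotientGroup.eq_one_iff _).1 h1
  apply orderOf_dvd_of_pow_eq_one
  rw [mul_comm, pow_mul]
  exact hexp _ h2

theorem lcm_eq_right_or_left {m n p : ℕ} (hp : p.Prime) (hm : m ∣ p * n) (hn : n ∣ p * m) :
    Nat.lcm m n = n ∨ Nat.lcm m n = m := by
  rcases Nat.eq_zero_or_pos n with h0 | h0
  · left; simp [h0]
  by_cases h : m ∣ n
  · left
    exact Nat.dvd_antisymm (Nat.lcm_dvd h dvd_rfl) (Nat.dvd_lcm_right m n)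
  · right
    have hL : Nat.lcm m n ∣ p * n := Nat.lcm_dvd hm (dvd_mul_left n p)
    obtain ⟨k, hk⟩ := Nat.dvd_lcm_right m n
    have hk' : k ∣ p := by
      rw [hk, mul_comm p n] at hL
      exact Nat.dvd_of_mul_dvd_mul_left h0 hL
    rcases (Nat.dvd_prime hp).1 hk' with hk1 | hkp
    · exact absurd (by rw [hk1, mul_one] at hk; exact hk ▸ Nat.dvd_lcm_left m n) h
    · subst hkp
      have hm0 : 0 < m := Nat.pos_of_ne_zero (fun hm0 => by
        subst hm0; simp only [Nat.lcm_zero_left] at hk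
        rcases Nat.mul_eq_zero.1 hk.symm with h1 | h1
        · omega
        · exact hp.ne_zero h1)
      -- `n ∣ p * m` and `lcm m n = n * p`; show `n ∣ m`
      suffices n ∣ m from Nat.dvd_antisymm (Nat.lcm_dvd dvd_rfl this) (Nat.dvd_lcm_left m n)
      have hg : Nat.gcd m n * Nat.lcm m n = m * n := Nat.gcd_mul_lcm m n
      rw [hk] at hg
      have hmk : m = Nat.gcd m n * k := by
        apply Nat.eq_of_mul_eq_mul_right h0
        rw [← hg]; ring
      obtain ⟨c, hc⟩ := Nat.gcd_dvd_right m n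
      -- n = g c, m = g p, gcd(p, c) = 1, c ∣ p^2
      have hg0 : 0 < Nat.gcd m n := Nat.gcd_pos_of_pos_left n hm0
      have hcop : Nat.gcd k c = 1 := by
        have h2 : Nat.gcd (Nat.gcd m n * k) (Nat.gcd m n * c) = Nat.gcd m n := by
          rw [← hmk, ← hc]
        rw [Nat.gcd_mul_left] at h2
        exact Nat.eq_of_mul_eq_mul_left hg0 (h2.trans (mul_one _).symm)
      have hcd : c ∣ k * k := by
        apply Nat.dvd_of_mul_dvd_mul_left hg0
        calc Nat.gcd m n * c = n := hc.symm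
          _ ∣ k * m := hn
          _ = Nat.gcd m n * (k * k) := by
            calc k * m = k * (Nat.gcd m n * k) := by rw [← hmk]
              _ = Nat.gcd m n * (k * k) := by ring
      have hc1 : c = 1 := Nat.Coprime.eq_one_of_dvd
        ((Nat.Coprime.mul_right (Nat.Coprime.symm hcop) (Nat.Coprime.symm hcop))) hcd
      rw [hc1, mul_one] at hc
      exact hc.symm ▸ Nat.gcd_dvd_left m n

theorem spectrum_semidirect {G : Type*} [Group G] [Finite G] (V : Subgroup G) [V.Normal] (p : ℕ)
    (hp : p.Prime) (hexp : ∀ x : V, x ^ p = 1) :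
    Set.range (orderOf : V ⋊[MulAut.conjNormal] G → ℕ) = Set.range (orderOf : G → ℕ) := by
  have hexp' : ∀ x ∈ V, x ^ p = 1 := fun x hx => by
    have := congrArg Subtype.val (hexp ⟨x, hx⟩); simpa using this
  let φ : V ⋊[MulAut.conjNormal] G →* G := SemidirectProduct.lift V.subtype (MonoidHom.id G) (by
    intro g; ext v; simp)
  ext n
  constructor
  · rintro ⟨x, rfl⟩
    have hinj : ∀ k : ℕ, x ^ k = 1 ↔ (φ x) ^ k = 1 ∧ x.right ^ k = 1 := by
      intro k
      constructor
      · intro h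
        refine ⟨by rw [← map_pow, h, map_one], ?_⟩
        have := congrArg SemidirectProduct.rightHom h
        simpa [map_pow] using this
      · rintro ⟨h1, h2⟩
        have hr : (x ^ k).right = 1 := by
          have : SemidirectProduct.rightHom (x ^ k) = x.right ^ k := map_pow _ _ _
          simpa [h2] using this
        have hl : φ (x ^ k) = 1 := by rw [map_pow, h1]
        rw [show φ (x ^ k) = ((x ^ k).left : G) * (x ^ k).right from rfl, hr, mul_one] at hl
        apply SemidirectProduct.ext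
        · exact Subtype.ext (by simpa using hl)
        · simpa using hr
    have ho : orderOf x = Nat.lcm (orderOf (φ x)) (orderOf x.right) := by
      refine Nat.dvd_antisymm ?_ (Nat.lcm_dvd ?_ ?_)
      · apply orderOf_dvd_of_pow_eq_one
        rw [hinj]
        exact ⟨orderOf_dvd_iff_pow_eq_one.1 (Nat.dvd_lcm_left _ _),
          orderOf_dvd_iff_pow_eq_one.1 (Nat.dvd_lcm_right _ _)⟩
      · exact orderOf_map_dvd φ x
      · exact orderOf_map_dvd SemidirectProduct.rightHom x
    have hm : x.right⁻¹ * φ x ∈ V := by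
      show x.right⁻¹ * ((x.left : G) * x.right) ∈ V
      have := (inferInstance : V.Normal).conj_mem _ x.left.2 x.right⁻¹
      simpa [mul_assoc] using this
    have hm' : (φ x)⁻¹ * x.right ∈ V := by
      have := V.inv_mem hm; simpa using this
    rcases lcm_eq_right_or_left hp (orderOf_dvd_mul_of_mem V p hexp' _ _ hm)
        (orderOf_dvd_mul_of_mem V p hexp' _ _ hm') with h | h
    · exact ⟨x.right, by rw [ho, h]⟩
    · exact ⟨φ x, by rw [ho, h]⟩
  · rintro ⟨g, rfl⟩
    exact ⟨SemidirectProduct.inr g, orderOf_injective _ SemidirectProduct.inr_injective g⟩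

/-- The normal subgroup `V` embedded in `V ⋊ G`. -/
theorem exists_larger {G : Type} [Group G] [Finite G] (h : ∃ (V : Subgroup G) (p : ℕ),
      V.Normal ∧ V ≠ ⊥ ∧ p.Prime ∧ ∀ x : V, x ^ p = 1) :
    ∃ (H : Type) (_ : Group H) (_ : Finite H), 2 * Nat.card G ≤ Nat.card H ∧
      Set.range (orderOf : H → ℕ) = Set.range (orderOf : G → ℕ) ∧
      ∃ (W : Subgroup H) (p : ℕ), W.Normal ∧ W ≠ ⊥ ∧ p.Prime ∧ ∀ x : W, x ^ p = 1 := by
  obtain ⟨V, p, hV, hne, hp, hexp⟩ := h
  have hfin : Finite (V ⋊[MulAut.conjNormal (H := V)] G) :=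
    Finite.of_equiv _ SemidirectProduct.equivProd.symm
  refine ⟨V ⋊[MulAut.conjNormal] G, inferInstance, hfin, ?_, spectrum_semidirect V p hp hexp, ?_⟩
  · rw [SemidirectProduct.card]
    exact Nat.mul_le_mul_right _ (V.one_lt_card_iff_ne_bot.2 hne)
  · refine ⟨(SemidirectProduct.inl : V →* V ⋊[MulAut.conjNormal] G).range, p, ?_, ?_, hp, ?_⟩
    · rw [SemidirectProduct.range_inl_eq_ker_rightHom]
      exact MonoidHom.normal_ker _
    · intro h
      apply hne
      rw [Subgroup.eq_bot_iff_forall]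
      intro v hv
      have : (SemidirectProduct.inl (⟨v, hv⟩ : V) : V ⋊[MulAut.conjNormal] G) ∈
          (SemidirectProduct.inl : V →* V ⋊[MulAut.conjNormal] G).range := ⟨_, rfl⟩
      rw [h, Subgroup.mem_bot, ← map_one SemidirectProduct.inl, SemidirectProduct.inl_inj] at this
      exact congrArg Subtype.val this
    · rintro ⟨_, v, rfl⟩
      apply Subtype.ext
      simp [← map_pow, hexp]

theorem exists_arbitrarily_large {G : Type} [Group G] [Finite G] (h : ∃ (V : Subgroup G) (p : ℕ),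
      V.Normal ∧ V ≠ ⊥ ∧ p.Prime ∧ ∀ x : V, x ^ p = 1) (N : ℕ) :
    ∃ (H : Type) (_ : Group H) (_ : Finite H), N ≤ Nat.card H ∧
      Set.range (orderOf : H → ℕ) = Set.range (orderOf : G → ℕ) ∧
      ∃ (W : Subgroup H) (p : ℕ), W.Normal ∧ W ≠ ⊥ ∧ p.Prime ∧ ∀ x : W, x ^ p = 1 := by
  induction N with
  | zero => exact ⟨G, inferInstance, inferInstance, Nat.zero_le _, rfl, h⟩
  | succ N ih =>
    obtain ⟨H, iH, fH, hN, hs, hW⟩ := ih
    obtain ⟨H', iH', fH', hc, hs', hW'⟩ := exists_larger hW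
    refine ⟨H', iH', fH', ?_, hs'.trans hs, hW'⟩
    have : 1 ≤ Nat.card H := Nat.card_pos
    omega

theorem range_orderOf_congr {G H : Type*} [Group G] [Group H] (e : G ≃* H) :
    Set.range (orderOf : G → ℕ) = Set.range (orderOf : H → ℕ) := by
  ext n
  constructor
  · rintro ⟨g, rfl⟩; exact ⟨e g, e.orderOf_eq g⟩
  · rintro ⟨h, rfl⟩; exact ⟨e.symm h, e.symm.orderOf_eq h⟩

end Cfsg.Agent.H67
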