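import Mathlib

/-!
A computable field with sixteen elements and hermitian arithmetic on codes.
-/

set_option autoImplicit false
set_option maxRecDepth 100000

namespace Cfsg.Agent.H67.U34

open Matrix

/-- The coefficient of the first extension. -/
def one2 : ZMod 2 := 1

/-- The field with four elements. -/
abbrev K4 : Type := QuadraticAlgebra (ZMod 2) one2 one2

/-- A primitive cube root of one. -/
def w4 : K4 := ⟨0, 1⟩

/-- The linear coefficient of the second extension. -/
def one4 : K4 := 1

/-- The field with sixteen elements. -/
def K16 : Type := QuadraticAlgebra K4 w4 one4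

/-- The ring structure. -/
instance commRingK16 : CommRing K16 := inferInstanceAs (CommRing (QuadraticAlgebra K4 w4 one4))

/-- Equality is decidable. -/
instance decEqK16 : DecidableEq K16 := inferInstanceAs (DecidableEq (QuadraticAlgebra K4 w4 one4))

/-- The enumeration of the field with four elements. -/
@[reducible] def fintypeK4 : Fintype K4 := Fintype.ofEquiv _ (QuadraticAlgebra.equivProd one2 one2).symm

attribute [local instance] fintypeK4

/-- The enumeration of the field. -/
@[reducible] def fintypeK16 : Fintype K16 :=
  Fintype.ofEquiv _ ((QuadraticAlgebra.equivProd w4 one4).symm : K4 × K4 ≃ K16)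

attribute [local instance] fintypeK16

/-- The code of an element. -/
def ecode (x : K16) : ℕ := (QuadraticAlgebra.re x).re.val + 2 * (QuadraticAlgebra.re x).im.val + 4 * (QuadraticAlgebra.im x).re.val +
  8 * (QuadraticAlgebra.im x).im.val

/-- The element of a code. -/
def edec (n : ℕ) : K16 :=
  ⟨⟨((n % 2 : ℕ) : ZMod 2), ((n / 2 % 2 : ℕ) : ZMod 2)⟩, ⟨((n / 4 % 2 : ℕ) : ZMod 2), ((n / 8 % 2 : ℕ) : ZMod 2)⟩⟩

/-- The multiplication table, four bits per entry. -/
def mulTab : ℕ := 105869934573458929506328375061315679171845852290158294152364606998566138674788542437607012108590681290039201854413661647678221215878256740644142704492826533379271178812567475734100749217218550151073389438700294400309340617321998747341553871339115878427482513263866732641709495414604747141407345988080972595200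

/-- The conjugation table. -/
def barTab : ℕ := 14839247223573000720

/-- Sum of codes. -/
def cadd (a b : ℕ) : ℕ := a ^^^ b

/-- Product of codes. -/
def cmul (a b : ℕ) : ℕ := (mulTab >>> (4 * (16 * a + b))) % 16

/-- Conjugate of a code. -/
def cbar (a : ℕ) : ℕ := (barTab >>> (4 * a)) % 16

theorem code_facts : (∀ x : K16, edec (ecode x) = x ∧ ecode x < 16) ∧
    (∀ x y : K16, ecode (x + y) = cadd (ecode x) (ecode y)) ∧
    (∀ x y : K16, ecode (x * y) = cmul (ecode x) (ecode y)) ∧
    (∀ x : K16, ecode (x ^ 4) = cbar (ecode x)) ∧
    (∀ n < 16, ecode (edec n) = n) ∧ ecode 0 = 0 ∧ ecode 1 = 1 := by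
  decide +kernel

end Cfsg.Agent.H67.U34
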