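import Cfsg.Agent.H67.U34Data

/-!
Orthonormal frames of the unitary space of dimension three over sixteen elements.
-/

set_option autoImplicit false
set_option maxRecDepth 100000
set_option maxHeartbeats 0
set_option Elab.async false

namespace Cfsg.Agent.H67.U34

open Matrix

attribute [local instance] fintypeK4 fintypeK16

/-- Hermitian product of coded vectors. -/
def hermN (a b : ℕ) : ℕ :=
  cadd (cadd (cmul (a % 16) (cbar (b % 16))) (cmul (a / 16 % 16) (cbar (b / 16 % 16))))
    (cmul (a / 256 % 16) (cbar (b / 256 % 16)))

/-- Scalar multiple of a coded vector. -/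
def smulN (c a : ℕ) : ℕ := cmul c (a % 16) + 16 * cmul c (a / 16 % 16) + 256 * cmul c (a / 256 % 16)

/-- A column of a coded matrix. -/
def colN (m : List ℕ) (j : ℕ) : ℕ := m.getD j 0 + 16 * m.getD (3 + j) 0 + 256 * m.getD (6 + j) 0

/-- An entry of a product of coded matrices. -/
def entN (a b : List ℕ) (i j : ℕ) : ℕ :=
  cadd (cadd (cmul (a.getD (3 * i) 0) (b.getD j 0)) (cmul (a.getD (3 * i + 1) 0) (b.getD (3 + j) 0)))
    (cmul (a.getD (3 * i + 2) 0) (b.getD (6 + j) 0))

/-- A product of coded matrices. -/
def mulN (a b : List ℕ) : List ℕ :=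
  [entN a b 0 0, entN a b 0 1, entN a b 0 2, entN a b 1 0, entN a b 1 1, entN a b 1 2, entN a b 2 0,
    entN a b 2 1, entN a b 2 2]

/-- The form and the determinant of a coded matrix. -/
def goodN (m : List ℕ) : Bool :=
  ((List.range 3).all fun i => (List.range 3).all fun j =>
      hermN (colN m i) (colN m j) == if i == j then 1 else 0) &&
    (cadd (cadd (cadd (cadd (cadd
      (cmul (cmul (m.getD 0 0) (m.getD 4 0)) (m.getD 8 0))
      (cmul (cmul (m.getD 0 0) (m.getD 5 0)) (m.getD 7 0)))
      (cmul (cmul (m.getD 1 0) (m.getD 3 0)) (m.getD 8 0)))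
      (cmul (cmul (m.getD 1 0) (m.getD 5 0)) (m.getD 6 0)))
      (cmul (cmul (m.getD 2 0) (m.getD 3 0)) (m.getD 7 0)))
      (cmul (cmul (m.getD 2 0) (m.getD 4 0)) (m.getD 6 0)) == 1)

/-- A frame. -/
def frame (r i : ℕ) : List ℕ := (frameGroups.getD r []).getD i []

/-- Orbits of the element of order 13. -/
def orbitsOK : Bool :=
  (List.range 64).all fun r => (List.range 13).all fun i =>
    mulN sC (frame r i) == frame r ((i + 1) % 13)

theorem orbits_ok : orbitsOK = true := by decide +kernel

/-- The point list covers the vectors of norm one. -/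
def normOneOK : Bool :=
  ((List.range 4096).filter (fun n => hermN n n == 1) == normOne.map (fun e => e.1)) &&
    normOne.all fun e => (e.2.1 < 208) && (e.2.2 < 16) && (smulN e.2.2 (pointC.getD e.2.1 0) == e.1)

theorem normOne_ok : normOneOK = true := by decide +kernel

/-- The frames are special unitary and consist of the listed points. -/
def framesOK : Bool :=
  (List.range 64).all fun r => (List.range 13).all fun i =>
    goodN (frame r i) &&
      (List.range 3).all fun j =>
        let e := ((framePts.getD r []).getD i []).getD j (0, 0)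
        (0 < e.2) && (e.2 < 16) && (e.1 < 208) && (smulN e.2 (pointC.getD e.1 0) == colN (frame r i) j)

theorem frames_ok : framesOK = true := by decide +kernel

end Cfsg.Agent.H67.U34
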