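import Cfsg.Agent.H67.U34Kernel

/-!
The special unitary group over sixteen elements and the vanishing orbit sums of the invariant kernel.
-/

set_option autoImplicit false
set_option maxRecDepth 100000
set_option maxHeartbeats 1000000

namespace Cfsg.Agent.H67.U34

open Matrix

attribute [local instance] fintypeK4 fintypeK16

instance finiteK16 : Finite K16 := Finite.of_fintype K16

/-- Vectors. -/
abbrev V16 : Type := Fin 3 → K16

/-- Matrices. -/
abbrev M16 : Type := Matrix (Fin 3) (Fin 3) K16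

/-- The code of a vector. -/
def enc (v : V16) : ℕ := ecode (v 0) + 16 * ecode (v 1) + 256 * ecode (v 2)

/-- The vector of a code. -/
def dec (n : ℕ) : V16 := ![edec (n % 16), edec (n / 16 % 16), edec (n / 256 % 16)]

theorem ecode_lt (x : K16) : ecode x < 16 := (code_facts.1 x).2

theorem ecode_inj {x y : K16} (h : ecode x = ecode y) : x = y := by
  rw [← (code_facts.1 x).1, h, (code_facts.1 y).1]

theorem enc_coord (v : V16) : ecode (v 0) = enc v % 16 ∧ ecode (v 1) = enc v / 16 % 16 ∧
    ecode (v 2) = enc v / 256 % 16 := by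
  have := ecode_lt (v 0); have := ecode_lt (v 1); have := ecode_lt (v 2)
  simp only [enc]
  omega

theorem enc_lt (v : V16) : enc v < 4096 := by
  have := ecode_lt (v 0); have := ecode_lt (v 1); have := ecode_lt (v 2)
  simp only [enc]
  omega

theorem enc_inj {u v : V16} (h : enc u = enc v) : u = v := by
  obtain ⟨u0, u1, u2⟩ := enc_coord u
  obtain ⟨v0, v1, v2⟩ := enc_coord v
  exact funext (Fin.forall_fin_succ.2 ⟨ecode_inj (by rw [u0, v0, h]), Fin.forall_fin_two.2
    ⟨ecode_inj (by show ecode (u 1) = ecode (v 1); rw [u1, v1, h]),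
      ecode_inj (by show ecode (u 2) = ecode (v 2); rw [u2, v2, h])⟩⟩)

/-- The hermitian form. -/
def herm (u v : V16) : K16 := u 0 * v 0 ^ 4 + u 1 * v 1 ^ 4 + u 2 * v 2 ^ 4

theorem ecode_herm (u v : V16) : ecode (herm u v) = hermN (enc u) (enc v) := by
  obtain ⟨u0, u1, u2⟩ := enc_coord u
  obtain ⟨v0, v1, v2⟩ := enc_coord v
  simp only [herm, hermN, code_facts.2.1, code_facts.2.2.1, code_facts.2.2.2.1, u0, u1, u2, v0, v1, v2]

theorem enc_smul (c : K16) (v : V16) : enc (c • v) = smulN (ecode c) (enc v) := by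
  obtain ⟨v0, v1, v2⟩ := enc_coord v
  rw [smulN, ← v0, ← v1, ← v2]
  simp only [enc, Pi.smul_apply, smul_eq_mul, code_facts.2.2.1]

theorem field_facts : (∀ x : K16, x ≠ 0 → x * x ^ 14 = 1) ∧ (∀ x y : K16, x * y = 0 → x = 0 ∨ y = 0) := by
  decide +kernel

theorem char_two : ∀ x : K16, -x = x := by decide +kernel

theorem pow_four_add (x y : K16) : (x + y) ^ 4 = x ^ 4 + y ^ 4 := by
  have h2 : (2 : K16) = 0 := by decide +kernel
  linear_combination (2 * x ^ 3 * y + 3 * x ^ 2 * y ^ 2 + 2 * x * y ^ 3) * h2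

theorem herm_smul (c d : K16) (u v : V16) : herm (c • u) (d • v) = c * d ^ 4 * herm u v := by
  simp only [herm, Pi.smul_apply, smul_eq_mul, mul_pow]
  ring

/-- A column. -/
def col (a : M16) (j : Fin 3) : V16 := fun i => a i j

theorem col_mul (g a : M16) (j : Fin 3) : col (g * a) j = g *ᵥ col a j := by
  funext i
  simp [col, Matrix.mul_apply, Matrix.mulVec, dotProduct]

/-- Preserving the form with determinant one. -/
def Good (M : M16) : Prop := Mᵀ * M.map (· ^ 4) = 1 ∧ M.det = 1

theorem herm_col_general {R : Type*} [CommRing R] {M : Matrix (Fin 3) (Fin 3) R}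
    (hM : Mᵀ * M.map (· ^ 4) = 1) (i j : Fin 3) :
    M 0 i * M 0 j ^ 4 + M 1 i * M 1 j ^ 4 + M 2 i * M 2 j ^ 4 = if i = j then 1 else 0 := by
  have h := congrFun (congrFun hM i) j
  simpa [Matrix.mul_apply, Fin.sum_univ_three, Matrix.one_apply] using h

theorem herm_col {M : M16} (hM : Good M) (i j : Fin 3) : herm (col M i) (col M j) = if i = j then 1 else 0 :=
  herm_col_general hM.1 i j

theorem herm_mulVec_general {R : Type*} [CommRing R] (f : R →+* R) {M : Matrix (Fin 3) (Fin 3) R}
    (hM : Mᵀ * M.map f = 1) (u v : Fin 3 → R) :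
    (M *ᵥ u) ⬝ᵥ (f ∘ (M *ᵥ v)) = u ⬝ᵥ (f ∘ v) := by
  have h : f ∘ (M *ᵥ v) = M.map f *ᵥ (f ∘ v) := funext fun i => RingHom.map_mulVec f M v i
  rw [h, ← Matrix.vecMul_transpose M u, ← Matrix.dotProduct_mulVec, Matrix.mulVec_mulVec, hM,
    Matrix.one_mulVec]

/-- The fourth power as a ring homomorphism. -/
def frobOf {R : Type*} [CommRing R] (h : ∀ x y : R, (x + y) ^ 4 = x ^ 4 + y ^ 4) : R →+* R where
  toFun x := x ^ 4
  map_one' := one_pow 4
  map_mul' x y := mul_pow x y 4
  map_zero' := zero_pow (by norm_num)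
  map_add' := h

theorem dot_frobOf {R : Type*} [CommRing R] (h : ∀ x y : R, (x + y) ^ 4 = x ^ 4 + y ^ 4) (u v : Fin 3 → R) :
    u ⬝ᵥ (frobOf h ∘ v) = u 0 * v 0 ^ 4 + u 1 * v 1 ^ 4 + u 2 * v 2 ^ 4 := by
  simp [dotProduct, Fin.sum_univ_three, frobOf]

theorem herm_mulVec {M : M16} (hM : Good M) (u v : V16) : herm (M *ᵥ u) (M *ᵥ v) = herm u v := by
  have h := herm_mulVec_general (frobOf pow_four_add) hM.1 u v
  rw [dot_frobOf, dot_frobOf] at h
  exact h

/-- The cyclic sum of hermitian products. -/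
def evH (p q : Fin 3 → V16) : K16 :=
  herm (p 0) (q 0) * herm (p 1) (q 1) * herm (p 2) (q 2) +
    herm (p 0) (q 1) * herm (p 1) (q 2) * herm (p 2) (q 0) +
    herm (p 0) (q 2) * herm (p 1) (q 0) * herm (p 2) (q 1)

/-- The invariant of a pair of matrices. -/
def ev (a b : M16) : K16 := evH (col a) (col b)

theorem evH_smul (c d : Fin 3 → K16) (p q : Fin 3 → V16) :
    evH (fun j => c j • p j) (fun j => d j • q j) =
      (c 0 * c 1 * c 2) * (d 0 * d 1 * d 2) ^ 4 * evH p q := by
  simp only [evH, herm_smul]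
  ring

theorem evH_shift (k : Fin 3) (p q : Fin 3 → V16) :
    evH (fun j => p (j + k)) q = evH p q ∧ evH p (fun j => q (j + k)) = evH p q := by
  fin_cases k <;> simp [evH] <;> constructor <;> ring

/-- Two matrices with the same columns up to scalars and a cyclic shift. -/
def Rel (a a' : M16) : Prop := ∃ (k : Fin 3) (c : Fin 3 → K16), ∀ j, col a j = c j • col a' (j + k)

theorem prod_scalars {a a' : M16} {k : Fin 3} {c : Fin 3 → K16} (h : ∀ j, col a j = c j • col a' (j + k))
    (ha : a.det = 1) (ha' : a'.det = 1) : c 0 * c 1 * c 2 = 1 := by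
  have he : ∀ i j, a i j = c j * a' i (j + k) := fun i j => congrFun (h j) i
  rw [Matrix.det_fin_three] at ha ha'
  simp only [he] at ha
  fin_cases k <;> simp at ha <;> linear_combination ha - (c 0 * c 1 * c 2) * ha'

theorem ev_left {a a' b : M16} (h : Rel a a') (ha : a.det = 1) (ha' : a'.det = 1) : ev a b = ev a' b := by
  obtain ⟨k, c, hc⟩ := h
  have := evH_smul c (fun _ => 1) (fun j => col a' (j + k)) (col b)
  simp only [one_smul, one_mul, mul_one, one_pow, prod_scalars hc ha ha'] at this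
  rw [ev, show col a = fun j => c j • col a' (j + k) from funext hc, this, (evH_shift k _ _).1]
  rfl

theorem ev_right {a b b' : M16} (h : Rel b b') (hb : b.det = 1) (hb' : b'.det = 1) : ev a b = ev a b' := by
  obtain ⟨k, c, hc⟩ := h
  have := evH_smul (fun _ => 1) c (col a) (fun j => col b' (j + k))
  simp only [one_smul, one_mul, mul_one, one_pow, prod_scalars hc hb hb'] at this
  rw [ev, show col b = fun j => c j • col b' (j + k) from funext hc, this, (evH_shift k _ _).2]
  rfl

theorem rel_mul {a a' : M16} (g : M16) (h : Rel a a') : Rel (g * a) (g * a') := by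
  obtain ⟨k, c, hc⟩ := h
  exact ⟨k, c, fun j => by rw [col_mul, col_mul, hc, Matrix.mulVec_smul]⟩

theorem ev_invariant {g : M16} (hg : Good g) (a b : M16) : ev (g * a) (g * b) = ev a b := by
  simp only [ev, evH, col_mul, herm_mulVec hg]

/-- The kernel. -/
def psi (a b : M16) : ZMod 5 := (((fPack >>> (4 * ecode (ev a b))) % 16 : ℕ) : ZMod 5)

/-- The matrix of a code. -/
def mdec (m : List ℕ) : M16 := Matrix.of fun i j => edec (m.getD (3 * i.val + j.val) 0 % 16)

/-- The frames as matrices. -/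
def F (r i : ℕ) : M16 := mdec (frame r i)

/-- The codes are in range. -/
def rangeOK : Bool :=
  (sC :: tC :: wC :: frameGroups.flatten).all fun m => m.length == 9 && m.all fun x => x < 16

theorem range_ok : rangeOK = true := by decide +kernel

theorem getD_lt {m : List ℕ} (h : ∀ x ∈ m, x < 16) (k : ℕ) : m.getD k 0 < 16 := by
  rcases lt_or_ge k m.length with hk | hk
  · rw [List.getD_eq_getElem _ _ hk]; exact h _ (List.getElem_mem hk)
  · rw [List.getD_eq_default _ _ hk]; norm_num

theorem frame_lt {r i : ℕ} (k : ℕ) : (frame r i).getD k 0 < 16 := by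
  have h := range_ok
  simp only [rangeOK, List.all_eq_true, List.mem_cons, Bool.and_eq_true, decide_eq_true_eq] at h
  rw [frame]
  rcases lt_or_ge r frameGroups.length with hr | hr
  · rcases lt_or_ge i (frameGroups.getD r []).length with hi | hi
    · refine getD_lt (h _ (Or.inr (Or.inr (Or.inr ?_)))).2 k
      rw [List.getD_eq_getElem _ _ hr] at hi ⊢
      rw [List.getD_eq_getElem _ _ hi]
      exact List.mem_flatten.2 ⟨_, List.getElem_mem hr, List.getElem_mem hi⟩
    · rw [List.getD_eq_default _ _ hi]; simp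
  · rw [List.getD_eq_default _ _ hr]; simp

theorem enc_col_mdec (m : List ℕ) (hm : ∀ k, m.getD k 0 < 16) (j : Fin 3) :
    enc (col (mdec m) j) = colN m j.val := by
  simp only [enc, col, mdec, Matrix.of_apply, colN]
  rw [code_facts.2.2.2.2.1 _ (Nat.mod_lt _ (by norm_num)), code_facts.2.2.2.2.1 _ (Nat.mod_lt _ (by norm_num)),
    code_facts.2.2.2.2.1 _ (Nat.mod_lt _ (by norm_num)), Nat.mod_eq_of_lt (hm _), Nat.mod_eq_of_lt (hm _),
    Nat.mod_eq_of_lt (hm _)]
  simp

theorem good_of_code (m : List ℕ) (hm : ∀ k, m.getD k 0 < 16) (h : goodN m = true) : Good (mdec m) := by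
  simp only [goodN, Bool.and_eq_true, List.all_eq_true, List.mem_range, beq_iff_eq] at h
  refine ⟨Matrix.ext fun i j => ecode_inj ?_, ecode_inj ?_⟩
  · have h1 := h.1 i.val i.2 j.val j.2
    rw [← enc_col_mdec m hm i, ← enc_col_mdec m hm j, ← ecode_herm] at h1
    rw [show ((mdec m)ᵀ * (mdec m).map (· ^ 4)) i j = herm (col (mdec m) i) (col (mdec m) j) by
      simp [Matrix.mul_apply, Fin.sum_univ_three, herm, col], h1, Matrix.one_apply]
    by_cases hij : i = j
    · rw [if_pos (by rw [hij]), if_pos hij, code_facts.2.2.2.2.2.2]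
    · rw [if_neg (by simpa [Fin.val_inj] using hij), if_neg hij, code_facts.2.2.2.2.2.1]
  · rw [code_facts.2.2.2.2.2.2, Matrix.det_fin_three]
    simp only [sub_eq_add_neg, char_two, code_facts.2.1, code_facts.2.2.1, mdec, Matrix.of_apply]
    simp only [Nat.mod_eq_of_lt (hm _)]
    simp only [code_facts.2.2.2.2.1 _ (hm _)]
    exact h.2

theorem pointC_lt : pointC.all (fun n => n < 4096) = true := by decide +kernel

theorem enc_dec_point (i : ℕ) (_hi : i < 208) : enc (dec (pointC.getD i 0)) = pointC.getD i 0 := by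
  have hlt : pointC.getD i 0 < 4096 := by
    rcases lt_or_ge i pointC.length with hk | hk
    · rw [List.getD_eq_getElem _ _ hk]
      simpa using List.all_eq_true.1 pointC_lt _ (List.getElem_mem hk)
    · rw [List.getD_eq_default _ _ hk]; norm_num
  simp only [enc, dec, Matrix.cons_val_zero, Matrix.cons_val_one, Matrix.cons_val]
  rw [code_facts.2.2.2.2.1 _ (Nat.mod_lt _ (by norm_num)), code_facts.2.2.2.2.1 _ (Nat.mod_lt _ (by norm_num)),
    code_facts.2.2.2.2.1 _ (Nat.mod_lt _ (by norm_num))]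
  omega

theorem frame_facts {r i : ℕ} (hr : r < 64) (hi : i < 13) :
    Good (F r i) ∧ ∀ j : Fin 3,
      (((framePts.getD r []).getD i []).getD j.val (0, 0)).1 < 208 ∧
      ∃ c : K16, c ≠ 0 ∧ ecode c = (((framePts.getD r []).getD i []).getD j.val (0, 0)).2 ∧
        col (F r i) j = c • dec (pointC.getD (((framePts.getD r []).getD i []).getD j.val (0, 0)).1 0) := by
  have h := frames_ok
  simp only [framesOK, List.all_eq_true, List.mem_range, Bool.and_eq_true, decide_eq_true_eq,
    beq_iff_eq] at h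
  obtain ⟨hg, hp⟩ := h r hr i hi
  refine ⟨good_of_code _ (fun k => frame_lt k) hg, fun j => ?_⟩
  obtain ⟨⟨⟨h0, h16⟩, h208⟩, hs⟩ := hp j.val j.2
  refine ⟨h208, edec _, fun hz => ?_, code_facts.2.2.2.2.1 _ h16, enc_inj ?_⟩
  · have := congrArg ecode hz
    rw [code_facts.2.2.2.2.1 _ h16, code_facts.2.2.2.2.2.1] at this
    omega
  · have hpt : enc (dec (pointC.getD (((framePts.getD r []).getD i []).getD j.val (0, 0)).1 0)) =
        pointC.getD (((framePts.getD r []).getD i []).getD j.val (0, 0)).1 0 := by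
      refine enc_dec_point _ h208
    rw [enc_smul, hpt, code_facts.2.2.2.2.1 _ h16, hs]
    exact enc_col_mdec _ (fun k => frame_lt k) j

/-- The generator of the orbits. -/
def S : M16 := mdec sC

/-- The element of order 10. -/
def T10 : M16 := mdec tC

/-- The element of order 15. -/
def T15 : M16 := mdec wC

theorem special_lt : (∀ k, sC.getD k 0 < 16) ∧ (∀ k, tC.getD k 0 < 16) ∧ ∀ k, wC.getD k 0 < 16 := by
  refine ⟨getD_lt ?_, getD_lt ?_, getD_lt ?_⟩ <;> decide

theorem special_good : Good S ∧ Good T10 ∧ Good T15 :=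
  ⟨good_of_code _ special_lt.1 (by decide +kernel), good_of_code _ special_lt.2.1 (by decide +kernel),
    good_of_code _ special_lt.2.2 (by decide +kernel)⟩

/-- The code of a matrix. -/
def mcode (M : M16) : List ℕ :=
  [ecode (M 0 0), ecode (M 0 1), ecode (M 0 2), ecode (M 1 0), ecode (M 1 1), ecode (M 1 2),
    ecode (M 2 0), ecode (M 2 1), ecode (M 2 2)]

theorem mdec_mcode (M : M16) : mdec (mcode M) = M := by
  refine Matrix.ext fun i j => ?_
  show edec ((mcode M).getD (3 * i.val + j.val) 0 % 16) = M i j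
  fin_cases i <;> fin_cases j <;>
    simp [mcode, Nat.mod_eq_of_lt (ecode_lt _), (code_facts.1 _).1]

theorem mdec_mul (a b : List ℕ) (ha : ∀ k, a.getD k 0 < 16) (hb : ∀ k, b.getD k 0 < 16) :
    mdec a * mdec b = mdec (mulN a b) := by
  have key : mcode (mdec a * mdec b) = mulN a b := by
    simp only [mcode, mulN, entN, Matrix.mul_apply, Fin.sum_univ_three, code_facts.2.1, code_facts.2.2.1,
      mdec, Matrix.of_apply, Nat.mod_eq_of_lt (ha _), Nat.mod_eq_of_lt (hb _),
      code_facts.2.2.2.2.1 _ (ha _), code_facts.2.2.2.2.1 _ (hb _)]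
    rfl
  rw [← mdec_mcode (mdec a * mdec b), key]

theorem S_mul_F {r i : ℕ} (hr : r < 64) (hi : i < 13) : S * F r i = F r ((i + 1) % 13) := by
  have h := orbits_ok
  simp only [orbitsOK, List.all_eq_true, List.mem_range, beq_iff_eq] at h
  rw [S, F, mdec_mul _ _ special_lt.1 (fun k => frame_lt k), h r hr i hi]
  rfl

theorem S_pow_F {r : ℕ} (hr : r < 64) : ∀ (l : ℕ) {i : ℕ}, i < 13 → S ^ l * F r i = F r ((i + l) % 13)
  | 0, i, hi => by rw [pow_zero, one_mul, add_zero, Nat.mod_eq_of_lt hi]
  | l + 1, i, hi => by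
    rw [pow_succ, mul_assoc, S_mul_F hr hi, S_pow_F hr l (Nat.mod_lt _ (by norm_num))]
    congr 1
    omega

theorem good_mul {a b : M16} (ha : Good a) (hb : Good b) : Good (a * b) := by
  refine ⟨?_, by rw [Matrix.det_mul, ha.2, hb.2, one_mul]⟩
  have h : (a * b).map (· ^ 4) = a.map (· ^ 4) * b.map (· ^ 4) :=
    Matrix.map_mul (f := frobOf pow_four_add)
  rw [h, Matrix.transpose_mul, mul_assoc, ← mul_assoc aᵀ, ha.1, one_mul, hb.1]

theorem good_one : Good 1 := by
  refine ⟨?_, Matrix.det_one⟩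
  rw [Matrix.transpose_one, one_mul]
  exact Matrix.map_one (· ^ 4) (zero_pow (by norm_num)) (one_pow 4)

theorem good_pow {a : M16} (ha : Good a) : ∀ n, Good (a ^ n)
  | 0 => by rw [pow_zero]; exact good_one
  | n + 1 => by rw [pow_succ]; exact good_mul (good_pow ha n) ha

theorem points_cover {v : V16} (hv : herm v v = 1) :
    ∃ i < 208, ∃ c : K16, c ≠ 0 ∧ v = c • dec (pointC.getD i 0) := by
  have h := normOne_ok
  simp only [normOneOK, Bool.and_eq_true, beq_iff_eq, List.all_eq_true, decide_eq_true_eq] at h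
  have hm : enc v ∈ (List.range 4096).filter (fun n => hermN n n == 1) := by
    simp only [List.mem_filter, List.mem_range, beq_iff_eq]
    exact ⟨enc_lt v, by rw [← ecode_herm, hv, code_facts.2.2.2.2.2.2]⟩
  rw [h.1] at hm
  obtain ⟨e, he, hev⟩ := List.mem_map.1 hm
  obtain ⟨⟨h208, h16⟩, hs⟩ := h.2 e he
  have hv' : v = edec e.2.2 • dec (pointC.getD e.2.1 0) := enc_inj (by
    rw [enc_smul, enc_dec_point _ h208, code_facts.2.2.2.2.1 _ h16, hs, hev])
  refine ⟨e.2.1, h208, edec e.2.2, fun hz => ?_, hv'⟩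
  rw [hz, zero_smul] at hv'
  rw [hv'] at hv
  simp [herm] at hv
  have h10 := congrArg ecode hv
  rw [code_facts.2.2.2.2.2.2, code_facts.2.2.2.2.2.1] at h10
  exact zero_ne_one h10

theorem table_eq {i j : ℕ} (hi : i < 208) (hj : j < 208) :
    ecode (herm (dec (pointC.getD i 0)) (dec (pointC.getD j 0))) = hP i j := by
  rw [ecode_herm, enc_dec_point _ hi, enc_dec_point _ hj]
  have key : ∀ lo, tabOK lo = true → ∀ d < 52, ∀ j < 208,
      hP (lo + d) j = hermN (pointC.getD (lo + d) 0) (pointC.getD j 0) := by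
    intro lo h
    simp only [tabOK, List.all_eq_true, List.mem_range, beq_iff_eq] at h
    exact h
  rcases (show i / 52 = 0 ∨ i / 52 = 1 ∨ i / 52 = 2 ∨ i / 52 = 3 by omega) with h | h | h | h
  · have := key 0 tab0 (i - 0) (by omega) j hj
    rw [show 0 + (i - 0) = i by omega] at this; exact this.symm
  · have := key 52 tab1 (i - 52) (by omega) j hj
    rw [show 52 + (i - 52) = i by omega] at this; exact this.symm
  · have := key 104 tab2 (i - 104) (by omega) j hj
    rw [show 104 + (i - 104) = i by omega] at this; exact this.symm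
  · have := key 156 tab3 (i - 156) (by omega) j hj
    rw [show 156 + (i - 156) = i by omega] at this; exact this.symm

theorem pack_facts {r i : ℕ} (hr : r < 64) (hi : i < 13) :
    (packs.getD r []).getD i 0 =
      (((framePts.getD r []).getD i []).getD 0 (0, 0)).1 + 256 * (((framePts.getD r []).getD i []).getD 1 (0, 0)).1 +
        65536 * (((framePts.getD r []).getD i []).getD 2 (0, 0)).1 +
        16777216 * e3 (((framePts.getD r []).getD i []).getD 0 (0, 0)).2
          (((framePts.getD r []).getD i []).getD 1 (0, 0)).2 (((framePts.getD r []).getD i []).getD 2 (0, 0)).2 := by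
  have h := packs_ok
  simp only [packsOK, Bool.and_eq_true, List.all_eq_true, List.mem_range, beq_iff_eq] at h
  exact (h.2 r hr).2 i hi

/-- A point index of a frame. -/
def pidx (r i : ℕ) (j : Fin 3) : ℕ := (((framePts.getD r []).getD i []).getD j.val (0, 0)).1

theorem ptP_eq {f : ℕ} (hf : f < 832) (j : ℕ) :
    ptP f j = pidx (f / 13) (f % 13) ⟨j % 3, Nat.mod_lt _ (by norm_num)⟩ := by
  have hr : f / 13 < 64 := by omega
  have hi : f % 13 < 13 := Nat.mod_lt _ (by norm_num)
  have h0 := (frame_facts hr hi).2 0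
  have h1 := (frame_facts hr hi).2 1
  have h2 := (frame_facts hr hi).2 2
  have l0 := h0.1; have l1 := h1.1; have l2 := h2.1
  simp only [Fin.val_zero, Fin.val_one, Fin.val_two] at l0 l1 l2
  rw [ptP, pack_facts hr hi, Nat.shiftRight_eq_div_pow, pidx]
  rcases (show j % 3 = 0 ∨ j % 3 = 1 ∨ j % 3 = 2 by omega) with h | h | h <;> simp only [h] <;> omega

theorem triple_find {i j l : ℕ} (hi : i < 208) (hj : j < 208) (hl : l < 208) (hij : hP i j = 0)
    (hil : hP i l = 0) (hjl : hP j l = 0) :
    ∃ f < 832, ∃ k, ptP f k = i ∧ ptP f (k + 1) = j ∧ ptP f (k + 2) = l := by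
  have hadj : ∀ m < 208, hP i m = 0 → m ∈ adjC.getD i [] := by
    intro m hm h0
    have h := adj_ok
    simp only [adjOK, List.all_eq_true, List.mem_range, beq_iff_eq] at h
    rw [← h i hi]
    simp [hm, h0]
  have key : ∀ lo, tripleOK lo = true → ∀ d < 52, lo + d = i →
      ∃ f < 832, ∃ k, ptP f k = i ∧ ptP f (k + 1) = j ∧ ptP f (k + 2) = l := by
    intro lo h d hd he
    simp only [tripleOK, List.all_eq_true, List.mem_range, Bool.or_eq_true, Bool.not_eq_true',
      beq_eq_false_iff_ne, List.any_eq_true, Bool.and_eq_true, decide_eq_true_eq, beq_iff_eq] at h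
    have h2 := h d hd j (by rw [he]; exact hadj j hj hij) l (by rw [he]; exact hadj l hl hil)
    obtain ⟨e, -, ⟨⟨⟨⟨he1, he2⟩, hf⟩, hp0⟩, hp1⟩, hp2⟩ := h2.resolve_left (fun hne => hne hjl)
    exact ⟨_, hf, _, hp0.trans he, hp1, hp2⟩
  rcases (show i / 52 = 0 ∨ i / 52 = 1 ∨ i / 52 = 2 ∨ i / 52 = 3 by omega) with h | h | h | h
  · exact key 0 triple0 (i - 0) (by omega) (by omega)
  · exact key 52 triple1 (i - 52) (by omega) (by omega)
  · exact key 104 triple2 (i - 104) (by omega) (by omega)
  · exact key 156 triple3 (i - 156) (by omega) (by omega)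

theorem exists_rel {a : M16} (ha : Good a) : ∃ r < 64, ∃ i < 13, Rel a (F r i) := by
  have hnorm : ∀ j, herm (col a j) (col a j) = 1 := fun j => by rw [herm_col ha, if_pos rfl]
  choose p hp c hc hcol using fun j => points_cover (hnorm j)
  have horth : ∀ j l, j ≠ l → hP (p j) (p l) = 0 := by
    intro j l hne
    have h := herm_col ha j l
    rw [if_neg hne, hcol j, hcol l, herm_smul] at h
    have h4 : c j * c l ^ 4 ≠ 0 := by
      intro h0
      rcases field_facts.2 _ _ h0 with h1 | h1
      · exact hc j h1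
      · have h14 := field_facts.1 _ (hc l)
        have : c l ^ 15 = 0 := by rw [show (15 : ℕ) = 4 + 11 from rfl, pow_add, h1, zero_mul]
        rw [pow_succ', h14] at this
        have h10 := congrArg ecode this
        rw [code_facts.2.2.2.2.2.2, code_facts.2.2.2.2.2.1] at h10
        exact one_ne_zero h10
    rw [← table_eq (hp j) (hp l), (field_facts.2 _ _ h).resolve_left h4, code_facts.2.2.2.2.2.1]
  obtain ⟨f, hf, k, k0, k1, k2⟩ := triple_find (hp 0) (hp 1) (hp 2) (horth 0 1 (by decide))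
    (horth 0 2 (by decide)) (horth 1 2 (by decide))
  have hr : f / 13 < 64 := by omega
  have hi : f % 13 < 13 := Nat.mod_lt _ (by norm_num)
  refine ⟨f / 13, hr, f % 13, hi, ?_⟩
  let K : Fin 3 := ⟨k % 3, Nat.mod_lt _ (by norm_num)⟩
  have hidx : ∀ j : Fin 3, pidx (f / 13) (f % 13) (j + K) = p j := by
    intro j
    have hjk : (⟨(k + j.val) % 3, Nat.mod_lt _ (by norm_num)⟩ : Fin 3) = j + K := by
      refine Fin.ext ?_
      simp [Fin.val_add, K]
      omega
    rw [← hjk, ← ptP_eq hf]
    fin_cases j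
    · simpa using k0
    · exact k1
    · exact k2
  choose d hd hd2 hdcol using fun j => ((frame_facts hr hi).2 (j + K)).2
  refine ⟨K, fun j => c j * d j ^ 14, fun j => ?_⟩
  have hx : col (F (f / 13) (f % 13)) (j + K) = d j • dec (pointC.getD (p j) 0) := by
    rw [hdcol j, ← hidx j]
    rfl
  rw [hx, smul_smul, mul_assoc, mul_comm (d j ^ 14), field_facts.1 _ (hd j), mul_one]
  exact hcol j

theorem evP_eq {r i r' i' : ℕ} (hr : r < 64) (hi : i < 13) (hr' : r' < 64) (hi' : i' < 13) :
    evP ((packs.getD r []).getD i 0) ((packs.getD r' []).getD i' 0) = ecode (ev (F r i) (F r' i')) := by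
  choose c hc0 hc2 hc using fun j => ((frame_facts hr hi).2 j).2
  choose d hd0 hd2 hd using fun j => ((frame_facts hr' hi').2 j).2
  have hl := fun j => ((frame_facts hr hi).2 j).1
  have hl' := fun j => ((frame_facts hr' hi').2 j).1
  rw [ev, show col (F r i) = fun j => c j • _ from funext hc, show col (F r' i') = fun j => d j • _ from funext hd,
    evH_smul]
  simp only [evH, code_facts.2.1, code_facts.2.2.1, code_facts.2.2.2.1, table_eq (hl _) (hl' _), hc2, hd2]
  have a0 := hl 0; have a1 := hl 1; have a2 := hl 2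
  have b0 := hl' 0; have b1 := hl' 1; have b2 := hl' 2
  simp only [Fin.val_zero, Fin.val_one, Fin.val_two] at a0 a1 a2 b0 b1 b2
  have he : ∀ x y z : ℕ, ∀ w, x < 208 → y < 208 → z < 208 →
      (x + 256 * y + 65536 * z + 16777216 * w) % 256 = x ∧
      (x + 256 * y + 65536 * z + 16777216 * w) / 256 % 256 = y ∧
      (x + 256 * y + 65536 * z + 16777216 * w) / 65536 % 256 = z ∧
      (x + 256 * y + 65536 * z + 16777216 * w) / 16777216 = w := by
    intro x y z w h1 h2 h3
    omega
  rw [pack_facts hr hi, pack_facts hr' hi']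
  obtain ⟨x0, x1, x2, x3⟩ := he _ _ _ (e3 (((framePts.getD r []).getD i []).getD 0 (0, 0)).2
    (((framePts.getD r []).getD i []).getD 1 (0, 0)).2 (((framePts.getD r []).getD i []).getD 2 (0, 0)).2) a0 a1 a2
  obtain ⟨y0, y1, y2, y3⟩ := he _ _ _ (e3 (((framePts.getD r' []).getD i' []).getD 0 (0, 0)).2
    (((framePts.getD r' []).getD i' []).getD 1 (0, 0)).2 (((framePts.getD r' []).getD i' []).getD 2 (0, 0)).2) b0 b1 b2
  simp only [evP, x0, x1, x2, x3, y0, y1, y2, y3]
  rfl

theorem getD_drop_mem {r : ℕ} (hr : r < 64) : packs.getD r [] ∈ (packs.drop (8 * (r / 8))).take 8 := by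
  have h := packs_ok
  simp only [packsOK, Bool.and_eq_true, beq_iff_eq] at h
  rw [List.getD_eq_getElem _ _ (by omega), List.mem_iff_getElem]
  exact ⟨r % 8, by simp; omega, by simp [show 8 * (r / 8) + r % 8 = r by omega]⟩

theorem sum_frames (r r' : ℕ) (hr : r < 64) (hr' : r' < 64) :
    ∑ l ∈ Finset.range 13, psi (F r 0) (F r' l) = 0 := by
  have hk : kernelOK (8 * (r / 8)) = true := by
    rcases (show r / 8 = 0 ∨ r / 8 = 1 ∨ r / 8 = 2 ∨ r / 8 = 3 ∨ r / 8 = 4 ∨ r / 8 = 5 ∨ r / 8 = 6 ∨ r / 8 = 7 by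
      omega) with h | h | h | h | h | h | h | h <;> rw [h]
    exacts [kernel0, kernel1, kernel2, kernel3, kernel4, kernel5, kernel6, kernel7]
  simp only [kernelOK, List.all_eq_true, beq_iff_eq] at hk
  have hpk := packs_ok
  simp only [packsOK, Bool.and_eq_true, List.all_eq_true, List.mem_range, beq_iff_eq] at hpk
  have h := hk _ (getD_drop_mem hr) (packs.getD r' []) (by
    rw [List.getD_eq_getElem _ _ (by omega)]
    exact List.getElem_mem _)
  have hsum : ∀ (a : ℕ) (t : List ℕ), sumP a t = ∑ l ∈ Finset.range t.length, psiP a (t.getD l 0) := by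
    intro a t
    induction t with
    | nil => simp [sumP]
    | cons b t ih => rw [sumP, List.length_cons, Finset.sum_range_succ', ih, add_comm]; simp
  rw [hsum, (hpk.2 r' hr').1] at h
  have h5 : ((∑ l ∈ Finset.range 13, psiP ((packs.getD r []).getD 0 0) ((packs.getD r' []).getD l 0) : ℕ) : ZMod 5) = 0 := by
    rw [CharP.cast_eq_zero_iff (ZMod 5) 5]
    exact Nat.dvd_of_mod_eq_zero h
  rw [Nat.cast_sum] at h5
  rw [← h5]
  refine Finset.sum_congr rfl fun l hl => ?_
  rw [psi, psiP, evP_eq hr (by norm_num) hr' (Finset.mem_range.1 hl)]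

theorem psi_left {a a' b : M16} (h : Rel a a') (ha : a.det = 1) (ha' : a'.det = 1) : psi a b = psi a' b := by
  rw [psi, psi, ev_left h ha ha']

theorem psi_right {a b b' : M16} (h : Rel b b') (hb : b.det = 1) (hb' : b'.det = 1) : psi a b = psi a b' := by
  rw [psi, psi, ev_right h hb hb']

theorem psi_invariant {g : M16} (hg : Good g) (a b : M16) : psi (g * a) (g * b) = psi a b := by
  rw [psi, psi, ev_invariant hg]

theorem sum_orbit_eq_zero {a b : M16} (ha : Good a) (hb : Good b) :
    ∑ l ∈ Finset.range 13, psi a (S ^ l * b) = 0 := by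
  obtain ⟨r, hr, i, hi, hra⟩ := exists_rel ha
  obtain ⟨r', hr', j, hj, hrb⟩ := exists_rel hb
  have key : ∀ l, psi a (S ^ l * b) = psi (F r 0) (F r' ((j + l + (13 - i)) % 13)) := by
    intro l
    rw [psi_left hra ha.2 (frame_facts hr hi).1.2,
      psi_right (rel_mul (S ^ l) hrb) (good_mul (good_pow special_good.1 l) hb).2
        (good_mul (good_pow special_good.1 l) (frame_facts hr' hj).1).2,
      S_pow_F hr' l hj, ← psi_invariant (good_pow special_good.1 (13 - i)) (F r i),
      S_pow_F hr (13 - i) hi, S_pow_F hr' (13 - i) (Nat.mod_lt _ (by norm_num))]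
    congr 2
    · omega
    · omega
  rw [Finset.sum_congr rfl fun l _ => key l, ← sum_frames r r' hr hr']
  refine Finset.sum_nbij' (fun l => (j + l + (13 - i)) % 13) (fun m => (m + 13 + i + 13 - j) % 13) ?_ ?_ ?_ ?_ ?_
  all_goals intro x hx
  all_goals simp only [Finset.mem_range] at hx ⊢
  all_goals omega

theorem psi_nonzero : psi (F 0 0) (F 0 0) ≠ 0 ∨ ∃ r < 64, psi (F 0 0) (F r 0) ≠ 0 := by
  have h : ((List.range 64).any fun r => psiP ((packs.getD 0 []).getD 0 0) ((packs.getD r []).getD 0 0) % 5 != 0) = true := by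
    decide +kernel
  simp only [List.any_eq_true, List.mem_range, bne_iff_ne] at h
  obtain ⟨r, hr, hne⟩ := h
  refine Or.inr ⟨r, hr, fun h0 => hne ?_⟩
  rw [psi, ← evP_eq (by norm_num) (by norm_num) hr (by norm_num), CharP.cast_eq_zero_iff (ZMod 5) 5] at h0
  exact Nat.mod_eq_zero_of_dvd h0

end Cfsg.Agent.H67.U34
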