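import Cfsg.Agent.H67.U34Table

/-!
The orbit sums of the invariant kernel vanish.
-/

set_option autoImplicit false
set_option maxRecDepth 100000
set_option maxHeartbeats 0
set_option Elab.async false

namespace Cfsg.Agent.H67.U34

attribute [local instance] fintypeK4 fintypeK16

/-- A product of three codes. -/
def e3 (a b c : ℕ) : ℕ := cmul (cmul a b) c

/-- The cyclic sum of a pair of packed frames. -/
def evP (a b : ℕ) : ℕ :=
  cmul (cmul (a / 16777216) (cbar (b / 16777216)))
    (cadd (cadd (e3 (hP (a % 256) (b % 256)) (hP (a / 256 % 256) (b / 256 % 256)) (hP (a / 65536 % 256) (b / 65536 % 256)))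
      (e3 (hP (a % 256) (b / 256 % 256)) (hP (a / 256 % 256) (b / 65536 % 256)) (hP (a / 65536 % 256) (b % 256))))
      (e3 (hP (a % 256) (b / 65536 % 256)) (hP (a / 256 % 256) (b % 256)) (hP (a / 65536 % 256) (b / 256 % 256))))

/-- The kernel value at a pair of packed frames. -/
def psiP (a b : ℕ) : ℕ := (fPack >>> (4 * evP a b)) % 16

/-- The sum over an orbit. -/
def sumP (a : ℕ) : List ℕ → ℕ
  | [] => 0
  | b :: t => psiP a b + sumP a t

/-- Eight rows of the orbit sums vanish. -/
def kernelOK (lo : ℕ) : Bool :=
  ((packs.drop lo).take 8).all fun g => packs.all fun g' => sumP (g.getD 0 0) g' % 5 == 0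

theorem kernel0 : kernelOK 0 = true := by decide +kernel
theorem kernel1 : kernelOK 8 = true := by decide +kernel
theorem kernel2 : kernelOK 16 = true := by decide +kernel
theorem kernel3 : kernelOK 24 = true := by decide +kernel
theorem kernel4 : kernelOK 32 = true := by decide +kernel
theorem kernel5 : kernelOK 40 = true := by decide +kernel
theorem kernel6 : kernelOK 48 = true := by decide +kernel
theorem kernel7 : kernelOK 56 = true := by decide +kernel

/-- The packs describe the frames. -/
def packsOK : Bool :=
  (packs.length == 64) && (List.range 64).all fun r => ((packs.getD r []).length == 13) &&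
    (List.range 13).all fun i =>
      let e := (framePts.getD r []).getD i []
      (packs.getD r []).getD i 0 ==
        (e.getD 0 (0, 0)).1 + 256 * (e.getD 1 (0, 0)).1 + 65536 * (e.getD 2 (0, 0)).1 +
          16777216 * e3 (e.getD 0 (0, 0)).2 (e.getD 1 (0, 0)).2 (e.getD 2 (0, 0)).2

theorem packs_ok : packsOK = true := by decide +kernel

end Cfsg.Agent.H67.U34
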