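import Cfsg.Agent.H67.U34Frames

/-!
The table of hermitian products of points.
-/

set_option autoImplicit false
set_option maxRecDepth 100000
set_option maxHeartbeats 0
set_option Elab.async false

namespace Cfsg.Agent.H67.U34

attribute [local instance] fintypeK4 fintypeK16

/-- Tabulated hermitian product of two points. -/
def hP (i j : ℕ) : ℕ := (hermTab >>> (4 * (208 * i + j))) % 16

/-- The table is correct. -/
def tabOK (lo : ℕ) : Bool :=
  (List.range 52).all fun d => (List.range 208).all fun j =>
    hP (lo + d) j == hermN (pointC.getD (lo + d) 0) (pointC.getD j 0)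

theorem tab0 : tabOK 0 = true := by decide +kernel
theorem tab1 : tabOK 52 = true := by decide +kernel
theorem tab2 : tabOK 104 = true := by decide +kernel
theorem tab3 : tabOK 156 = true := by decide +kernel

/-- The adjacency lists are complete. -/
def adjOK : Bool :=
  (List.range 208).all fun i =>
    ((List.range 208).filter fun j => hP i j == 0) == adjC.getD i []

theorem adj_ok : adjOK = true := by decide +kernel

/-- A point of a frame. -/
def ptP (f j : ℕ) : ℕ := ((packs.getD (f / 13) []).getD (f % 13) 0 >>> (8 * (j % 3))) % 256

/-- Every orthogonal triple is a frame. -/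
def tripleOK (lo : ℕ) : Bool :=
  (List.range 52).all fun d => (adjC.getD (lo + d) []).all fun j => (adjC.getD (lo + d) []).all fun l =>
    !(hP j l == 0) ||
      (tripleCert.getD (lo + d) []).any fun e => (e.1 == j) && (e.2.1 == l) && (e.2.2.1 < 832) &&
        (ptP e.2.2.1 e.2.2.2 == lo + d) && (ptP e.2.2.1 (e.2.2.2 + 1) == j) &&
        (ptP e.2.2.1 (e.2.2.2 + 2) == l)

theorem triple0 : tripleOK 0 = true := by decide +kernel
theorem triple1 : tripleOK 52 = true := by decide +kernel
theorem triple2 : tripleOK 104 = true := by decide +kernel
theorem triple3 : tripleOK 156 = true := by decide +kernel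

end Cfsg.Agent.H67.U34
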