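import Mathlib
import Cfsg.Agent.H67.TwoByTwo

/-!
For a prime `p ≥ 5`, an F₂-module `W` of `PSL₂(p)` with `W ⋊ PSL₂(p)` isospectral to `PGL₂(p)`:
the functions on the group having zero sum along every orbit of every element of order `p`.
-/

set_option autoImplicit false

namespace Cfsg.Agent.H67

open Matrix

section Semidirect

variable {N Q : Type*} [Group N] [Group Q] (φ : Q →* MulAut N)

theorem semidirect_pow_right (x : N ⋊[φ] Q) (k : ℕ) : (x ^ k).right = x.right ^ k :=
  map_pow SemidirectProduct.rightHom x k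

end Semidirect

variable {F : Type*} [Field F] [Fintype F]

omit [Fintype F] in
theorem sl_val_mul (a b : SpecialLinearGroup (Fin 2) F) : (a * b).val = a.val * b.val := rfl

omit [Fintype F] in
theorem sl_val_pow (a : SpecialLinearGroup (Fin 2) F) (k : ℕ) : (a ^ k).val = a.val ^ k := by
  induction k with
  | zero => rfl
  | succ k ih => rw [pow_succ, sl_val_mul, ih, pow_succ]

/-- `PSL₂` as a quotient. -/
abbrev Q2 (F : Type*) [Field F] : Type _ :=
  SpecialLinearGroup (Fin 2) F ⧸ Subgroup.center (SpecialLinearGroup (Fin 2) F)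

/-- The square of the trace, defined on `PSL₂`. -/
def trSq (x : Q2 F) : F :=
  Quotient.liftOn' x (fun g => g.val.trace ^ 2) (fun a b hab => by
    rw [QuotientGroup.leftRel_apply, mem_center_SL_two] at hab
    have hb : b.val = a.val * (a⁻¹ * b).val := by
      rw [← sl_val_mul, mul_inv_cancel_left]
    show a.val.trace ^ 2 = b.val.trace ^ 2
    rcases hab with h | h
    · rw [hb, h, mul_one]
    · rw [hb, h, mul_neg, mul_one, Matrix.trace_neg, neg_sq])

theorem trSq_mk (g : SpecialLinearGroup (Fin 2) F) :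
    trSq (QuotientGroup.mk g : Q2 F) = g.val.trace ^ 2 := rfl

/-- The module. -/
def W (F : Type*) [Field F] [Fintype F] : AddSubgroup (Q2 F → ZMod 2) where
  carrier := {f | ∀ x u : Q2 F, u ^ Fintype.card F = 1 → u ≠ 1 →
    ∑ i ∈ Finset.range (Fintype.card F), f (x * u ^ i) = 0}
  add_mem' {a b} ha hb := fun x u h1 h2 => by
    simp only [Pi.add_apply, Finset.sum_add_distrib, ha x u h1 h2, hb x u h1 h2, add_zero]
  zero_mem' := fun x u _ _ => by simp
  neg_mem' {a} ha := fun x u h1 h2 => by
    simp only [Pi.neg_apply, Finset.sum_neg_distrib, ha x u h1 h2, neg_zero]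

/-- Right translation. -/
def transl (g : Q2 F) : W F ≃+ W F where
  toFun f := ⟨fun x => f.1 (x * g), fun x u h1 h2 => by
    have key : ∀ i : ℕ, x * u ^ i * g = (x * g) * (g⁻¹ * u * g) ^ i := fun i => by
      have h : (g⁻¹ * u * g) ^ i = g⁻¹ * u ^ i * g := by
        have := conj_pow (i := i) (a := g⁻¹) (b := u)
        simpa using this
      rw [h]; group
    simp only [key]
    refine f.2 _ _ ?_ ?_
    · have := conj_pow (i := Fintype.card F) (a := g⁻¹) (b := u)
      rw [inv_inv] at this
      rw [this, h1, mul_one, inv_mul_cancel]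
    · intro h
      apply h2
      have h' : g * (g⁻¹ * u * g) * g⁻¹ = g * 1 * g⁻¹ := by rw [h]
      simpa [mul_assoc] using h'⟩
  invFun f := ⟨fun x => f.1 (x * g⁻¹), fun x u h1 h2 => by
    have key : ∀ i : ℕ, x * u ^ i * g⁻¹ = (x * g⁻¹) * (g * u * g⁻¹) ^ i := fun i => by
      rw [conj_pow]; group
    simp only [key]
    refine f.2 _ _ (by rw [conj_pow, h1, mul_one, mul_inv_cancel]) ?_
    intro h
    apply h2
    have h' : g⁻¹ * (g * u * g⁻¹) * g = g⁻¹ * 1 * g := by rw [h]
    simpa [mul_assoc] using h'⟩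
  left_inv f := by apply Subtype.ext; funext x; simp
  right_inv f := by apply Subtype.ext; funext x; simp
  map_add' a b := rfl

/-- The action on the multiplicative copy of `W`. -/
def act : Q2 F →* MulAut (Multiplicative (W F)) where
  toFun g := AddEquiv.toMultiplicative (transl g)
  map_one' := by
    ext f : 1
    refine Multiplicative.toAdd.injective (Subtype.ext (funext fun x => ?_))
    show (Multiplicative.toAdd f).1 (x * 1) = (Multiplicative.toAdd f).1 x
    rw [mul_one]
  map_mul' g h := by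
    ext f : 1
    refine Multiplicative.toAdd.injective (Subtype.ext (funext fun x => ?_))
    show (Multiplicative.toAdd f).1 (x * (g * h)) = (Multiplicative.toAdd f).1 (x * g * h)
    rw [mul_assoc]

/-- The group `W ⋊ PSL₂`. -/
abbrev ModGroup (F : Type*) [Field F] [Fintype F] : Type _ :=
  Multiplicative (W F) ⋊[act] Q2 F

theorem pow_left_apply (x : ModGroup F) (k : ℕ) (y : Q2 F) :
    (Multiplicative.toAdd (x ^ k).left).1 y =
      ∑ i ∈ Finset.range k, (Multiplicative.toAdd x.left).1 (y * x.right ^ i) := by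
  induction k with
  | zero => simp
  | succ k ih =>
    rw [pow_succ, SemidirectProduct.mul_left, Finset.sum_range_succ, ← ih, semidirect_pow_right]
    rfl

theorem left_sq (w : Multiplicative (W F)) : w ^ 2 = 1 := by
  refine Multiplicative.toAdd.injective (Subtype.ext (funext fun x => ?_))
  rw [toAdd_pow, two_nsmul]
  exact CharTwo.add_self_eq_zero _

variable {p : ℕ}

/-- A nontrivial element of `SL₂` with `g ^ p = 1` is unipotent. -/
theorem unipotent_of_pow (hp : p.Prime) (hcard : Fintype.card F = p)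
    (g : Matrix (Fin 2) (Fin 2) F) (hdet : g.det = 1) (h : g ^ p = 1) :
    (g - 1) * (g - 1) = 0 := by
  haveI := Fact.mk hp
  haveI : CharP F p := charP_of_card_eq_prime hcard
  set N := g - 1 with hN
  have hNp : N ^ p = 0 := by
    have h1 := sub_pow_char_pow_of_commute p 1 (Commute.one_right g)
    rw [pow_one] at h1
    rw [hN, h1, h, one_pow, sub_self]
  have hd : N.det = 0 := eq_zero_of_pow_eq_zero (n := p) (by rw [← det_pow, hNp, det_zero])
  have hsq : N * N = N.trace • N := by
    have h1 := mul_trace_sub N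
    rw [hd, zero_smul, mul_sub, mul_smul_comm, mul_one, sub_eq_zero] at h1
    exact h1.symm
  have hpow : ∀ k : ℕ, N ^ (k + 1) = N.trace ^ k • N := by
    intro k
    induction k with
    | zero => simp
    | succ k ih => rw [pow_succ, ih, smul_mul_assoc, hsq, smul_smul, ← pow_succ]
  obtain ⟨k, hk⟩ := Nat.exists_eq_add_of_le' hp.two_le
  rw [hk, show k + 2 = (k + 1) + 1 by ring, hpow] at hNp
  rw [hsq]
  rcases smul_eq_zero.1 hNp with h1 | h1
  · rw [eq_zero_of_pow_eq_zero h1, zero_smul]
  · rw [h1, smul_zero]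

theorem sq_of_trace_zero (a n : Matrix (Fin 2) (Fin 2) F) (hn : n * n = 0) (hne : n ≠ 0)
    (h : (a * n).trace = 0) : IsSquare (a.trace ^ 2 - 4 * a.det) := by
  have e := fun i j => congrFun (congrFun hn i) j
  have e00 := e 0 0
  have e11 := e 1 1
  have e10 := e 1 0
  have e01 := e 0 1
  simp [Matrix.mul_apply, Fin.sum_univ_two] at e00 e11 e10 e01
  simp [Matrix.trace_fin_two, Matrix.mul_apply, Fin.sum_univ_two] at h
  have htr : n 1 1 = -n 0 0 := by
    by_cases h10 : n 1 0 = 0
    · have h1 : n 0 0 = 0 := by simpa [h10] using e00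
      have h2 : n 1 1 = 0 := by simpa [h10] using e11
      rw [h1, h2, neg_zero]
    · have h3 : n 1 0 * (n 0 0 + n 1 1) = 0 := by linear_combination e10
      exact eq_neg_of_add_eq_zero_right ((mul_eq_zero.1 h3).resolve_left h10)
  rw [htr] at h
  by_cases h10 : n 1 0 = 0
  · have h00 : n 0 0 = 0 := by simpa [h10] using e00
    have h01 : n 0 1 ≠ 0 := by
      intro h01
      apply hne
      ext i j
      fin_cases i <;> fin_cases j <;> simp [h10, h00, h01, htr]
    have hc : a 1 0 = 0 := by
      simp [h10, h00] at h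
      exact h.resolve_right h01
    exact ⟨a 0 0 - a 1 1, by simp [Matrix.trace_fin_two, Matrix.det_fin_two, hc]; ring⟩
  · set m := n 0 0 / n 1 0 with hm
    have hm1 : n 0 0 = m * n 1 0 := by rw [hm, div_mul_cancel₀ _ h10]
    have hm2 : n 0 1 = -(m * m) * n 1 0 := by
      have h4 : n 1 0 * (n 0 1 + m * m * n 1 0) = 0 := by
        rw [hm1] at e00; linear_combination e00
      have := (mul_eq_zero.1 h4).resolve_left h10
      linear_combination this
    have hb : a 0 1 = -(a 0 0 - a 1 1) * m + a 1 0 * (m * m) := by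
      have h5 : n 1 0 * (a 0 1 - (-(a 0 0 - a 1 1) * m + a 1 0 * (m * m))) = 0 := by
        rw [hm1, hm2] at h; linear_combination h
      exact sub_eq_zero.1 ((mul_eq_zero.1 h5).resolve_left h10)
    refine ⟨a 0 0 - a 1 1 - 2 * a 1 0 * m, ?_⟩
    simp only [Matrix.trace_fin_two, Matrix.det_fin_two, hb]
    ring

/-- The witness: indicator of trace `± t₀`. -/
noncomputable def wit (t₀ : F) (x : Q2 F) : ZMod 2 :=
  open Classical in if trSq x = t₀ ^ 2 then 1 else 0

theorem wit_mem (hp : p.Prime) (h5 : 2 < p) (hcard : Fintype.card F = p) {t₀ : F} (ht : t₀ ≠ 0)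
    (hns : ¬ IsSquare (t₀ ^ 2 - 4)) : wit t₀ ∈ W F := by
  classical
  intro x u hu hu1
  haveI := Fact.mk hp
  haveI : CharP F p := charP_of_card_eq_prime hcard
  obtain ⟨g, rfl⟩ := QuotientGroup.mk_surjective x
  obtain ⟨v, rfl⟩ := QuotientGroup.mk_surjective u
  have hodd : Odd p := hp.odd_of_ne_two (by omega)
  rw [hcard] at hu ⊢
  rw [← QuotientGroup.mk_pow, QuotientGroup.eq_one_iff, mem_center_SL_two] at hu
  -- a lift `w` of `u` with `w ^ p = 1`
  obtain ⟨w, hw, hwu⟩ : ∃ w : SpecialLinearGroup (Fin 2) F, w.val ^ p = 1 ∧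
      (QuotientGroup.mk w : Q2 F) = QuotientGroup.mk v := by
    rcases hu with h | h
    · exact ⟨v, by rw [← sl_val_pow]; exact h, rfl⟩
    · let z : SpecialLinearGroup (Fin 2) F := ⟨-1, by simp [Matrix.det_fin_two]⟩
      refine ⟨v * z, ?_, ?_⟩
      · have hv : v.val ^ p = -1 := by rw [← sl_val_pow]; exact h
        rw [sl_val_mul, show z.val = -1 from rfl, mul_neg, mul_one, hodd.neg_pow, hv, neg_neg]
      · rw [QuotientGroup.eq, _root_.mul_inv_rev, inv_mul_cancel_right]
        exact Subgroup.inv_mem _ (mem_center_SL_two.2 (Or.inr rfl))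
  rw [← hwu] at hu1 ⊢
  set n := w.val - 1 with hn
  have hnn : n * n = 0 := unipotent_of_pow hp hcard w.val w.2 hw
  have hn0 : n ≠ 0 := by
    intro h
    apply hu1
    rw [QuotientGroup.eq_one_iff, mem_center_SL_two]
    exact Or.inl (sub_eq_zero.1 h)
  have hpow : ∀ i : ℕ, (w ^ i).val = 1 + (i : F) • n := by
    intro i
    induction i with
    | zero => simp
    | succ i ih =>
      rw [pow_succ, sl_val_mul, ih, show w.val = 1 + n by rw [hn]; abel]
      rw [mul_add, mul_one, add_mul, one_mul, smul_mul_assoc, hnn, smul_zero, add_zero, Nat.cast_succ,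
        add_smul, one_smul]
      abel
  set c := (g.val * n).trace with hc
  have hval : ∀ i : ℕ, wit t₀ (QuotientGroup.mk g * (QuotientGroup.mk w : Q2 F) ^ i) =
      if g.val.trace + (i : F) * c = t₀ ∨ g.val.trace + (i : F) * c = -t₀ then 1 else 0 := by
    intro i
    rw [← QuotientGroup.mk_pow, ← QuotientGroup.mk_mul, wit, trSq_mk, sl_val_mul, hpow,
      mul_add, mul_one, mul_smul_comm, Matrix.trace_add, Matrix.trace_smul, smul_eq_mul, ← hc]
    simp only [sq_eq_sq_iff_eq_or_eq_neg]
  simp only [hval]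
  by_cases hc0 : c = 0
  · refine Finset.sum_eq_zero fun i _ => if_neg ?_
    rw [hc0, mul_zero, add_zero]
    intro hh
    apply hns
    have hsq := sq_of_trace_zero g.val n hnn hn0 (hc ▸ hc0)
    rw [g.2, mul_one] at hsq
    rcases hh with hh | hh <;> rw [hh] at hsq
    · exact hsq
    · rwa [neg_sq] at hsq
  · have hbij : Function.Bijective (fun i : Fin p => g.val.trace + ((i : ℕ) : F) * c) := by
      rw [Fintype.bijective_iff_injective_and_card, Fintype.card_fin, hcard]
      refine ⟨fun i j hij => ?_, rfl⟩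
      have h1 := mul_right_cancel₀ hc0 (add_left_cancel hij)
      exact Fin.ext ((CharP.natCast_eq_natCast F p).1 h1 |>.eq_of_lt_of_lt i.2 j.2)
    rw [← Fin.sum_univ_eq_sum_range (fun i : ℕ =>
      if g.val.trace + (i : F) * c = t₀ ∨ g.val.trace + (i : F) * c = -t₀ then (1 : ZMod 2) else 0) p,
      hbij.sum_comp (fun z : F => if z = t₀ ∨ z = -t₀ then (1 : ZMod 2) else 0), Finset.sum_boole]
    have h2 : (2 : F) ≠ 0 := two_ne_zero_of_odd (hcard ▸ hodd)
    have hne : t₀ ≠ -t₀ := fun h => ht (by
      have : (2 : F) * t₀ = 0 := by linear_combination h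
      exact (mul_eq_zero.1 this).resolve_left h2)
    have hset : (Finset.univ.filter fun z : F => z = t₀ ∨ z = -t₀) = {t₀, -t₀} := by
      ext z; simp
    rw [hset, Finset.card_pair hne]
    rfl

theorem sum_witness {t₀ : F} (h : Q2 F) (o : ℕ) (ho : 0 < o) (c : Q2 F)
    (hone : trSq h = t₀ ^ 2) (hothers : ∀ i : ℕ, trSq (h * c ^ i) = t₀ ^ 2 → c ^ i = 1)
    (hord : orderOf c = o) : ∑ i ∈ Finset.range o, wit t₀ (h * c ^ i) = 1 := by
  classical
  rw [Finset.sum_eq_single 0]
  · rw [pow_zero, mul_one, wit, if_pos hone]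
  · intro i hi hi0
    rw [wit, if_neg]
    intro hh
    have h1 := Nat.le_of_dvd (Nat.pos_of_ne_zero hi0) (orderOf_dvd_of_pow_eq_one (hothers i hh))
    rw [Finset.mem_range] at hi
    omega
  · intro h0
    exact absurd (Finset.mem_range.2 ho) h0

/-- An element of order `2 o` above an element of order `o`. -/
theorem exists_double {t₀ : F} (hmem : wit t₀ ∈ W F) (h c : Q2 F) (hone : trSq h = t₀ ^ 2)
    (hothers : ∀ i : ℕ, trSq (h * c ^ i) = t₀ ^ 2 → c ^ i = 1) :
    ∃ x : ModGroup F, orderOf x = 2 * orderOf c := by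
  classical
  set o := orderOf c with ho
  set x : ModGroup F := ⟨Multiplicative.ofAdd (⟨wit t₀, hmem⟩ : W F), c⟩ with hx
  refine ⟨x, ?_⟩
  have hright : (x ^ o).right = 1 := by
    rw [semidirect_pow_right]; exact pow_orderOf_eq_one c
  have hne : (x ^ o).left ≠ 1 := by
    intro h1
    have := congrArg (fun w : Multiplicative (W F) => (Multiplicative.toAdd w).1 h) h1
    simp only [pow_left_apply] at this
    rw [show (Multiplicative.toAdd x.left).1 = wit t₀ from rfl] at this
    rw [sum_witness h o (orderOf_pos c) c hone hothers rfl] at this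
    exact one_ne_zero this
  have h2 : x ^ (2 * o) = 1 := by
    have hl : x ^ o = SemidirectProduct.inl (x ^ o).left := by
      apply SemidirectProduct.ext
      · simp
      · simp [hright]
    rw [mul_comm, pow_mul, hl, ← map_pow, left_sq, map_one]
  have hdvd : o ∣ orderOf x := by
    have := orderOf_map_dvd (SemidirectProduct.rightHom : ModGroup F →* Q2 F) x
    exact this
  obtain ⟨k, hk⟩ := hdvd
  have hk2 : k ∣ 2 := by
    have h3 := orderOf_dvd_of_pow_eq_one h2
    rw [hk, mul_comm 2 o] at h3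
    exact Nat.dvd_of_mul_dvd_mul_left (orderOf_pos c) h3
  rcases (Nat.dvd_prime Nat.prime_two).1 hk2 with rfl | rfl
  · exfalso
    apply hne
    rw [mul_one] at hk
    rw [← hk, pow_orderOf_eq_one]
    rfl
  · rw [hk, mul_comm]

theorem orderOf_modGroup_dvd (hp : p.Prime) (h5 : 2 < p) (hcard : Fintype.card F = p) (x : ModGroup F) :
    orderOf x ∣ p ∨ orderOf x ∣ p - 1 ∨ orderOf x ∣ p + 1 := by
  haveI := Fact.mk hp
  haveI : CharP F p := charP_of_card_eq_prime hcard
  have hodd : Odd p := hp.odd_of_ne_two (by omega)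
  have hinl : ∀ k : ℕ, (x ^ k).right = 1 → x ^ (2 * k) = 1 := by
    intro k hk
    have hl : x ^ k = SemidirectProduct.inl (x ^ k).left := by
      apply SemidirectProduct.ext
      · simp
      · simp [hk]
    rw [mul_comm, pow_mul, hl, ← map_pow, left_sq, map_one]
  have h2k : orderOf x ∣ 2 * orderOf x.right := orderOf_dvd_of_pow_eq_one
    (hinl _ (by rw [semidirect_pow_right, pow_orderOf_eq_one]))
  rcases orderOf_PSL_dvd (hcard ▸ hodd) x.right with h | h | h
  · rw [ringChar.eq F p] at h
    rcases (Nat.dvd_prime hp).1 h with h1 | h1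
    · rw [h1, mul_one] at h2k
      refine Or.inr (Or.inl (h2k.trans ?_))
      obtain ⟨k, hk⟩ := hodd
      exact ⟨k, by omega⟩
    · left
      apply orderOf_dvd_of_pow_eq_one
      apply SemidirectProduct.ext
      · refine Multiplicative.toAdd.injective (Subtype.ext (funext fun y => ?_))
        rw [pow_left_apply]
        refine Eq.trans ?_ (rfl : (0 : ZMod 2) = _)
        rw [← hcard]
        refine (Multiplicative.toAdd x.left).2 y x.right ?_ ?_
        · rw [hcard, ← h1, pow_orderOf_eq_one]
        · intro h0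
          rw [h0, orderOf_one] at h1
          exact hp.one_lt.ne h1
      · rw [semidirect_pow_right, ← h1, pow_orderOf_eq_one]
        rfl
  · rw [hcard] at h
    exact Or.inr (Or.inl (h2k.trans h))
  · rw [hcard] at h
    exact Or.inr (Or.inr (h2k.trans h))

/-- The main spectral statement. -/
theorem modGroup_spectrum (hp : p.Prime) (h5 : 5 ≤ p) (hcard : Fintype.card F = p) :
    Set.range (orderOf : ModGroup F → ℕ) = {n | n ∣ p ∨ n ∣ p - 1 ∨ n ∣ p + 1} ∧
      ∃ t₀ : F, t₀ ≠ 0 ∧ wit t₀ ≠ 0 ∧ wit t₀ ∈ W F := by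
  classical
  haveI := Fact.mk hp
  haveI : CharP F p := charP_of_card_eq_prime hcard
  have hodd : Odd p := hp.odd_of_ne_two (by omega)
  have hoddF : Odd (Fintype.card F) := hcard ▸ hodd
  have h2 := two_ne_zero_of_odd hoddF
  obtain ⟨D, a, b, g, hg, hD, hord⟩ := exists_singer hoddF
  rw [hcard] at hord
  -- an element of norm one and order `p + 1`
  have hdet : ((g ^ (p - 1) : GL (Fin 2) F).val).det = 1 := by
    rw [Units.val_pow_eq_pow_val, det_pow, ← hcard]
    exact FiniteField.pow_card_sub_one_eq_one _ (by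
      intro h0
      have := (g.isUnit.map (Matrix.detMonoidHom)).ne_zero
      exact this h0)
  set s : SpecialLinearGroup (Fin 2) F := ⟨(g ^ (p - 1) : GL (Fin 2) F).val, hdet⟩ with hs
  have hsq : p ^ 2 - 1 = (p + 1) * (p - 1) := by rw [← Nat.sq_sub_sq, one_pow]
  have hsord : orderOf s = p + 1 := by
    rw [← orderOf_injective (SpecialLinearGroup.toGL : SpecialLinearGroup (Fin 2) F →* GL (Fin 2) F)
      SpecialLinearGroup.toGL_injective, show SpecialLinearGroup.toGL s = g ^ (p - 1) from Units.ext rfl,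
      orderOf_pow_of_dvd (by omega) (hord ▸ hsq ▸ dvd_mul_left _ _), hord, hsq,
      Nat.mul_div_cancel _ (by omega)]
  -- shape of powers
  have shape : ∀ i : ℕ, ∃ a' b' : F, (s ^ i).val = !![a', b' * D; b', a'] := by
    intro i
    obtain ⟨a', b', h'⟩ := singer_pow D a b ((p - 1) * i)
    refine ⟨a', b', ?_⟩
    rw [← h', sl_val_pow, show s.val = (g ^ (p - 1) : GL (Fin 2) F).val from rfl,
      Units.val_pow_eq_pow_val, ← pow_mul, hg]
  obtain ⟨a₁, b₁, hs1⟩ := shape 1
  rw [pow_one] at hs1
  have hn1 : a₁ * a₁ - b₁ * b₁ * D = 1 := by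
    have := s.2
    rw [hs1] at this
    simp [Matrix.det_fin_two] at this
    linear_combination this
  -- a nonzero elliptic trace
  have hsmall : ∀ z : F, (s.val = z • 1 → False) := by
    intro z hz
    have hz2 : s ^ 2 = 1 := Subtype.ext (by
      show (s ^ 2).val = 1
      rw [sl_val_pow, hz, smul_pow, one_pow]
      have h3 := s.2
      rw [hz, Matrix.det_smul, det_one, mul_one, Fintype.card_fin] at h3
      rw [h3, one_smul])
    have := Nat.le_of_dvd (by norm_num) (orderOf_dvd_of_pow_eq_one hz2)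
    omega
  have hb1 : b₁ ≠ 0 := by
    intro h0
    apply hsmall a₁
    rw [hs1, h0]
    ext i j; fin_cases i <;> fin_cases j <;> simp
  have ha1 : a₁ ≠ 0 := by
    intro h0
    have h4 : s ^ 4 = 1 := by
      have hss : s.val * s.val = (-1 : Matrix (Fin 2) (Fin 2) F) := by
        rw [hs1, h0]
        have hneg : b₁ * D * b₁ = -1 := by rw [h0] at hn1; linear_combination -hn1
        ext i j
        fin_cases i <;> fin_cases j <;> simp [Matrix.mul_apply, Fin.sum_univ_two]
        · exact hneg
        · linear_combination hneg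
      apply Subtype.ext
      show (s ^ 4).val = 1
      rw [sl_val_pow, show (4 : ℕ) = 2 * 2 from rfl, pow_mul, sq s.val, hss, neg_one_sq]
    have := Nat.le_of_dvd (by norm_num) (orderOf_dvd_of_pow_eq_one h4)
    omega
  set t₀ : F := 2 * a₁ with ht₀
  have ht : t₀ ≠ 0 := mul_ne_zero h2 ha1
  have hns : ¬ IsSquare (t₀ ^ 2 - 4) := by
    rintro ⟨r, hr⟩
    refine hD (r / (2 * b₁)) ?_
    rw [div_pow, div_eq_iff (pow_ne_zero _ (mul_ne_zero h2 hb1)), sq r, ← hr, ht₀]
    linear_combination (4 : F) * hn1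
  have hmem := wit_mem hp (by omega) hcard ht hns
  -- nonsplit partner
  obtain ⟨X, Z, hXZ⟩ : ∃ X Z : F, X ^ 2 - D * Z ^ 2 = a₁ * a₁ - 1 := by
    have hDne : D ≠ 0 := fun h0 => hD 0 (by simp [h0])
    obtain ⟨X, Z, h⟩ := FiniteField.exists_root_sum_quadratic (R := F)
      (f := Polynomial.X ^ 2 - Polynomial.C (a₁ * a₁ - 1)) (g := Polynomial.C (-D) * Polynomial.X ^ 2)
      (Polynomial.degree_X_pow_sub_C two_pos _) (by
        rw [Polynomial.degree_C_mul_X_pow 2 (neg_ne_zero.2 hDne)]; rfl)
      (Nat.odd_iff.1 hoddF)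
    refine ⟨X, Z, ?_⟩
    simp at h
    linear_combination h
  let hh : SpecialLinearGroup (Fin 2) F := ⟨!![a₁ + X, -D * Z; Z, a₁ - X], by
    simp [Matrix.det_fin_two]; linear_combination -hXZ⟩
  have hone : trSq (QuotientGroup.mk hh : Q2 F) = t₀ ^ 2 := by
    rw [trSq_mk, ht₀]
    simp [hh, Matrix.trace_fin_two]
    ring
  have hothers : ∀ i : ℕ, trSq ((QuotientGroup.mk hh : Q2 F) * (QuotientGroup.mk s) ^ i) = t₀ ^ 2 →
      (QuotientGroup.mk s : Q2 F) ^ i = 1 := by
    intro i hi
    obtain ⟨a', b', hi'⟩ := shape i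
    rw [← QuotientGroup.mk_pow, ← QuotientGroup.mk_mul, trSq_mk, sl_val_mul, hi'] at hi
    simp [hh, Matrix.trace_fin_two, Matrix.mul_apply, Fin.sum_univ_two] at hi
    have ha' : a' * a' = 1 := by
      apply mul_left_cancel₀ (pow_ne_zero 2 ht)
      rw [ht₀] at hi ⊢
      linear_combination hi
    have hn' : a' * a' - b' * b' * D = 1 := by
      have := (s ^ i).2
      rw [hi'] at this
      simp [Matrix.det_fin_two] at this
      linear_combination this
    have hb' : b' = 0 := by
      have h0 : b' * b' * D = 0 := by linear_combination ha' - hn'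
      have hDne : D ≠ 0 := fun h0 => hD 0 (by simp [h0])
      simpa [hDne] using h0
    rw [← QuotientGroup.mk_pow, QuotientGroup.eq_one_iff, mem_center_SL_two, hi', hb']
    rcases mul_self_eq_one_iff.1 ha' with rfl | rfl
    · left; ext i j; fin_cases i <;> fin_cases j <;> simp
    · right; ext i j; fin_cases i <;> fin_cases j <;> simp
  -- split element
  obtain ⟨u, hu⟩ := IsCyclic.exists_ofOrder_eq_natCard (α := Fˣ)
  rw [Nat.card_units, Nat.card_eq_fintype_card, hcard] at hu
  let d : SpecialLinearGroup (Fin 2) F := ⟨!![(u : F), 0; 0, ((u⁻¹ : Fˣ) : F)], by simp [Matrix.det_fin_two]⟩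
  have hd : ∀ i : ℕ, (d ^ i).val = !![((u ^ i : Fˣ) : F), 0; 0, (((u⁻¹) ^ i : Fˣ) : F)] := by
    intro i
    rw [sl_val_pow]
    induction i with
    | zero => ext i j; fin_cases i <;> fin_cases j <;> simp
    | succ k ih =>
      rw [pow_succ, ih]
      ext i j; fin_cases i <;> fin_cases j <;> simp [d, Matrix.mul_apply, Fin.sum_univ_two, pow_succ]
  let h' : SpecialLinearGroup (Fin 2) F := ⟨!![t₀, -1; 1, 0], by simp [Matrix.det_fin_two]⟩
  have hone' : trSq (QuotientGroup.mk h' : Q2 F) = t₀ ^ 2 := by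
    rw [trSq_mk]; simp [h', Matrix.trace_fin_two]
  have hothers' : ∀ i : ℕ, trSq ((QuotientGroup.mk h' : Q2 F) * (QuotientGroup.mk d) ^ i) = t₀ ^ 2 →
      (QuotientGroup.mk d : Q2 F) ^ i = 1 := by
    intro i hi
    rw [← QuotientGroup.mk_pow, ← QuotientGroup.mk_mul, trSq_mk, sl_val_mul, hd] at hi
    simp [h', Matrix.trace_fin_two, Matrix.mul_apply, Fin.sum_univ_two] at hi
    have ha' : (u : F) ^ i * (u : F) ^ i = 1 := by
      apply mul_left_cancel₀ (pow_ne_zero 2 ht)
      linear_combination hi
    rw [← QuotientGroup.mk_pow, QuotientGroup.eq_one_iff, mem_center_SL_two, hd]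
    rcases mul_self_eq_one_iff.1 ha' with h1 | h1
    · left
      ext i j; fin_cases i <;> fin_cases j <;> simp [h1]
    · right
      ext i j; fin_cases i <;> fin_cases j <;> simp [h1]
  -- orders in the quotient
  obtain ⟨m, hm⟩ := hodd
  have so : orderOf (QuotientGroup.mk s : Q2 F) = m + 1 := orderOf_eq_of_iff fun k => by
    rw [← QuotientGroup.mk_pow, QuotientGroup.eq_one_iff, mem_center_SL_two,
      ← Nat.mul_dvd_mul_iff_left two_pos, show 2 * (m + 1) = p + 1 by omega, ← hsord,
      orderOf_dvd_iff_pow_eq_one, mul_comm, pow_mul]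
    constructor
    · intro h
      apply Subtype.ext
      show ((s ^ k) ^ 2).val = 1
      rw [sl_val_pow]
      rcases h with h | h <;> rw [h] <;> simp
    · intro h
      refine sl_eq_one_or_neg_one_of_sq hoddF _ (s ^ k).2 ?_
      rw [sq] at h
      exact congrArg Subtype.val h
  have do' : orderOf (QuotientGroup.mk d : Q2 F) = m := orderOf_eq_of_iff fun k => by
    rw [← QuotientGroup.mk_pow, QuotientGroup.eq_one_iff, mem_center_SL_two, hd,
      ← Nat.mul_dvd_mul_iff_left two_pos, show 2 * m = p - 1 by omega, ← hu,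
      orderOf_dvd_iff_pow_eq_one, mul_comm, pow_mul]
    constructor
    · intro h
      apply Units.ext
      rcases h with h | h <;>
      · have h00 := congrFun (congrFun h 0) 0
        simp at h00
        simp [h00]
    · intro h
      have h' : ((u ^ k : Fˣ) : F) * ((u ^ k : Fˣ) : F) = 1 := by
        rw [← Units.val_mul, ← sq, h, Units.val_one]
      rcases mul_self_eq_one_iff.1 h' with h1 | h1
      · left
        have h3 : (u⁻¹) ^ k = 1 := by rw [inv_pow, show u ^ k = 1 from Units.ext h1, inv_one]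
        ext i j; fin_cases i <;> fin_cases j <;> simp [h1, h3]
      · right
        have h3 : (u⁻¹) ^ k = -1 := by
          rw [inv_pow, show u ^ k = -1 from Units.ext h1, inv_neg, inv_one]
        ext i j; fin_cases i <;> fin_cases j <;> simp [h1, h3]
  obtain ⟨x₁, hx₁⟩ := exists_double hmem (QuotientGroup.mk hh) (QuotientGroup.mk s) hone hothers
  obtain ⟨x₂, hx₂⟩ := exists_double hmem (QuotientGroup.mk h') (QuotientGroup.mk d) hone' hothers'
  rw [so, show 2 * (m + 1) = p + 1 by omega] at hx₁
  rw [do', show 2 * m = p - 1 by omega] at hx₂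
  -- an element of order `p`
  let e : SpecialLinearGroup (Fin 2) F := ⟨!![1, 1; 0, 1], by simp [Matrix.det_fin_two]⟩
  have he : ∀ k : ℕ, (e ^ k).val = !![1, (k : F); 0, 1] := by
    intro k
    rw [sl_val_pow]
    induction k with
    | zero => ext i j; fin_cases i <;> fin_cases j <;> simp
    | succ k ih =>
      rw [pow_succ, ih]
      ext i j; fin_cases i <;> fin_cases j <;> simp [e, Matrix.mul_apply, Fin.sum_univ_two, add_comm]
  have heo : orderOf (QuotientGroup.mk e : Q2 F) = p := orderOf_eq_of_iff fun k => by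
    rw [← QuotientGroup.mk_pow, QuotientGroup.eq_one_iff, mem_center_SL_two, he,
      ← CharP.cast_eq_zero_iff F p]
    constructor
    · rintro (h | h)
      · simpa using congrFun (congrFun h 0) 1
      · simpa using congrFun (congrFun h 0) 1
    · intro h1
      left; rw [h1]; ext i j; fin_cases i <;> fin_cases j <;> simp
  have hx₃ : orderOf (SemidirectProduct.inr (φ := act) (QuotientGroup.mk e : Q2 F)) = p :=
    (orderOf_injective _ SemidirectProduct.inr_injective _).trans heo
  refine ⟨?_, t₀, ht, ?_, hmem⟩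
  · have : Finite (ModGroup F) := Finite.of_equiv _ SemidirectProduct.equivProd.symm
    ext n
    constructor
    · rintro ⟨x, rfl⟩
      exact orderOf_modGroup_dvd hp (by omega) hcard x
    · rintro (hn | hn | hn)
      · exact ⟨_, orderOf_pow_orderOf_div (orderOf_pos _).ne' (hn.trans (dvd_of_eq hx₃.symm))⟩
      · exact ⟨_, orderOf_pow_orderOf_div (orderOf_pos _).ne' (hn.trans (dvd_of_eq hx₂.symm))⟩
      · exact ⟨_, orderOf_pow_orderOf_div (orderOf_pos _).ne' (hn.trans (dvd_of_eq hx₁.symm))⟩
  · intro h0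
    have := congrFun h0 (QuotientGroup.mk hh)
    rw [wit, if_pos hone] at this
    exact one_ne_zero this

end Cfsg.Agent.H67
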